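import Cfsg.Agent.Lib.ConwayType.Frame
import Mathlib.GroupTheory.Index

/-!
# `C(z) ∩ C(y)` in a frame: the maps `actW` and `vof`, plus type, orders
-/

set_option autoImplicit false
set_option maxHeartbeats 400000
set_option synthInstance.maxSize 2048

namespace Cfsg.Agent.ConwayType

open Subgroup
open Cfsg.Agent.LargeExtraspecial (Hub)

variable {G : Type*} [Group G] {z y : G} {Q : Subgroup G}

theorem qc_w0 : ∀ {c : W}, qc c w0 = false := by decide +kernel

/-- Translation of `W`. -/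
def trans (v : W) : Equiv.Perm W where
  toFun := add v
  invFun := add v
  left_inv w := by rw [← add_assoc', add_self, (add_zero' w).2]
  right_inv w := by rw [← add_assoc', add_self, (add_zero' w).2]

theorem trans_apply (v w : W) : trans v w = add v w := rfl

namespace Frame

variable (F : Frame z y Q)

/-- The action on `W`. -/
noncomputable def actW (c : G) (w : W) : W := F.wof (c * F.m w * c⁻¹)

/-- The `W`-coordinate of `x ^ c`. -/
noncomputable def vof (c : G) : W := F.wof (c * F.x * c⁻¹)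

variable (d : Data z Q)
include d

theorem conj_m {c : G} (hc : c ∈ Dzy z y) (w : W) :
    ∃ b e, c * F.m w * c⁻¹ = F.elem false b (F.actW c w) e := by
  obtain ⟨hcz, hcy⟩ := mem_Dzy.mp hc
  have hp := d.hub.normalizes c hcz _ (F.mem w)
  obtain ⟨e, he⟩ := F.exists_elem d hp
  have h0 : fl (c * F.m w * c⁻¹) y = false := by
    rw [fl_conj_of_commute hcy, fl_eq_false]; exact F.comm_y w
  exact ⟨_, e, by rw [h0] at he; exact he⟩

theorem conj_x {c : G} (hc : c ∈ Dzy z y) :
    ∃ e, c * F.x * c⁻¹ = F.elem true (qc F.c (F.vof c)) (F.vof c) e := by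
  obtain ⟨hcz, hcy⟩ := mem_Dzy.mp hc
  have hp := d.hub.normalizes c hcz _ F.hx
  obtain ⟨e, he⟩ := F.exists_elem d hp
  have h0 : fl (c * F.x * c⁻¹) y = true := by
    rw [fl_conj_of_commute hcy]; exact F.x_y
  rw [h0, show F.wof (c * F.x * c⁻¹) = F.vof c from rfl] at he
  have hs := conj_sq (c := c) F.x_sq
  rw [he, F.elem_sq d.hub, ← pw_false z, Bool.true_and] at hs
  have hb := pw_inj d.hub.ne_one hs
  refine ⟨e, ?_⟩
  have hb' : fl (c * F.x * c⁻¹) F.x = qc F.c (F.vof c) := by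
    revert hb; cases fl (c * F.x * c⁻¹) F.x <;> cases qc F.c (F.vof c) <;> simp
  rwa [hb'] at he

theorem wof_conj {c p : G} (hc : c ∈ Dzy z y) (hp : p ∈ Q) :
    F.wof (c * p * c⁻¹) = add (smul (fl p y) (F.vof c)) (F.actW c (F.wof p)) := by
  have h := d.hub
  obtain ⟨hcz, hcy⟩ := mem_Dzy.mp hc
  obtain ⟨e, he⟩ := F.exists_elem d hp
  have hmem : ∀ r ∈ Q, c * r * c⁻¹ ∈ Q := h.normalizes c hcz
  have e0 : c * p * c⁻¹ = (c * pw F.x (fl p y) * c⁻¹) * pw y (fl p F.x) *
      (c * F.m (F.wof p) * c⁻¹) * pw z e := by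
    conv_lhs => rw [he, elem]
    calc c * (pw F.x (fl p y) * pw y (fl p F.x) * F.m (F.wof p) * pw z e) * c⁻¹
        = (c * pw F.x (fl p y) * c⁻¹) * (c * pw y (fl p F.x) * c⁻¹) *
          (c * F.m (F.wof p) * c⁻¹) * (c * pw z e * c⁻¹) := by group
      _ = _ := by rw [conj_of_commute (pw_commute hcy _), conj_of_commute (pw_commute hcz _)]
  have m1 := hmem _ (pw_mem F.hx (fl p y))
  have m2 := mul_mem m1 (pw_mem F.sing.1 (fl p F.x))
  have m3 := hmem _ (F.mem (F.wof p))
  rw [e0, F.wof_mul h (mul_mem m2 m3) (pw_mem h.mem e), F.wof_mul h m2 m3,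
    F.wof_mul h m1 (pw_mem F.sing.1 _), F.wof_z h, F.wof_y h, (add_zero' _).1, (add_zero' _).1]
  congr 1
  cases fl p y
  · simp only [pw_false, mul_one, mul_inv_cancel]
    exact F.wof_z h false
  · rfl

theorem actW_mul {c c' : G} (hc : c ∈ Dzy z y) (hc' : c' ∈ Dzy z y) (w : W) :
    F.actW (c * c') w = F.actW c (F.actW c' w) := by
  obtain ⟨hcz', hcy'⟩ := mem_Dzy.mp hc'
  have h0 : fl (c' * F.m w * c'⁻¹) y = false := by
    rw [fl_conj_of_commute hcy', fl_eq_false]; exact F.comm_y w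
  show F.wof (c * c' * F.m w * (c * c')⁻¹) = _
  rw [show c * c' * F.m w * (c * c')⁻¹ = c * (c' * F.m w * c'⁻¹) * c⁻¹ by group,
    F.wof_conj d hc (d.hub.normalizes c' hcz' _ (F.mem w)), h0]
  exact (add_zero' _).2

theorem vof_mul {c c' : G} (hc : c ∈ Dzy z y) (hc' : c' ∈ Dzy z y) :
    F.vof (c * c') = add (F.vof c) (F.actW c (F.vof c')) := by
  obtain ⟨hcz', hcy'⟩ := mem_Dzy.mp hc'
  have h0 : fl (c' * F.x * c'⁻¹) y = true := by
    rw [fl_conj_of_commute hcy']; exact F.x_y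
  show F.wof (c * c' * F.x * (c * c')⁻¹) = _
  rw [show c * c' * F.x * (c * c')⁻¹ = c * (c' * F.x * c'⁻¹) * c⁻¹ by group,
    F.wof_conj d hc (d.hub.normalizes c' hcz' _ F.hx), h0]
  rfl

theorem actW_one (w : W) : F.actW 1 w = w := by
  simp only [actW, one_mul, inv_one, mul_one]; exact F.wof_m d.hub w

theorem vof_one : F.vof 1 = w0 := by
  simp only [vof, one_mul, inv_one, mul_one]
  have e : F.x = F.elem true false w0 false := by simp [elem, F.zero]
  rw [e, F.wof_elem d.hub]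

theorem actW_add {c : G} (hc : c ∈ Dzy z y) (u v : W) :
    F.actW c (add u v) = add (F.actW c u) (F.actW c v) := by
  have h := d.hub
  obtain ⟨hcz, -⟩ := mem_Dzy.mp hc
  obtain ⟨e, he⟩ := F.m_add u v
  have key : c * F.m u * c⁻¹ * (c * F.m v * c⁻¹) = c * F.m (add u v) * c⁻¹ * pw z e := by
    rw [show c * F.m u * c⁻¹ * (c * F.m v * c⁻¹) = c * (F.m u * F.m v) * c⁻¹ by group, he,
      show c * (F.m (add u v) * pw z e) * c⁻¹ = c * F.m (add u v) * c⁻¹ * (c * pw z e * c⁻¹) by group,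
      conj_of_commute (pw_commute hcz _)]
  have := congrArg F.wof key
  rw [F.wof_mul h (h.normalizes c hcz _ (F.mem u)) (h.normalizes c hcz _ (F.mem v)),
    F.wof_mul h (h.normalizes c hcz _ (F.mem _)) (pw_mem h.mem e), F.wof_z h, (add_zero' _).1] at this
  exact this.symm

theorem actW_q {c : G} (hc : c ∈ Dzy z y) (w : W) : qc F.c (F.actW c w) = qc F.c w := by
  obtain ⟨b, e, he⟩ := F.conj_m d hc w
  have key : c * F.m w * c⁻¹ * (c * F.m w * c⁻¹) = c * (F.m w * F.m w) * c⁻¹ := by group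
  rw [F.m_sq, conj_of_commute (pw_commute (mem_Dzy.mp hc).1 _), he, F.elem_sq d.hub] at key
  simpa using pw_inj d.hub.ne_one key

/-- The action as a homomorphism. -/
noncomputable def permHom : Dzy z y →* Equiv.Perm W where
  toFun c :=
    { toFun := F.actW c
      invFun := F.actW (c : G)⁻¹
      left_inv := fun w => by rw [← F.actW_mul d (inv_mem c.2) c.2, inv_mul_cancel, F.actW_one d]
      right_inv := fun w => by rw [← F.actW_mul d c.2 (inv_mem c.2), mul_inv_cancel, F.actW_one d] }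
  map_one' := Equiv.ext fun w => F.actW_one d w
  map_mul' c c' := Equiv.ext fun w => F.actW_mul d c.2 c'.2 w

theorem permHom_apply (c : Dzy z y) (w : W) : F.permHom d c w = F.actW c w := rfl

theorem permHom_le : (F.permHom d).range ≤ iso F.c := by
  rintro _ ⟨c, rfl⟩
  exact ⟨F.actW_add d c.2, F.actW_q d c.2⟩

theorem mem_ker {c : Dzy z y} : c ∈ (F.permHom d).ker ↔ ∀ w, F.actW c w = w := by
  rw [MonoidHom.mem_ker]
  exact ⟨fun e w => congrArg (fun σ : Equiv.Perm W => σ w) e, fun e => Equiv.ext e⟩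

theorem conj_m' {k : G} (hk : k ∈ Dzy z y) (w : W) :
    ∃ e, k * F.m w * k⁻¹ = F.elem false (B (F.actW k w) (F.vof k)) (F.actW k w) e := by
  obtain ⟨b, e, he⟩ := F.conj_m d hk w
  obtain ⟨e', he'⟩ := F.conj_x d hk
  have h1 : fl (k * F.m w * k⁻¹) (k * F.x * k⁻¹) = false := by rw [fl_conj, fl_symm, F.x_m]
  rw [he, he', F.fl_elem_elem d.hub, B_symm] at h1
  refine ⟨e, ?_⟩
  rw [he]
  congr 1
  revert h1; cases b <;> cases B (F.actW k w) (F.vof k) <;> simp

theorem conj_m_ker {k : G} (hk : k ∈ Dzy z y) (hk' : ∀ w, F.actW k w = w) (w : W) :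
    ∃ e, k * F.m w * k⁻¹ = F.elem false (B w (F.vof k)) w e := by
  simpa [hk' w] using F.conj_m' d hk w

theorem mem_of_vof {k : G} (hk : k ∈ Dzy z y) (hk' : ∀ w, F.actW k w = w) (hv : F.vof k = w0) :
    k ∈ Q := by
  have h := d.hub
  obtain ⟨hkz, hky⟩ := mem_Dzy.mp hk
  obtain ⟨ex, hex⟩ := F.conj_x d hk
  rw [hv, qc_w0] at hex
  have hx' : k * F.x * k⁻¹ = F.x * pw z ex := by simpa [elem, F.zero] using hex
  have hm' : ∀ w, ∃ e, k * F.m w * k⁻¹ = F.m w * pw z e := fun w => by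
    obtain ⟨e, he⟩ := F.conj_m_ker d hk hk' w
    rw [hv, B_w0] at he
    exact ⟨e, by simpa [elem] using he⟩
  obtain ⟨l0, hl0⟩ := hm' f0
  obtain ⟨l1, hl1⟩ := hm' f1
  obtain ⟨l2, hl2⟩ := hm' f2
  obtain ⟨l3, hl3⟩ := hm' f3
  obtain ⟨l4, hl4⟩ := hm' f4
  obtain ⟨l5, hl5⟩ := hm' f5
  let u : W := dual (l0, l1, l2, l3, l4, l5)
  let q₁ := F.elem false ex u false
  have hq₁ : q₁ ∈ Q := F.elem_mem h _ _ _ _
  have fix : ∀ r ∈ Q, ∀ e, k * r * k⁻¹ = r * pw z e → fl q₁ r = e → Commute (q₁⁻¹ * k) r := by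
    intro r hr e he hfl
    have h2 := fl_spec h hq₁ hr
    rw [hfl, ← he] at h2
    show q₁⁻¹ * k * r = r * (q₁⁻¹ * k)
    calc q₁⁻¹ * k * r = q₁⁻¹ * (k * r * k⁻¹) * k := by group
      _ = q₁⁻¹ * (q₁ * r * q₁⁻¹) * k := by rw [h2]
      _ = r * (q₁⁻¹ * k) := by group
  have cx : Commute (q₁⁻¹ * k) F.x := fix _ F.hx ex hx' (F.fl_x h _ _ _ _)
  have c0 := fix _ (F.mem f0) l0 hl0
    ((F.fl_m h _ _ _ _ _).trans (vcoord (l0, l1, l2, l3, l4, l5)).1)
  have c1 := fix _ (F.mem f1) l1 hl1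
    ((F.fl_m h _ _ _ _ _).trans (vcoord (l0, l1, l2, l3, l4, l5)).2.1)
  have c2 := fix _ (F.mem f2) l2 hl2
    ((F.fl_m h _ _ _ _ _).trans (vcoord (l0, l1, l2, l3, l4, l5)).2.2.1)
  have c3 := fix _ (F.mem f3) l3 hl3
    ((F.fl_m h _ _ _ _ _).trans (vcoord (l0, l1, l2, l3, l4, l5)).2.2.2.1)
  have c4 := fix _ (F.mem f4) l4 hl4
    ((F.fl_m h _ _ _ _ _).trans (vcoord (l0, l1, l2, l3, l4, l5)).2.2.2.2.1)
  have c5 := fix _ (F.mem f5) l5 hl5
    ((F.fl_m h _ _ _ _ _).trans (vcoord (l0, l1, l2, l3, l4, l5)).2.2.2.2.2)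
  have cy : Commute (q₁⁻¹ * k) y :=
    fix _ F.sing.1 false (by rw [conj_of_commute hky]; simp) (F.fl_y h _ _ _ _)
  have cz : Commute (q₁⁻¹ * k) z := ((h.central _ (inv_mem hq₁))).mul_left hkz
  have add_comm_m : ∀ u v, Commute (q₁⁻¹ * k) (F.m u) → Commute (q₁⁻¹ * k) (F.m v) →
      Commute (q₁⁻¹ * k) (F.m (add u v)) := by
    intro u v hu hv'
    obtain ⟨e, he⟩ := F.m_add u v
    have he' : F.m (add u v) = F.m u * F.m v * (pw z e)⁻¹ := by rw [he, mul_inv_cancel_right]
    rw [he']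
    exact (hu.mul_right hv').mul_right (pw_commute cz _).inv_right
  have cs : ∀ (b : Bool) (u : W), Commute (q₁⁻¹ * k) (F.m u) → Commute (q₁⁻¹ * k) (F.m (smul b u)) := by
    intro b u hu
    cases b
    · show Commute _ (F.m w0); rw [F.zero]; exact Commute.one_right _
    · exact hu
  have cm : ∀ w, Commute (q₁⁻¹ * k) (F.m w) := fun w => by
    rw [decomp w]
    exact add_comm_m _ _ (add_comm_m _ _ (add_comm_m _ _ (cs _ _ c0) (cs _ _ c1))
      (add_comm_m _ _ (cs _ _ c2) (cs _ _ c3))) (add_comm_m _ _ (cs _ _ c4) (cs _ _ c5))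
  have call : ∀ r ∈ Q, Commute (q₁⁻¹ * k) r := fun r hr => by
    obtain ⟨e, he⟩ := F.exists_elem d hr
    rw [he, elem]
    exact (((pw_commute cx _).mul_right (pw_commute cy _)).mul_right (cm _)).mul_right (pw_commute cz _)
  have hQ : q₁⁻¹ * k ∈ Q := by
    rcases h.self _ call with e | e <;> rw [e]
    exacts [one_mem _, h.mem]
  simpa using mul_mem hq₁ hQ

theorem of_mem_Q {p : G} (hp : p ∈ Q) (hy : Commute p y) :
    p ∈ Dzy z y ∧ (∀ w, F.actW p w = w) ∧ F.vof p = w0 := by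
  have h := d.hub
  refine ⟨mem_Dzy.mpr ⟨h.central p hp, hy⟩, fun w => ?_, ?_⟩
  · show F.wof _ = w
    rw [fl_spec h hp (F.mem w), F.wof_mul h (F.mem w) (pw_mem h.mem _), F.wof_z h, (add_zero' _).1,
      F.wof_m h]
  · show F.wof _ = w0
    rw [fl_spec h hp F.hx, F.wof_mul h F.hx (pw_mem h.mem _), F.wof_z h, (add_zero' _).1]
    have e : F.x = F.elem true false w0 false := by simp [elem, F.zero]
    rw [e, F.wof_elem h]

/-- The translation by `vof` on the kernel of the action. -/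
noncomputable def vHom : (F.permHom d).ker →* Equiv.Perm W where
  toFun k := trans (F.vof ((k : Dzy z y) : G))
  map_one' := Equiv.ext fun w => by
    show add (F.vof 1) w = w
    rw [F.vof_one d]; exact (add_zero' w).2
  map_mul' k k' := Equiv.ext fun w => by
    show add (F.vof (((k : Dzy z y) : G) * ((k' : Dzy z y) : G))) w =
      add (F.vof ((k : Dzy z y) : G)) (add (F.vof ((k' : Dzy z y) : G)) w)
    rw [F.vof_mul d (k : Dzy z y).2 (k' : Dzy z y).2, (F.mem_ker d).mp k.2, add_assoc']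

theorem card_cQy (F : Frame z y Q) : Nat.card {p // p ∈ Q ∧ Commute p y} = 256 := by
  have h := d.hub
  rw [← Nat.card_congr (Equiv.ofBijective
    (fun t : Bool × W × Bool => (⟨F.elem false t.1 t.2.1 t.2.2,
      F.elem_mem h _ _ _ _, fl_eq_false.mp (F.fl_y h _ _ _ _)⟩ : {p // p ∈ Q ∧ Commute p y})) ⟨?_, ?_⟩)]
  · simp
  · intro s t e
    obtain ⟨-, h2, h3, h4⟩ := F.elem_inj h (congrArg Subtype.val e)
    exact Prod.ext h2 (Prod.ext h3 h4)
  · rintro ⟨p, hp, hy⟩
    obtain ⟨e, he⟩ := F.exists_elem d hp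
    rw [fl_eq_false.mpr hy] at he
    exact ⟨(_, _, e), Subtype.ext he.symm⟩

theorem card_ker [Finite G] :
    Nat.card (F.permHom d).ker = 256 * Nat.card (F.vHom d).range ∧ Nat.card (F.vHom d).range ∣ 64 := by
  constructor
  · rw [card_eq_card_quotient_mul_card_subgroup (F.vHom d).ker,
      Nat.card_congr (QuotientGroup.quotientKerEquivRange _).toEquiv, mul_comm]
    congr 1
    rw [← F.card_cQy d]
    refine Nat.card_congr (Equiv.ofBijective (fun k => (⟨((k : (F.permHom d).ker) : Dzy z y), ?_, ?_⟩ :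
      {p // p ∈ Q ∧ Commute p y})) ⟨?_, ?_⟩)
    · have hk := MonoidHom.mem_ker.mp k.2
      have hv : add (F.vof ((k : (F.permHom d).ker) : Dzy z y)) w0 = w0 :=
        congrArg (fun σ : Equiv.Perm W => σ w0) hk
      rw [(add_zero' _).1] at hv
      exact F.mem_of_vof d (k : (F.permHom d).ker).1.2 ((F.mem_ker d).mp (k : (F.permHom d).ker).2) hv
    · exact (mem_Dzy.mp (k : (F.permHom d).ker).1.2).2
    · intro a b e
      simp only [Subtype.mk.injEq] at e
      exact Subtype.ext (Subtype.ext (Subtype.ext e))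
    · rintro ⟨p, hp, hy⟩
      obtain ⟨h1, h2, h3⟩ := F.of_mem_Q d hp hy
      refine ⟨⟨⟨⟨p, h1⟩, (F.mem_ker d).mpr h2⟩, MonoidHom.mem_ker.mpr (Equiv.ext fun w => ?_)⟩, rfl⟩
      show add (F.vof p) w = w
      rw [h3]; exact (add_zero' w).2
  · have hle : Nat.card (F.vHom d).range ≤ 64 := by
      refine (Nat.card_le_card_of_injective (fun σ : (F.vHom d).range => (σ : Equiv.Perm W) w0) ?_).trans
        (by simp)
      rintro ⟨_, ⟨a, rfl⟩⟩ ⟨_, ⟨b, rfl⟩⟩ e
      change add (F.vof ((a : Dzy z y) : G)) w0 = add (F.vof ((b : Dzy z y) : G)) w0 at e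
      rw [(add_zero' _).1, (add_zero' _).1] at e
      exact Subtype.ext (congrArg trans e)
    have hp : IsPGroup 2 (F.vHom d).range := by
      rintro ⟨_, ⟨a, rfl⟩⟩
      refine ⟨1, Subtype.ext (Equiv.ext fun w => ?_)⟩
      show (((F.vHom d a) ^ (2 ^ 1) : Equiv.Perm W)) w = w
      rw [pow_one, pow_two, Equiv.Perm.mul_apply]
      show add (F.vof ((a : Dzy z y) : G)) (add (F.vof ((a : Dzy z y) : G)) w) = w
      rw [← add_assoc', add_self, (add_zero' w).2]
    have : Fact (Nat.Prime 2) := ⟨Nat.prime_two⟩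
    obtain ⟨n, hn⟩ := hp.exists_card_eq
    rw [hn] at hle ⊢
    have : n ≤ 6 := (Nat.pow_le_pow_iff_right (le_refl 2)).mp (le_of_le_of_eq hle (by norm_num))
    exact (Nat.pow_dvd_pow 2 this).trans (by norm_num)

theorem card_D [Finite G] : Nat.card (Dzy z y) =
    Nat.card (F.permHom d).range * (256 * Nat.card (F.vHom d).range) := by
  rw [card_eq_card_quotient_mul_card_subgroup (F.permHom d).ker,
    Nat.card_congr (QuotientGroup.quotientKerEquivRange _).toEquiv, (F.card_ker d).1]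

end Frame

variable [Finite G]

theorem orbit_card (d : Data z Q) (hy : Sing z Q y) :
    letI := singAction d.hub
    Nat.card (MulAction.orbit (centralizer ({z} : Set G)) (⟨y, hy⟩ : {p // Sing z Q p})) *
      Nat.card (Dzy z y) = 89181388800 := by
  letI := singAction d.hub
  classical
  have hstab : MulAction.stabilizer (centralizer ({z} : Set G)) (⟨y, hy⟩ : {p // Sing z Q p}) =
      (Dzy z y).subgroupOf (centralizer ({z} : Set G)) := by
    ext c
    rw [MulAction.mem_stabilizer_iff, mem_subgroupOf, mem_Dzy]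
    refine ⟨fun e => ⟨mem_cz.mp c.2, ?_⟩, fun e => Subtype.ext (conj_of_commute e.2)⟩
    exact mul_inv_eq_iff_eq_mul.mp (congrArg Subtype.val e)
  rw [← d.cardC, ← Nat.card_congr (subgroupOfEquivOfLe (Dzy_le (z := z) (y := y))).toEquiv, ← hstab,
    card_eq_card_quotient_mul_card_subgroup
      (MulAction.stabilizer (centralizer ({z} : Set G)) (⟨y, hy⟩ : {p // Sing z Q p})),
    Nat.card_congr (MulAction.orbitEquivQuotientStabilizer _ _)]

theorem orbit_even (d : Data z Q) (hy : Sing z Q y) :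
    letI := singAction d.hub
    Even (Nat.card (MulAction.orbit (centralizer ({z} : Set G)) (⟨y, hy⟩ : {p // Sing z Q p}))) := by
  letI := singAction d.hub
  have h := d.hub
  have hclosed : ∀ p : MulAction.orbit (centralizer ({z} : Set G)) (⟨y, hy⟩ : {p // Sing z Q p}),
      (⟨_, (p : {p // Sing z Q p}).2.mul_z h⟩ : {p // Sing z Q p}) ∈
        MulAction.orbit (centralizer ({z} : Set G)) (⟨y, hy⟩ : {p // Sing z Q p}) := by
    rintro ⟨⟨p, hp⟩, hmem⟩
    obtain ⟨r, hr, hr'⟩ := h.exists_not_commute hp.2.2.1 hp.2.2.2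
    obtain ⟨c, hc⟩ := hmem
    refine ⟨⟨r, mem_cz.mpr (h.central r hr)⟩ * c, Subtype.ext ?_⟩
    have hc' : (c : G) * y * (c : G)⁻¹ = p := congrArg Subtype.val hc
    show r * (c : G) * y * (r * (c : G))⁻¹ = p * z
    rw [show r * (c : G) * y * (r * (c : G))⁻¹ = r * ((c : G) * y * (c : G)⁻¹) * r⁻¹ by group, hc']
    exact (h.comm r hr p hp.1).resolve_left fun e => hr' (mul_inv_eq_iff_eq_mul.mp e).symm
  refine even_card_of_involution (fun p => ⟨_, hclosed p⟩) (fun p => Subtype.ext (Subtype.ext ?_))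
    fun p e => h.ne_one ?_
  · show (p : {p // Sing z Q p}).1 * z * z = (p : {p // Sing z Q p}).1
    rw [mul_assoc, h.sq, mul_one]
  · have e' : (p : {p // Sing z Q p}).1 * z = (p : {p // Sing z Q p}).1 :=
      congrArg Subtype.val (congrArg Subtype.val e)
    simpa using e'

theorem Frame.range_le_addPerm (F : Frame z y Q) (d : Data z Q) :
    (F.permHom d).range ≤ addPerm := by
  rintro σ hσ
  exact (F.permHom_le d hσ).1

theorem Frame.c_eq (F : Frame z y Q) (d : Data z Q) : F.c = w0 := by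
  by_contra hne
  have hcard : Nat.card {p // Sing z Q p} = 238 := by
    rw [F.card_sing d, decide_eq_false hne]; rfl
  letI := singAction d.hub
  have horb : ∀ p : {p // Sing z Q p},
      15 ∣ Nat.card (MulAction.orbit (centralizer ({z} : Set G)) p) := by
    rintro ⟨y', hy'⟩
    obtain ⟨F'⟩ := exists_frame d hy'
    have hc := orbit_card d hy'
    have hr : Nat.card (F'.permHom d).range ∣ 20158709760 :=
      (card_dvd_of_le (F'.range_le_addPerm d)).trans card_addPerm
    obtain ⟨-, hv⟩ := F'.card_ker d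
    rw [F'.card_D d] at hc
    set n := Nat.card (MulAction.orbit (centralizer ({z} : Set G)) (⟨y', hy'⟩ : {p // Sing z Q p}))
    obtain ⟨t, ht⟩ := Nat.mul_dvd_mul hr (Nat.mul_dvd_mul_left 256 hv)
    have h1 : n * (20158709760 * (256 * 64)) = 89181388800 * t :=
      (congrArg (n * ·) ht).trans ((mul_assoc n _ t).symm.trans (congrArg (· * t) hc))
    have h2 : n * 55552 = 15 * t := by linarith
    exact (show Nat.Coprime 15 55552 by norm_num).dvd_of_dvd_mul_right ⟨t, h2⟩
  have h15 : 15 ∣ Nat.card {p // Sing z Q p} := by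
    classical
    cases nonempty_fintype {p // Sing z Q p}
    rw [Nat.card_congr (MulAction.selfEquivSigmaOrbits (centralizer ({z} : Set G)) _), Nat.card_sigma]
    exact Finset.dvd_sum fun i _ => horb _
  rw [hcard] at h15
  norm_num at h15

theorem Frame.qc_eq (F : Frame z y Q) (d : Data z Q) (w : W) : qc F.c w = q w := by
  rw [F.c_eq d, qc_zero]

theorem Frame.orders (F : Frame z y Q) (d : Data z Q) :
    (∀ p, Sing z Q p → ∃ c, Commute c z ∧ c * y * c⁻¹ = p) ∧ Nat.card (Dzy z y) = 330301440 ∧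
      (∀ π : Equiv.Perm (Fin 8), Equiv.Perm.sign π = 1 → ∃ c ∈ Dzy z y, ∀ w, F.actW c w = act π w) ∧
      (∀ c ∈ Dzy z y, ∃ π : Equiv.Perm (Fin 8), Equiv.Perm.sign π = 1 ∧ ∀ w, F.actW c w = act π w) := by
  have hm := F.c_eq d
  letI := singAction d.hub
  have hcardS : Nat.card {p // Sing z Q p} = 270 := by rw [F.card_sing d, hm]; rfl
  have hc := orbit_card d F.sing
  have he := orbit_even d F.sing
  set n := Nat.card (MulAction.orbit (centralizer ({z} : Set G)) (⟨y, F.sing⟩ : {p // Sing z Q p}))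
  have hn : n ≤ 270 := hcardS ▸ Finite.card_subtype_le _
  have hle : (F.permHom d).range ≤ rho8.range :=
    (hm ▸ F.permHom_le d).trans iso_le_rho8
  have hj : Nat.card (F.permHom d).range ∣ 40320 := card_rho8 ▸ card_dvd_of_le hle
  obtain ⟨-, hv⟩ := F.card_ker d
  rw [F.card_D d] at hc
  have hn270 : n = 270 := by
    obtain ⟨t, ht⟩ := Nat.mul_dvd_mul hj (Nat.mul_dvd_mul_left 256 hv)
    have h1 : n * (40320 * (256 * 64)) = 89181388800 * t := by rw [ht, ← mul_assoc n, hc]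
    have h2 : n = 135 * t := by omega
    have hn0 : n ≠ 0 := fun e => by rw [e, zero_mul] at hc; norm_num at hc
    obtain ⟨s, hs⟩ := he
    omega
  rw [hn270] at hc
  set r := Nat.card (F.permHom d).range
  set K := Nat.card (F.vHom d).range
  have hrK : r * K = 1290240 := by
    rw [show 270 * (r * (256 * K)) = 69120 * (r * K) by ring] at hc
    omega
  have hK : K ≤ 64 := Nat.le_of_dvd (by norm_num) hv
  have hr : 20160 ≤ r := by
    by_contra h
    have : r * K ≤ 20159 * 64 := Nat.mul_le_mul (by omega) hK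
    omega
  have hrle : r ≤ 40320 := Nat.le_of_dvd (by norm_num) hj
  have hA : ∀ π : Equiv.Perm (Fin 8), Equiv.Perm.sign π = 1 →
      ∃ c ∈ Dzy z y, ∀ w, F.actW c w = act π w := by
    intro π hπ
    have hcard : Nat.card ((F.permHom d).range.comap rho8) = r := by
      rw [← card_map_of_injective (K := (F.permHom d).range.comap rho8) rho8_inj, map_comap_eq,
        inf_eq_right.mpr hle]
    obtain ⟨c, hc'⟩ : π ∈ (F.permHom d).range.comap rho8 :=
      alternating_le_of_card (hcard ▸ hr) (Equiv.Perm.mem_alternatingGroup.mpr hπ)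
    exact ⟨c, c.2, fun w => by rw [← F.permHom_apply d, hc']; rfl⟩
  have hclos : ∀ v, ∃ k ∈ Dzy z y, (∀ w, F.actW k w = w) ∧ F.vof k = v := by
    let S : W → Prop := fun v => ∃ k ∈ Dzy z y, (∀ w, F.actW k w = w) ∧ F.vof k = v
    obtain ⟨v₀, hv₀, hne⟩ : ∃ v, S v ∧ v ≠ w0 := by
      by_contra hno
      push Not at hno
      have h1 : K = 1 := by
        rw [show K = Nat.card (F.vHom d).range from rfl, Nat.card_eq_one_iff_unique]
        refine ⟨⟨?_⟩, ⟨1⟩⟩
        rintro ⟨_, a, rfl⟩ ⟨_, b, rfl⟩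
        refine Subtype.ext (congrArg trans ?_)
        rw [hno _ ⟨_, (a : Dzy z y).2, (F.mem_ker d).mp a.2, rfl⟩,
          hno _ ⟨_, (b : Dzy z y).2, (F.mem_ker d).mp b.2, rfl⟩]
      rw [h1, mul_one] at hrK
      omega
    refine irreducible (S := S) ?_ ?_ hv₀ hne
    · rintro a b ⟨k, h1, h2, rfl⟩ ⟨k', h1', h2', rfl⟩
      exact ⟨k * k', mul_mem h1 h1', fun w => by rw [F.actW_mul d h1 h1', h2', h2],
        by rw [F.vof_mul d h1 h1', h2]⟩
    · rintro π hπ a ⟨k, h1, h2, rfl⟩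
      obtain ⟨c₀, hc₀, hact⟩ := hA π hπ
      have hi : c₀⁻¹ ∈ Dzy z y := inv_mem hc₀
      refine ⟨c₀ * k * c₀⁻¹, mul_mem (mul_mem hc₀ h1) hi, fun w => ?_, ?_⟩
      · rw [F.actW_mul d (mul_mem hc₀ h1) hi, F.actW_mul d hc₀ h1, h2,
          ← F.actW_mul d hc₀ hi, mul_inv_cancel, F.actW_one d]
      · rw [F.vof_mul d (mul_mem hc₀ h1) hi, F.vof_mul d hc₀ h1, F.actW_mul d hc₀ h1, h2, hact]
        have e0 : add (F.vof c₀) (F.actW c₀ (F.vof c₀⁻¹)) = w0 := by
          rw [← F.vof_mul d hc₀ hi, mul_inv_cancel, F.vof_one d]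
        rw [add_comm' (F.vof c₀), add_assoc', e0, (add_zero' _).1]
  have hK64 : K = 64 := by
    refine le_antisymm hK (le_of_eq_of_le (by simp) (Nat.card_le_card_of_surjective
      (fun σ : (F.vHom d).range => (σ : Equiv.Perm W) w0) fun v => ?_))
    obtain ⟨k, h1, h2, h3⟩ := hclos v
    refine ⟨⟨_, ⟨⟨⟨k, h1⟩, (F.mem_ker d).mpr h2⟩, rfl⟩⟩, ?_⟩
    show add (F.vof k) w0 = v
    rw [h3, (add_zero' v).1]
  rw [hK64] at hrK
  refine ⟨fun p hp => ?_, ?_, hA, fun c hc' => ?_⟩
  · have huniv : MulAction.orbit (centralizer ({z} : Set G)) (⟨y, F.sing⟩ : {p // Sing z Q p}) =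
        Set.univ := by
      refine Set.eq_of_subset_of_ncard_le (Set.subset_univ _) ?_
      rw [Set.ncard_univ, hcardS, ← Nat.card_coe_set_eq]
      exact le_of_eq hn270.symm
    obtain ⟨c, hc'⟩ : (⟨p, hp⟩ : {p // Sing z Q p}) ∈
        MulAction.orbit (centralizer ({z} : Set G)) (⟨y, F.sing⟩ : {p // Sing z Q p}) :=
      huniv ▸ Set.mem_univ _
    exact ⟨c, mem_cz.mp c.2, congrArg Subtype.val hc'⟩
  · rw [F.card_D d, show Nat.card (F.vHom d).range = 64 from hK64,
      show Nat.card (F.permHom d).range = 20160 by show r = _; omega]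
  · obtain ⟨τ, hτ⟩ := hle ⟨⟨c, hc'⟩, rfl⟩
    refine ⟨τ, ?_, fun w => by rw [← F.permHom_apply d ⟨c, hc'⟩, ← hτ]; rfl⟩
    have hmem : τ ∈ (F.permHom d).range.comap rho8 := ⟨⟨c, hc'⟩, hτ.symm⟩
    have hcard : Nat.card ((F.permHom d).range.comap rho8) = r := by
      rw [← card_map_of_injective (K := (F.permHom d).range.comap rho8) rho8_inj, map_comap_eq,
        inf_eq_right.mpr hle]
    have heq : alternatingGroup (Fin 8) = (F.permHom d).range.comap rho8 := by
      refine eq_of_le_of_card_ge (alternating_le_of_card (hcard ▸ hr)) ?_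
      have := two_mul_nat_card_alternatingGroup (α := Fin 8)
      rw [Nat.card_eq_fintype_card (α := Equiv.Perm (Fin 8)), Fintype.card_perm, Fintype.card_fin,
        show Nat.factorial 8 = 40320 from rfl] at this
      omega
    rwa [← heq, Equiv.Perm.mem_alternatingGroup] at hmem

end Cfsg.Agent.ConwayType
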