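import Cfsg.Agent.Lib.ConwayType.Perm
import Mathlib.GroupTheory.SpecificGroups.Alternating

/-!
# Transitivity of the alternating group on eight points on pairs of vectors

The tables list, for each target, three-cycles whose product carries the base vector there.
-/

set_option autoImplicit false
set_option maxHeartbeats 400000
set_option synthInstance.maxSize 2048

namespace Cfsg.Agent.ConwayType

/-- The three-cycle `a → b → c`. -/
def cyc (t : Fin 8 × Fin 8 × Fin 8) : Equiv.Perm (Fin 8) :=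
  Equiv.swap t.1 t.2.1 * Equiv.swap t.2.1 t.2.2

/-- A product of three-cycles. -/
def prodC (L : List (Fin 8 × Fin 8 × Fin 8)) : Equiv.Perm (Fin 8) := (L.map cyc).prod

/-- No degenerate factor. -/
def Good (L : List (Fin 8 × Fin 8 × Fin 8)) : Prop := ∀ t ∈ L, t.1 ≠ t.2.1 ∧ t.2.1 ≠ t.2.2

instance (L : List (Fin 8 × Fin 8 × Fin 8)) : Decidable (Good L) :=
  inferInstanceAs (Decidable (∀ t ∈ L, t.1 ≠ t.2.1 ∧ t.2.1 ≠ t.2.2))

/-- The singular base vector. -/
def rS : W := (true, true, true, true, false, false)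
/-- The singular vector orthogonal to `rS`. -/
def rS' : W := (true, true, false, false, true, true)
/-- The nonsingular base vector. -/
def rN : W := (true, true, false, false, false, false)
/-- The nonsingular vector not orthogonal to `rN`. -/
def rN' : W := (true, false, true, false, false, false)

/-- Products of three-cycles. -/
def tblS : List (List (Fin 8 × Fin 8 × Fin 8)) :=
  [[], [(0, 4, 3)], [(0, 5, 3)], [(0, 6, 3)], [(0, 4, 2)], [(0, 5, 2)], [(0, 6, 2)],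
    [(0, 1, 7), (0, 1, 6)], [(0, 1, 7), (0, 1, 5)], [(0, 1, 7), (0, 1, 4)], [(0, 4, 1)],
    [(0, 5, 1)], [(0, 6, 1)], [(0, 2, 7), (0, 1, 6)], [(0, 2, 7), (0, 1, 5)],
    [(0, 2, 7), (0, 1, 4)], [(0, 3, 7), (0, 1, 6)], [(0, 3, 7), (0, 1, 5)],
    [(0, 3, 7), (0, 1, 4)], [(0, 1, 7)], [(0, 1, 4)], [(0, 1, 5)], [(0, 1, 6)],
    [(0, 3, 5), (0, 1, 4)], [(0, 3, 6), (0, 1, 4)], [(0, 3, 6), (0, 1, 5)],
    [(0, 2, 5), (0, 1, 4)], [(0, 2, 6), (0, 1, 4)], [(0, 2, 6), (0, 1, 5)], [(0, 7, 1)],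
    [(0, 1, 5), (0, 1, 4)], [(0, 1, 6), (0, 1, 4)], [(0, 1, 6), (0, 1, 5)], [(0, 7, 2)],
    [(0, 7, 3)]]

/-- Products of three-cycles. -/
def tblN : List (List (Fin 8 × Fin 8 × Fin 8)) :=
  [[], [(0, 1, 7), (0, 1, 6)], [(0, 1, 7), (0, 1, 5)], [(0, 1, 7), (0, 1, 4)],
    [(0, 1, 7), (0, 1, 3)], [(0, 1, 7), (0, 1, 2)], [(0, 2, 1)], [(0, 1, 7)], [(0, 3, 1)],
    [(0, 4, 1)], [(0, 5, 1)], [(0, 6, 1)], [(0, 1, 2)], [(0, 7, 1)], [(0, 1, 3)], [(0, 1, 4)],
    [(0, 1, 5)], [(0, 1, 6)], [(0, 1, 3), (0, 1, 2)], [(0, 1, 4), (0, 1, 2)],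
    [(0, 1, 5), (0, 1, 2)], [(0, 1, 6), (0, 1, 2)], [(0, 1, 4), (0, 1, 3)],
    [(0, 1, 5), (0, 1, 3)], [(0, 1, 6), (0, 1, 3)], [(0, 1, 5), (0, 1, 4)],
    [(0, 1, 6), (0, 1, 4)], [(0, 1, 6), (0, 1, 5)]]

/-- Products of three-cycles. -/
def tblNN : List (List (Fin 8 × Fin 8 × Fin 8)) :=
  [[], [(0, 1, 2), (1, 2, 7)], [(2, 3, 4)], [(2, 4, 3)], [(2, 5, 3)], [(2, 6, 3)],
    [(0, 1, 3), (1, 3, 4)], [(2, 7, 3)], [(0, 1, 2), (1, 2, 3)], [(0, 1, 2), (1, 2, 4)],
    [(0, 1, 2), (1, 2, 5)], [(0, 1, 2), (1, 2, 6)]]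

/-- Products of three-cycles. -/
def tblSS : List (List (Fin 8 × Fin 8 × Fin 8)) :=
  [[], [(4, 6, 5)], [(4, 5, 6)], [(0, 2, 1)], [(0, 1, 3), (4, 5, 7)], [(0, 1, 3), (4, 7, 5)],
    [(0, 3, 1)], [(0, 1, 2), (4, 5, 7)], [(0, 1, 2), (4, 7, 5)], [(0, 1, 2)],
    [(0, 1, 2), (4, 6, 5)], [(0, 1, 2), (4, 5, 6)], [(0, 1, 3)], [(0, 1, 3), (4, 6, 5)],
    [(0, 1, 3), (4, 5, 6)], [(0, 1, 2), (0, 1, 3)], [(4, 5, 7)], [(4, 7, 5)]]

theorem trans_S : ∀ v : W, q v = false → v ≠ w0 →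
    ∃ L ∈ tblS, Good L ∧ act (prodC L) rS = v := by decide +kernel

theorem trans_N : ∀ v : W, q v = true → ∃ L ∈ tblN, Good L ∧ act (prodC L) rN = v := by
  decide +kernel

theorem trans_NN : ∀ w : W, q w = true → B rN w = true →
    ∃ L ∈ tblNN, Good L ∧ act (prodC L) rN = rN ∧ act (prodC L) rN' = w := by decide +kernel

theorem trans_SS : ∀ w : W, q w = false → B rS w = false → w ≠ w0 → w ≠ rS →
    ∃ L ∈ tblSS, Good L ∧ act (prodC L) rS = rS ∧ act (prodC L) rS' = w := by decide +kernel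

theorem sign_prodC : ∀ {L : List (Fin 8 × Fin 8 × Fin 8)}, Good L → Equiv.Perm.sign (prodC L) = 1
  | [], _ => map_one _
  | t :: L, h => by
    obtain ⟨h1, h2⟩ := h t (List.mem_cons_self ..)
    have := sign_prodC (L := L) fun s hs => h s (List.mem_cons_of_mem _ hs)
    rw [prodC] at this ⊢
    rw [List.map_cons, List.prod_cons, map_mul, this, cyc, map_mul, Equiv.Perm.sign_swap h1,
      Equiv.Perm.sign_swap h2]
    rfl

theorem even_orbit_S {v : W} (hv : q v = false) (h0 : v ≠ w0) :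
    ∃ π : Equiv.Perm (Fin 8), Equiv.Perm.sign π = 1 ∧ act π rS = v := by
  obtain ⟨L, -, hg, e⟩ := trans_S v hv h0
  exact ⟨_, sign_prodC hg, e⟩

theorem even_orbit_N {v : W} (hv : q v = true) :
    ∃ π : Equiv.Perm (Fin 8), Equiv.Perm.sign π = 1 ∧ act π rN = v := by
  obtain ⟨L, -, hg, e⟩ := trans_N v hv
  exact ⟨_, sign_prodC hg, e⟩

theorem act_inv_act (π : Equiv.Perm (Fin 8)) (w : W) : act π⁻¹ (act π w) = w := by
  rw [← act_mul, inv_mul_cancel, act_one]

theorem act_zero (π : Equiv.Perm (Fin 8)) : act π w0 = w0 := additive_zero (act_add π)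

theorem even_orbit_NN {w v : W} (hv : q v = true) (hw : q w = true) (hB : B w v = true) :
    ∃ π : Equiv.Perm (Fin 8), Equiv.Perm.sign π = 1 ∧ act π rN' = w ∧ act π rN = v := by
  obtain ⟨π, hπ, e⟩ := even_orbit_N hv
  obtain ⟨L, -, hg, e1, e2⟩ := trans_NN (act π⁻¹ w) (by rw [q_act, hw])
    (by rw [← B_act π, e, ← act_mul, mul_inv_cancel, act_one, B_symm, hB])
  exact ⟨π * prodC L, by rw [map_mul, hπ, sign_prodC hg, one_mul],
    by rw [act_mul, e2, ← act_mul, mul_inv_cancel, act_one], by rw [act_mul, e1, e]⟩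

theorem even_orbit_SS {w v : W} (hv : q v = false) (hw : q w = false) (hB : B w v = false)
    (hv0 : v ≠ w0) (hw0 : w ≠ w0) (hne : w ≠ v) :
    ∃ π : Equiv.Perm (Fin 8), Equiv.Perm.sign π = 1 ∧ act π rS' = w ∧ act π rS = v := by
  obtain ⟨π, hπ, e⟩ := even_orbit_S hv hv0
  have back : ∀ u, act π (act π⁻¹ u) = u := fun u => by rw [← act_mul, mul_inv_cancel, act_one]
  obtain ⟨L, -, hg, e1, e2⟩ := trans_SS (act π⁻¹ w) (by rw [q_act, hw])
    (by rw [← B_act π, e, back, B_symm, hB]) (fun h => hw0 (by rw [← back w, h, act_zero]))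
    (fun h => hne (by rw [← back w, h, e]))
  exact ⟨π * prodC L, by rw [map_mul, hπ, sign_prodC hg, one_mul],
    by rw [act_mul, e2, back], by rw [act_mul, e1, e]⟩

theorem to_nonsing : ∀ v : W, v ≠ w0 → ∃ a b c : Fin 8,
    a ≠ b ∧ b ≠ c ∧ q (add v (act (cyc (a, b, c)) v)) = true := by decide +kernel

theorem sum_nonsing : ∀ v : W, ∃ a b : W, q a = true ∧ q b = true ∧ add a b = v := by decide +kernel

/-- A nonzero additively closed set invariant under the even permutations is everything. -/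
theorem irreducible {S : W → Prop} (hadd : ∀ a b, S a → S b → S (add a b))
    (hinv : ∀ π : Equiv.Perm (Fin 8), Equiv.Perm.sign π = 1 → ∀ v, S v → S (act π v))
    {v : W} (hv : S v) (h0 : v ≠ w0) : ∀ w, S w := by
  obtain ⟨a, b, c, hab, hbc, hq⟩ := to_nonsing v h0
  have hs : Equiv.Perm.sign (cyc (a, b, c)) = 1 := by
    rw [cyc, map_mul, Equiv.Perm.sign_swap hab, Equiv.Perm.sign_swap hbc]; rfl
  obtain ⟨π, hπ, e⟩ := even_orbit_N hq
  have h1 : S rN := by
    rw [← act_inv_act π rN, e]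
    exact hinv _ (by rw [map_inv, hπ, inv_one]) _ (hadd _ _ hv (hinv _ hs _ hv))
  have h2 : ∀ u, q u = true → S u := fun u hu => by
    obtain ⟨ρ, hρ, e⟩ := even_orbit_N hu
    exact e ▸ hinv ρ hρ _ h1
  intro w
  obtain ⟨x, y, hx, hy, rfl⟩ := sum_nonsing w
  exact hadd _ _ (h2 x hx) (h2 y hy)

theorem stab_fixed : ∀ u : W,
    (∀ c : Fin 4, act (cyc (2, 3, (![4, 5, 6, 7] : Fin 4 → Fin 8) c)) u = u) → u = w0 ∨ u = rN := by
  decide +kernel

theorem stab_fixes : ∀ c : Fin 4,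
    act (cyc (2, 3, (![4, 5, 6, 7] : Fin 4 → Fin 8) c)) rN = rN := by decide +kernel

theorem sign_stab : ∀ c : Fin 4,
    Equiv.Perm.sign (cyc (2, 3, (![4, 5, 6, 7] : Fin 4 → Fin 8) c)) = 1 := fun c => by
  rw [cyc, map_mul, Equiv.Perm.sign_swap (by revert c; decide), Equiv.Perm.sign_swap (by revert c; decide)]
  rfl

theorem invariant_form : ∀ a b : Bool, (Finset.univ.filter fun u : W =>
    cond (decide (u = w0)) false (cond (q u) b a) = false).card = 36 → a = false ∧ b = true := by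
  decide +kernel

theorem zeros_plus : (Finset.univ.filter fun u : W => q u = false).card = 36 := by decide +kernel

/-- A subgroup of index at most two contains the even permutations. -/
theorem alternating_le_of_card {H : Subgroup (Equiv.Perm (Fin 8))} (h : 20160 ≤ Nat.card H) :
    alternatingGroup (Fin 8) ≤ H := by
  have h1 := H.card_mul_index
  rw [Nat.card_eq_fintype_card (α := Equiv.Perm (Fin 8)), Fintype.card_perm, Fintype.card_fin,
    show Nat.factorial 8 = 40320 from rfl] at h1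
  have hsq : ∀ g, g * g ∈ H := by
    intro g
    have hi : H.index = 1 ∨ H.index = 2 := by
      have h0 : H.index ≠ 0 := Subgroup.index_ne_zero_of_finite
      have : H.index ≤ 2 := by nlinarith
      omega
    rcases hi with e | e
    · rw [Subgroup.index_eq_one.mp e]; exact Subgroup.mem_top _
    · exact Subgroup.mul_self_mem_of_index_two e _
  rw [← Equiv.Perm.closure_three_cycles_eq_alternating, Subgroup.closure_le]
  intro g hg
  have h3 : g * g * g = 1 := by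
    rw [← pow_three', ← Equiv.Perm.IsThreeCycle.orderOf hg]; exact pow_orderOf_eq_one g
  have : g = (g * g) * (g * g) := by
    rw [show g * g * (g * g) = g * g * g * g by group, h3, one_mul]
  rw [this]
  exact hsq _

end Cfsg.Agent.ConwayType
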