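import Cfsg.Agent.Lib.SuzType.Classes
import Cfsg.Agent.Lib.ConwayType.Cycles

/-!
# Groups of Conway type: the hypotheses

`Data z Q` bundles the hypotheses. The calculus of `fl`, `pw`, `Sing` is that of `SuzType`.
-/

set_option autoImplicit false
set_option maxHeartbeats 400000

namespace Cfsg.Agent.ConwayType

export SuzType (pw pw_false pw_true pw_mem pw_commute pw_mul pw_inj pw_conj fl fl_eq_false
  fl_eq_true fl_symm fl_spec fl_eq fl_one_left fl_self fl_mul fl_z fl_pw fl_inv sq_mul exists_sq
  Sing mem_cz conj_sq fl_mul_right fl_pw_right fl_conj conj_of_commute eq_of_fl Dzy mem_Dzy Dzy_le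
  fl_conj_of_commute even_card_of_involution singAction card_le_conj pw_yz_inj Dzy_symm)

open Subgroup
open Cfsg.Agent.LargeExtraspecial (Hub)

variable {G : Type*} [Group G] {z : G} {Q : Subgroup G}

/-- The hypotheses of Conway type, `C(z)/Q` entering through its order only. -/
structure Data (z : G) (Q : Subgroup G) : Prop where
  hub : Hub Q z
  le : Q ≤ centralizer ({z} : Set G)
  cardQ : Nat.card Q = 512
  cardC : Nat.card (centralizer ({z} : Set G)) = 89181388800
  out : ∃ g : G, g * z * g⁻¹ ∈ Q ∧ g * z * g⁻¹ ≠ z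

theorem Data.conj (d : Data z Q) (k : G) :
    Data (k * z * k⁻¹) (Q.map (MulAut.conj k).toMonoidHom) := by
  have hcomm : ∀ {x : G}, Commute x (k * z * k⁻¹) ↔ Commute (k⁻¹ * x * k) z := fun {x} => by
    constructor
    · intro h
      have := h.map (MulAut.conj k⁻¹).toMonoidHom
      simpa [mul_assoc] using this
    · intro h
      have := h.map (MulAut.conj k).toMonoidHom
      simpa [mul_assoc] using this
  have hmem : ∀ {x : G}, x ∈ Q.map (MulAut.conj k).toMonoidHom ↔ k⁻¹ * x * k ∈ Q :=
    LargeExtraspecial.mem_conj_iff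
  refine ⟨d.hub.conj k, fun x hx => mem_cz.mpr (hcomm.mpr (mem_cz.mp (d.le (hmem.mp hx)))),
    ?_, ?_, ?_⟩
  · rw [card_map_of_injective (MulAut.conj k).injective, d.cardQ]
  · rw [show centralizer ({k * z * k⁻¹} : Set G) =
      (centralizer ({z} : Set G)).map (MulAut.conj k).toMonoidHom from ?_,
      card_map_of_injective (MulAut.conj k).injective, d.cardC]
    ext x
    rw [mem_cz, hcomm, LargeExtraspecial.mem_conj_iff, mem_cz]
  · obtain ⟨g, hg, hg'⟩ := d.out
    refine ⟨k * g * k⁻¹, hmem.mpr ?_, fun e => hg' ?_⟩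
    · rwa [show k⁻¹ * (k * g * k⁻¹ * (k * z * k⁻¹) * (k * g * k⁻¹)⁻¹) * k = g * z * g⁻¹ by group]
    · have := congrArg (fun w => k⁻¹ * w * k) e
      simpa [mul_assoc] using this

end Cfsg.Agent.ConwayType
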