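import Cfsg.Agent.Lib.Mathieu.Octads
import Mathlib.Algebra.BigOperators.Fin

/-!
# Linear maps of `2^11` preserving the weight classes of the Golay code

The code modulo the all-ones word has dimension `11`.  A linear map preserving the words of weight
`8` or `16` permutes the 276 functionals `bit i + bit j` (they alone are one on exactly 352 of these
words), hence it is induced by a permutation of the 24 points preserving the code.
-/

set_option autoImplicit false

namespace Cfsg.Agent.ConwayType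

open Cfsg Mathieu

/-- Masks spanning the code together with the all-ones word. -/
def goBasis : List ℕ := [13811730, 2949708, 792232, 337856, 2101096, 8541360, 9610624, 4361520,
  9228792, 1832768, 16611456]

/-- The combination of the basis selected by the bits of `a`. -/
def psiN (a : ℕ) : ℕ := encC goBasis a

/-- `psiN` on `Fin 2048`. -/
def psi (a : Fin 2048) : ℕ := psiN a.val

/-- Weight 8 or 16. -/
def inSN (a : ℕ) : Bool := popc 24 (psiN a) == 8 || popc 24 (psiN a) == 16

/-- Weight 8 or 16. -/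
def inS (a : Fin 2048) : Bool := popc 24 (psi a) == 8 || popc 24 (psi a) == 16

/-! ### Functionals -/

/-- The bilinear form used to index functionals (bit order reversed). -/
def dot : ℕ → ℕ → ℕ → Bool
  | 0, _, _ => false
  | k + 1, f, r => (decide (f % 2 = 1) && r.testBit k) ^^ dot k (f / 2) r

/-- The index of a functional. -/
def fOf : ℕ → (ℕ → Bool) → ℕ
  | 0, _ => 0
  | k + 1, L => 2 * fOf k L + (L (2 ^ k)).toNat

/-- Additivity below `2 ^ k`. -/
def Additive (k : ℕ) (L : ℕ → Bool) : Prop :=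
  ∀ a < 2 ^ k, ∀ b < 2 ^ k, L (a ^^^ b) = (L a ^^ L b)

theorem fOf_lt (L : ℕ → Bool) : ∀ k, fOf k L < 2 ^ k
  | 0 => by simp [fOf]
  | k + 1 => by
    have := fOf_lt L k
    have hb : (L (2 ^ k)).toNat ≤ 1 := Bool.toNat_le _
    rw [fOf, pow_succ]
    omega

theorem fOf_congr {L M : ℕ → Bool} : ∀ k, (∀ r < 2 ^ k, L r = M r) → fOf k L = fOf k M
  | 0, _ => rfl
  | k + 1, h => by
    rw [fOf, fOf, h (2 ^ k) (Nat.pow_lt_pow_right (by norm_num) (by omega)),
      fOf_congr k fun r hr => h r (lt_of_lt_of_le hr (Nat.pow_le_pow_right (by norm_num) (by omega)))]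

theorem fOf_xor (L M : ℕ → Bool) : ∀ k, fOf k (fun r => L r ^^ M r) = fOf k L ^^^ fOf k M
  | 0 => by simp [fOf]
  | k + 1 => by
    simp only [fOf, fOf_xor L M k]
    refine Nat.eq_of_testBit_eq fun i => ?_
    cases i with
    | zero => cases L (2 ^ k) <;> cases M (2 ^ k) <;> simp [Nat.testBit_zero] <;> omega
    | succ i =>
      rw [Nat.testBit_xor]
      simp only [Nat.testBit_succ]
      have e : ∀ (x : ℕ) (b : Bool), (2 * x + b.toNat) / 2 = x := fun x b => by
        cases b <;> simp <;> omega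
      rw [e, e, e, Nat.testBit_xor]

theorem dot_congr {r r' : ℕ} : ∀ k f, (∀ i < k, r.testBit i = r'.testBit i) → dot k f r = dot k f r'
  | 0, _, _ => rfl
  | k + 1, f, h => by
    rw [dot, dot, h k (by omega), dot_congr k _ fun i hi => h i (by omega)]

theorem dot_fOf {L : ℕ → Bool} : ∀ k, Additive k L → ∀ r < 2 ^ k, dot k (fOf k L) r = L r
  | 0, hL, r, hr => by
    have hr0 : r = 0 := by simpa using hr
    subst hr0
    have := hL 0 (by simp) 0 (by simp)
    simp only [Nat.xor_self, Bool.xor_self] at this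
    rw [this]; rfl
  | k + 1, hL, r, hr => by
    have hlt : 2 ^ k < 2 ^ (k + 1) := Nat.pow_lt_pow_right (by norm_num) (by omega)
    have hL' : Additive k L := fun a ha b hb => hL a (ha.trans hlt) b (hb.trans hlt)
    have e1 : (2 * fOf k L + (L (2 ^ k)).toNat) / 2 = fOf k L := by
      cases L (2 ^ k) <;> simp <;> omega
    have e2 : decide ((2 * fOf k L + (L (2 ^ k)).toNat) % 2 = 1) = L (2 ^ k) := by
      cases L (2 ^ k) <;> simp
    rw [fOf, dot, e1, e2]
    by_cases hb : r < 2 ^ k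
    · rw [Nat.testBit_lt_two_pow hb, Bool.and_false, Bool.false_xor, dot_fOf k hL' r hb]
    · have hbit : r.testBit k = true := by
        rw [Nat.testBit_eq_decide_div_mod_eq, decide_eq_true_eq]
        have : r / 2 ^ k = 1 := by
          rw [pow_succ] at hr
          exact Nat.div_eq_of_lt_le (by omega) (by omega)
        omega
      have hlo : r ^^^ 2 ^ k < 2 ^ k := by
        refine Nat.lt_pow_two_of_testBit _ fun i hi => ?_
        rw [Nat.testBit_xor, Nat.testBit_two_pow]
        rcases Nat.lt_or_eq_of_le hi with h | h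
        · rw [Nat.testBit_lt_two_pow (lt_of_lt_of_le hr (Nat.pow_le_pow_right (by norm_num) h))]
          simp [Nat.ne_of_lt h]
        · subst h; simp [hbit]
      rw [hbit, Bool.and_true, dot_congr k _ (r' := r ^^^ 2 ^ k) fun i hi => by
        rw [Nat.testBit_xor, Nat.testBit_two_pow]
        simp [Nat.ne_of_gt hi], dot_fOf k hL' _ hlo]
      have := hL (2 ^ k) hlt (r ^^^ 2 ^ k) (hlo.trans hlt)
      rw [show 2 ^ k ^^^ (r ^^^ 2 ^ k) = r by
        rw [Nat.xor_comm r, ← Nat.xor_assoc, Nat.xor_self, Nat.zero_xor]] at this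
      exact this.symm

theorem psiN_xor (a b : ℕ) : psiN (a ^^^ b) = psiN a ^^^ psiN b := encC_xor goBasis a b

/-- The functional `bit i + bit j`. -/
def duadB (i j : Fin 24) (a : ℕ) : Bool := (psiN a).testBit i.val ^^ (psiN a).testBit j.val

theorem duadB_additive (i j : Fin 24) : Additive 11 (duadB i j) := by
  intro a _ b _
  simp only [duadB, psiN_xor, Nat.testBit_xor]
  cases (psiN a).testBit i.val <;> cases (psiN a).testBit j.val <;>
    cases (psiN b).testBit i.val <;> cases (psiN b).testBit j.val <;> rfl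

/-- The index of `bit i + bit j`. -/
def dF (i j : Fin 24) : ℕ := fOf 11 (duadB i j)

theorem dF_comm (i j : Fin 24) : dF i j = dF j i :=
  fOf_congr 11 fun _ _ => Bool.xor_comm _ _

theorem dF_add (i j k : Fin 24) : dF i k = dF i j ^^^ dF j k := by
  simp only [dF]
  rw [← fOf_xor]
  refine fOf_congr 11 fun r _ => ?_
  simp only [duadB]
  cases (psiN r).testBit i.val <;> cases (psiN r).testBit j.val <;>
    cases (psiN r).testBit k.val <;> rfl

theorem dF_self (i : Fin 24) : dF i i = 0 := by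
  have h := dF_add i i i
  rwa [Nat.xor_self] at h

theorem duadB_eq_dot (i j : Fin 24) {r : ℕ} (hr : r < 2 ^ 11) :
    dot 11 (dF i j) r = duadB i j r :=
  dot_fOf 11 (duadB_additive i j) r hr

/-! ### Counting -/

/-- For every functional: the numbers of members of `S` in a coset of `2 ^ k` where it is one, zero. -/
def wc : ℕ → ℕ → List (ℕ × ℕ)
  | 0, a₀ => [(0, if inSN a₀ then 1 else 0)]
  | k + 1, a₀ => (List.zipWith (fun x y => [(x.1 + y.1, x.2 + y.2), (x.1 + y.2, x.2 + y.1)])
      (wc k (2 * a₀)) (wc k (2 * a₀ + 1))).flatten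

/-- One term of the count. -/
def term (k a₀ f r : ℕ) : ℕ × ℕ :=
  if inSN (a₀ * 2 ^ k + r) then (if dot k f r then (1, 0) else (0, 1)) else (0, 0)

theorem flatten_pairs_length {α : Type*} : ∀ (l : List (List α)), (∀ x ∈ l, x.length = 2) →
    l.flatten.length = 2 * l.length
  | [], _ => rfl
  | x :: l, h => by
    rw [List.flatten_cons, List.length_append, h x List.mem_cons_self,
      flatten_pairs_length l fun y hy => h y (List.mem_cons_of_mem _ hy), List.length_cons]
    omega

theorem wc_length : ∀ k a₀, (wc k a₀).length = 2 ^ k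
  | 0, _ => rfl
  | k + 1, a₀ => by
    rw [wc, flatten_pairs_length, List.length_zipWith, wc_length, wc_length, min_self, pow_succ',
      ]
    intro x hx
    obtain ⟨i, hi, rfl⟩ := List.getElem_of_mem hx
    simp

theorem getD_pairs : ∀ (u v : List (ℕ × ℕ)) (f : ℕ), u.length = v.length →
    (List.zipWith (fun x y => [(x.1 + y.1, x.2 + y.2), (x.1 + y.2, x.2 + y.1)]) u v).flatten.getD f (0, 0) =
      if f % 2 = 0 then ((u.getD (f / 2) (0, 0)).1 + (v.getD (f / 2) (0, 0)).1,
          (u.getD (f / 2) (0, 0)).2 + (v.getD (f / 2) (0, 0)).2)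
        else ((u.getD (f / 2) (0, 0)).1 + (v.getD (f / 2) (0, 0)).2,
          (u.getD (f / 2) (0, 0)).2 + (v.getD (f / 2) (0, 0)).1)
  | [], [], f, _ => by simp
  | x :: u, y :: v, f, h => by
    match f with
    | 0 => simp
    | 1 => simp
    | f + 2 =>
      have e1 : (f + 2) / 2 = f / 2 + 1 := by omega
      have e2 : (f + 2) % 2 = f % 2 := by omega
      simp only [List.zipWith_cons_cons, List.flatten_cons, List.cons_append, List.nil_append,
        List.getD_cons_succ, e1, e2]
      exact getD_pairs u v f (by simpa using h)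

theorem wc_spec : ∀ k a₀ f, f < 2 ^ k →
    (wc k a₀).getD f (0, 0) = ∑ r ∈ Finset.range (2 ^ k), term k a₀ f r
  | 0, a₀, f, hf => by
    have hf0 : f = 0 := by simpa using hf
    subst hf0
    simp only [pow_zero, Finset.sum_range_one, term, wc, dot, mul_one, add_zero,
      List.getD_cons_zero]
    by_cases h : inSN a₀ = true <;> simp [h]
  | k + 1, a₀, f, hf => by
    have hf2 : f / 2 < 2 ^ k := by rw [pow_succ] at hf; omega
    rw [wc, getD_pairs _ _ _ (by rw [wc_length, wc_length]), wc_spec k _ _ hf2,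
      wc_spec k _ _ hf2, pow_succ, mul_two, Finset.sum_range_add]
    have h1 : ∑ r ∈ Finset.range (2 ^ k), term (k + 1) a₀ f r =
        ∑ r ∈ Finset.range (2 ^ k), term k (2 * a₀) (f / 2) r := by
      refine Finset.sum_congr rfl fun r hr => ?_
      rw [Finset.mem_range] at hr
      rw [term, term, dot, Nat.testBit_lt_two_pow hr, Bool.and_false, Bool.false_xor,
        show 2 * a₀ * 2 ^ k = a₀ * 2 ^ (k + 1) by ring]
    have h2 : ∑ r ∈ Finset.range (2 ^ k), term (k + 1) a₀ f (2 ^ k + r) =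
        ∑ r ∈ Finset.range (2 ^ k), (if f % 2 = 0 then term k (2 * a₀ + 1) (f / 2) r
          else (term k (2 * a₀ + 1) (f / 2) r).swap) := by
      refine Finset.sum_congr rfl fun r hr => ?_
      rw [Finset.mem_range] at hr
      have hbit : (2 ^ k + r).testBit k = true := by
        rw [Nat.testBit_two_pow_add_eq, Nat.testBit_lt_two_pow hr]; rfl
      have hdot : dot k (f / 2) (2 ^ k + r) = dot k (f / 2) r :=
        dot_congr k _ fun i hi => Nat.testBit_two_pow_add_gt hi r
      rw [term, term, dot, hbit, Bool.and_true, hdot,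
        show (2 * a₀ + 1) * 2 ^ k + r = a₀ * 2 ^ (k + 1) + (2 ^ k + r) by ring]
      rcases Nat.mod_two_eq_zero_or_one f with h | h <;> cases dot k (f / 2) r <;>
        cases inSN (a₀ * 2 ^ (k + 1) + (2 ^ k + r)) <;> simp [h]
    rw [h1, h2]
    rcases Nat.mod_two_eq_zero_or_one f with h | h <;>
      simp [h, Prod.ext_iff, Prod.fst_sum, Prod.snd_sum]

/-- The number of `a` in `S` on which the functional is one. -/
def nOne (L : ℕ → Bool) : ℕ :=
  (Finset.univ.filter fun a : Fin 2048 => inS a = true ∧ L a.val = true).card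

theorem nOne_eq {L : ℕ → Bool} (hL : Additive 11 L) :
    nOne L = ((wc 11 0).getD (fOf 11 L) (0, 0)).1 := by
  rw [wc_spec 11 0 _ (fOf_lt L 11), Prod.fst_sum, nOne, Finset.card_filter]
  show (∑ a : Fin 2048, if inSN a.val = true ∧ L a.val = true then 1 else 0) = _
  rw [Fin.sum_univ_eq_sum_range (fun r => if inSN r = true ∧ L r = true then 1 else 0) 2048]
  refine Finset.sum_congr rfl fun r hr => ?_
  rw [Finset.mem_range] at hr
  rw [term, zero_mul, zero_add, dot_fOf 11 hL r hr]
  cases inSN r <;> cases L r <;> simp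

/-! ### Tables -/

/-- The pairs of points. -/
def pairs : List (Fin 24 × Fin 24) :=
  (List.finRange 24).flatMap fun i =>
    ((List.finRange 24).filter fun j => decide (i < j)).map fun j => (i, j)

theorem mem_pairs {i j : Fin 24} (h : i < j) : (i, j) ∈ pairs := by
  simp [pairs, h]

/-- The indices of the functionals `bit i + bit j`. -/
def dTab : List (Fin 24 × Fin 24 × ℕ) := [
  (0, 1, 1024), (0, 2, 512), (0, 3, 836), (0, 4, 1068), (0, 5, 364), (0, 6, 710), (0, 7, 437), (0,
  8, 222), (0, 9, 962), (0, 10, 506), (0, 11, 73), (0, 12, 295), (0, 13, 147), (0, 14, 1063), (0,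
  15, 1054), (0, 16, 643), (0, 17, 1082), (0, 18, 901), (0, 19, 775), (0, 20, 1043), (0, 21, 577),
  (0, 22, 1033), (0, 23, 1077), (1, 2, 1536), (1, 3, 1860), (1, 4, 44), (1, 5, 1388), (1, 6,
  1734), (1, 7, 1461), (1, 8, 1246), (1, 9, 1986), (1, 10, 1530), (1, 11, 1097), (1, 12, 1319),
  (1, 13, 1171), (1, 14, 39), (1, 15, 30), (1, 16, 1667), (1, 17, 58), (1, 18, 1925), (1, 19,
  1799), (1, 20, 19), (1, 21, 1601), (1, 22, 9), (1, 23, 53), (2, 3, 324), (2, 4, 1580), (2, 5,
  876), (2, 6, 198), (2, 7, 949), (2, 8, 734), (2, 9, 450), (2, 10, 1018), (2, 11, 585), (2, 12,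
  807), (2, 13, 659), (2, 14, 1575), (2, 15, 1566), (2, 16, 131), (2, 17, 1594), (2, 18, 389), (2,
  19, 263), (2, 20, 1555), (2, 21, 65), (2, 22, 1545), (2, 23, 1589), (3, 4, 1896), (3, 5, 552),
  (3, 6, 386), (3, 7, 753), (3, 8, 922), (3, 9, 134), (3, 10, 702), (3, 11, 781), (3, 12, 611),
  (3, 13, 983), (3, 14, 1891), (3, 15, 1882), (3, 16, 455), (3, 17, 1918), (3, 18, 193), (3, 19,
  67), (3, 20, 1879), (3, 21, 261), (3, 22, 1869), (3, 23, 1905), (4, 5, 1344), (4, 6, 1770), (4,
  7, 1433), (4, 8, 1266), (4, 9, 2030), (4, 10, 1494), (4, 11, 1125), (4, 12, 1291), (4, 13,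
  1215), (4, 14, 11), (4, 15, 50), (4, 16, 1711), (4, 17, 22), (4, 18, 1961), (4, 19, 1835), (4,
  20, 63), (4, 21, 1645), (4, 22, 37), (4, 23, 25), (5, 6, 938), (5, 7, 217), (5, 8, 434), (5, 9,
  686), (5, 10, 150), (5, 11, 293), (5, 12, 75), (5, 13, 511), (5, 14, 1355), (5, 15, 1394), (5,
  16, 1007), (5, 17, 1366), (5, 18, 745), (5, 19, 619), (5, 20, 1407), (5, 21, 813), (5, 22,
  1381), (5, 23, 1369), (6, 7, 883), (6, 8, 536), (6, 9, 260), (6, 10, 828), (6, 11, 655), (6, 12,
  993), (6, 13, 597), (6, 14, 1761), (6, 15, 1752), (6, 16, 69), (6, 17, 1788), (6, 18, 323), (6,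
  19, 449), (6, 20, 1749), (6, 21, 135), (6, 22, 1743), (6, 23, 1779), (7, 8, 363), (7, 9, 631),
  (7, 10, 79), (7, 11, 508), (7, 12, 146), (7, 13, 294), (7, 14, 1426), (7, 15, 1451), (7, 16,
  822), (7, 17, 1423), (7, 18, 560), (7, 19, 690), (7, 20, 1446), (7, 21, 1012), (7, 22, 1468),
  (7, 23, 1408), (8, 9, 796), (8, 10, 292), (8, 11, 151), (8, 12, 505), (8, 13, 77), (8, 14,
  1273), (8, 15, 1216), (8, 16, 605), (8, 17, 1252), (8, 18, 859), (8, 19, 985), (8, 20, 1229),
  (8, 21, 671), (8, 22, 1239), (8, 23, 1259), (9, 10, 568), (9, 11, 907), (9, 12, 741), (9, 13,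
  849), (9, 14, 2021), (9, 15, 2012), (9, 16, 321), (9, 17, 2040), (9, 18, 71), (9, 19, 197), (9,
  20, 2001), (9, 21, 387), (9, 22, 1995), (9, 23, 2039), (10, 11, 435), (10, 12, 221), (10, 13,
  361), (10, 14, 1501), (10, 15, 1508), (10, 16, 889), (10, 17, 1472), (10, 18, 639), (10, 19,
  765), (10, 20, 1513), (10, 21, 955), (10, 22, 1523), (10, 23, 1487), (11, 12, 366), (11, 13,
  218), (11, 14, 1134), (11, 15, 1111), (11, 16, 714), (11, 17, 1139), (11, 18, 972), (11, 19,
  846), (11, 20, 1114), (11, 21, 520), (11, 22, 1088), (11, 23, 1148), (12, 13, 436), (12, 14,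
  1280), (12, 15, 1337), (12, 16, 932), (12, 17, 1309), (12, 18, 674), (12, 19, 544), (12, 20,
  1332), (12, 21, 870), (12, 22, 1326), (12, 23, 1298), (13, 14, 1204), (13, 15, 1165), (13, 16,
  528), (13, 17, 1193), (13, 18, 790), (13, 19, 916), (13, 20, 1152), (13, 21, 722), (13, 22,
  1178), (13, 23, 1190), (14, 15, 57), (14, 16, 1700), (14, 17, 29), (14, 18, 1954), (14, 19,
  1824), (14, 20, 52), (14, 21, 1638), (14, 22, 46), (14, 23, 18), (15, 16, 1693), (15, 17, 36),
  (15, 18, 1947), (15, 19, 1817), (15, 20, 13), (15, 21, 1631), (15, 22, 23), (15, 23, 43), (16,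
  17, 1721), (16, 18, 262), (16, 19, 388), (16, 20, 1680), (16, 21, 194), (16, 22, 1674), (16, 23,
  1718), (17, 18, 1983), (17, 19, 1853), (17, 20, 41), (17, 21, 1659), (17, 22, 51), (17, 23, 15),
  (18, 19, 130), (18, 20, 1942), (18, 21, 452), (18, 22, 1932), (18, 23, 1968), (19, 20, 1812),
  (19, 21, 326), (19, 22, 1806), (19, 23, 1842), (20, 21, 1618), (20, 22, 26), (20, 23, 38), (21,
  22, 1608), (21, 23, 1652), (22, 23, 60)
]

/-- The set of these indices as a mask. -/
def dMask : ℕ :=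
  0x180402010020804800102040840102040020108048020102004080102104080100804020120804002408010200104080810204080040102042010804008020104080210204080011020084002048001800410200240080102104080200408010204081040802001801002400408200110084020048002010420108040080201041080020280100408200410041008200208104008024010104020801040208020020220400404404004400480088008808008082020020201010101010101019600000000000096003c00000000003c00005a000000005a000000f0000000f000000000660000660000000000cc00cc000000000000aaaa963c5af066ccaa00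

/-- The basis of the code in terms of `goBasis` and the all-ones word. -/
def cbComb : List (ℕ × Bool) := [
  (399, true), (773, false), (918, false), (988, false), (772, false), (1988, false), (180, false), (520, false), (1184, false), (252, false), (1768, false), (1544, false)]

theorem dTab_eq : dTab = pairs.map fun p => (p.1, p.2, dF p.1 p.2) := by decide +kernel

theorem dMask_eq : dMask = dTab.foldr (fun x m => 2 ^ x.2.2 ||| m) 0 := by decide +kernel

theorem mem_dTab {i j : Fin 24} (h : i < j) : (i, j, dF i j) ∈ dTab := by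
  rw [dTab_eq, List.mem_map]; exact ⟨(i, j), mem_pairs h, rfl⟩

theorem testBit_dMask {f : ℕ} :
    dMask.testBit f = true ↔ ∃ i j : Fin 24, i ≠ j ∧ dF i j = f := by
  have key : ∀ l : List (Fin 24 × Fin 24 × ℕ),
      (l.foldr (fun (x : Fin 24 × Fin 24 × ℕ) m => 2 ^ x.2.2 ||| m) 0).testBit f = true ↔ ∃ x ∈ l, x.2.2 = f := by
    intro l
    induction l with
    | nil => simp
    | cons x l ih => simp [Nat.testBit_or, Nat.testBit_two_pow, ih]
  rw [dMask_eq, key]
  constructor
  · rintro ⟨x, hx, rfl⟩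
    rw [dTab_eq, List.mem_map] at hx
    obtain ⟨⟨i, j⟩, hp, rfl⟩ := hx
    simp [pairs] at hp
    exact ⟨i, j, hp.ne, rfl⟩
  · rintro ⟨i, j, hij, rfl⟩
    rcases lt_or_gt_of_ne hij with h | h
    · exact ⟨_, mem_dTab h, rfl⟩
    · exact ⟨_, mem_dTab h, dF_comm j i⟩

/-- `p` on every entry, with its position. -/
def allIdx (p : ℕ → ℕ × ℕ → Bool) : ℕ → List (ℕ × ℕ) → Bool
  | _, [] => true
  | n, x :: l => p n x && allIdx p (n + 1) l

theorem allIdx_spec (p : ℕ → ℕ × ℕ → Bool) : ∀ (l : List (ℕ × ℕ)) (n : ℕ), allIdx p n l = true →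
    ∀ f < l.length, p (n + f) (l.getD f (0, 0)) = true
  | [], _, _, f, hf => absurd hf (Nat.not_lt_zero _)
  | x :: l, n, h, 0, _ => by
    rw [allIdx, Bool.and_eq_true] at h
    simpa using h.1
  | x :: l, n, h, f + 1, hf => by
    rw [allIdx, Bool.and_eq_true] at h
    have := allIdx_spec p l (n + 1) h.2 f (by simpa using hf)
    rwa [List.getD_cons_succ, ← show n + 1 + f = n + (f + 1) by omega]

theorem count_check :
    allIdx (fun f x => (x.1 == 352) == dMask.testBit f) 0 (wc 11 0) = true := by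
  decide +kernel

theorem nOne_eq_352_iff {L : ℕ → Bool} (hL : Additive 11 L) :
    nOne L = 352 ↔ dMask.testBit (fOf 11 L) = true := by
  have h := allIdx_spec _ _ _ count_check (fOf 11 L) (by rw [wc_length]; exact fOf_lt L 11)
  rw [zero_add, beq_iff_eq] at h
  rw [nOne_eq hL, ← h, beq_iff_eq]

/-- The condition on two entries. -/
def pairOK (x y : Fin 24 × Fin 24 × ℕ) : Bool :=
  if x.1 = y.1 ∨ x.1 = y.2.1 ∨ x.2.1 = y.1 ∨ x.2.1 = y.2.1 then
    decide (x.2.2 = y.2.2 → x.1 = y.1 ∧ x.2.1 = y.2.1)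
  else decide (x.2.2 ≠ y.2.2) && !dMask.testBit (x.2.2 ^^^ y.2.2)

theorem pair_check : dTab.all (fun x => dTab.all (pairOK x)) = true := by decide +kernel

theorem exists_entry {i j : Fin 24} (h : i ≠ j) : ∃ x ∈ dTab, x.2.2 = dF i j ∧
    ((x.1 = i ∧ x.2.1 = j) ∨ (x.1 = j ∧ x.2.1 = i)) := by
  rcases lt_or_gt_of_ne h with h | h
  · exact ⟨_, mem_dTab h, rfl, Or.inl ⟨rfl, rfl⟩⟩
  · exact ⟨_, mem_dTab h, dF_comm j i, Or.inr ⟨rfl, rfl⟩⟩

theorem dF_inj {i j k l : Fin 24} (hij : i ≠ j) (hkl : k ≠ l) (h : dF i j = dF k l) :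
    (i = k ∧ j = l) ∨ (i = l ∧ j = k) := by
  obtain ⟨x, hx, ex, hx'⟩ := exists_entry hij
  obtain ⟨y, hy, ey, hy'⟩ := exists_entry hkl
  have hok := List.all_eq_true.1 (List.all_eq_true.1 pair_check x hx) y hy
  have he : x.2.2 = y.2.2 := by rw [ex, ey, h]
  rw [pairOK] at hok
  split_ifs at hok
  · obtain ⟨h1, h2⟩ := of_decide_eq_true hok he
    rcases hx' with ⟨a, b⟩ | ⟨a, b⟩ <;> rcases hy' with ⟨c, d⟩ | ⟨c, d⟩ <;>
      rw [a, c] at h1 <;> rw [b, d] at h2
    · exact Or.inl ⟨h1, h2⟩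
    · exact Or.inr ⟨h1, h2⟩
    · exact Or.inr ⟨h2, h1⟩
    · exact Or.inl ⟨h2, h1⟩
  · simp [he] at hok

theorem share_of_sum {i j k l m n : Fin 24} (hij : i ≠ j) (hkl : k ≠ l) (hmn : m ≠ n)
    (h : dF i j ^^^ dF k l = dF m n) : i = k ∨ i = l ∨ j = k ∨ j = l := by
  obtain ⟨x, hx, ex, hx'⟩ := exists_entry hij
  obtain ⟨y, hy, ey, hy'⟩ := exists_entry hkl
  have hok := List.all_eq_true.1 (List.all_eq_true.1 pair_check x hx) y hy
  rw [pairOK] at hok
  split_ifs at hok with hs
  · rcases hx' with ⟨a, b⟩ | ⟨a, b⟩ <;> rcases hy' with ⟨c, d⟩ | ⟨c, d⟩ <;>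
      rw [a, b, c, d] at hs <;> tauto
  · rw [ex, ey, h, testBit_dMask.2 ⟨m, n, hmn, rfl⟩] at hok
    simp at hok

theorem dF_ne_zero {i j : Fin 24} (h : i ≠ j) : dF i j ≠ 0 := by
  intro e
  have h0 : dMask.testBit 0 = false := by decide +kernel
  rw [← e, testBit_dMask.2 ⟨i, j, h, rfl⟩] at h0
  exact Bool.noConfusion h0

/-! ### The permutation of the points -/

theorem val_xor (a b : Fin 2048) : (a ^^^ b).val = a.val ^^^ b.val := by
  rw [Fin.xor_val_of_two_pow (w := 11) a b]

/-- The pullback of a functional. -/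
def pull (g : Equiv.Perm (Fin 2048)) (L : ℕ → Bool) (r : ℕ) : Bool :=
  L (g ⟨r % 2048, Nat.mod_lt _ (by norm_num)⟩).val

/-- Linear and preserving `S`. -/
structure Preserves (g : Equiv.Perm (Fin 2048)) : Prop where
  xor : ∀ a b, g (a ^^^ b) = g a ^^^ g b
  mem : ∀ a, inS (g a) = inS a

theorem Preserves.additive {g : Equiv.Perm (Fin 2048)} (hg : Preserves g) {L : ℕ → Bool}
    (hL : Additive 11 L) : Additive 11 (pull g L) := by
  intro a ha b hb
  have e : (⟨(a ^^^ b) % 2048, Nat.mod_lt _ (by norm_num)⟩ : Fin 2048) =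
      ⟨a % 2048, Nat.mod_lt _ (by norm_num)⟩ ^^^ ⟨b % 2048, Nat.mod_lt _ (by norm_num)⟩ := by
    refine Fin.ext ?_
    rw [val_xor]
    simp only
    rw [Nat.mod_eq_of_lt (show a < 2048 from ha), Nat.mod_eq_of_lt (show b < 2048 from hb),
      Nat.mod_eq_of_lt (Nat.xor_lt_two_pow (n := 11) ha hb)]
  simp only [pull, e, hg.xor, val_xor]
  exact hL _ (Fin.isLt _) _ (Fin.isLt _)

theorem pull_val (g : Equiv.Perm (Fin 2048)) (L : ℕ → Bool) (a : Fin 2048) :
    pull g L a.val = L (g a).val := by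
  simp [pull, Nat.mod_eq_of_lt a.isLt]

theorem Preserves.nOne_pull {g : Equiv.Perm (Fin 2048)} (hg : Preserves g) (L : ℕ → Bool) :
    nOne (pull g L) = nOne L := by
  refine Finset.card_equiv g fun a => ?_
  simp [pull_val, hg.mem]

theorem Preserves.exists_duad {g : Equiv.Perm (Fin 2048)} (hg : Preserves g) {i j : Fin 24}
    (hij : i ≠ j) : ∃ k l : Fin 24, k ≠ l ∧ dF k l = fOf 11 (pull g (duadB i j)) := by
  refine testBit_dMask.1 ((nOne_eq_352_iff (hg.additive (duadB_additive i j))).1 ?_)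
  rw [hg.nOne_pull]
  exact (nOne_eq_352_iff (duadB_additive i j)).2 (testBit_dMask.2 ⟨i, j, hij, rfl⟩)

theorem Preserves.pull_inj {g : Equiv.Perm (Fin 2048)} (hg : Preserves g) {i j k l : Fin 24}
    (hij : i ≠ j) (hkl : k ≠ l) (h : fOf 11 (pull g (duadB i j)) = fOf 11 (pull g (duadB k l))) :
    (i = k ∧ j = l) ∨ (i = l ∧ j = k) := by
  refine dF_inj hij hkl (fOf_congr 11 fun r hr => ?_)
  obtain ⟨a, ha⟩ := g.surjective ⟨r, hr⟩
  have e1 := dot_fOf 11 (hg.additive (duadB_additive i j)) a.val a.isLt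
  have e2 := dot_fOf 11 (hg.additive (duadB_additive k l)) a.val a.isLt
  rw [h, e2, pull_val, pull_val, ha] at e1
  exact e1.symm

theorem pull_add (g : Equiv.Perm (Fin 2048)) (i j k : Fin 24) :
    fOf 11 (pull g (duadB i k)) = fOf 11 (pull g (duadB i j)) ^^^ fOf 11 (pull g (duadB j k)) := by
  rw [← fOf_xor]
  refine fOf_congr 11 fun r _ => ?_
  simp only [pull, duadB]
  cases (psiN _).testBit i.val <;> cases (psiN _).testBit j.val <;>
    cases (psiN _).testBit k.val <;> rfl

/-- A family of pairs, any two meeting in one point and without a triangle, is a star. -/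
theorem exists_center {ι : Type*} (P Q : ι → Fin 24) (hne : ∀ q, P q ≠ Q q) {q r : ι} (hqr : q ≠ r)
    (hdist : ∀ q r, q ≠ r → ¬((P q = P r ∧ Q q = Q r) ∨ (P q = Q r ∧ Q q = P r)))
    (hmeet : ∀ q r, q ≠ r → P q = P r ∨ P q = Q r ∨ Q q = P r ∨ Q q = Q r)
    (htri : ∀ q r t, q ≠ r → q ≠ t → r ≠ t →
      dF (P q) (Q q) ^^^ dF (P r) (Q r) ≠ dF (P t) (Q t)) :
    ∃ a, ∀ t, P t = a ∨ Q t = a := by
  obtain ⟨a, b, c, hab, hac, hbc, eq', er'⟩ : ∃ a b c, a ≠ b ∧ a ≠ c ∧ b ≠ c ∧
      ((P q = a ∧ Q q = b) ∨ (P q = b ∧ Q q = a)) ∧ ((P r = a ∧ Q r = c) ∨ (P r = c ∧ Q r = a)) := by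
    have := hdist q r hqr
    have := hne q
    have := hne r
    rcases hmeet q r hqr with h | h | h | h
    · exact ⟨P q, Q q, Q r, by tauto, by rw [h]; tauto, fun e => this (by tauto), by tauto, by tauto⟩
    · exact ⟨P q, Q q, P r, by tauto, by rw [h]; exact (hne r).symm, fun e => by tauto, by tauto, by tauto⟩
    · exact ⟨Q q, P q, Q r, (hne q).symm, by rw [h]; tauto, fun e => by tauto, by tauto, by tauto⟩
    · exact ⟨Q q, P q, P r, (hne q).symm, by rw [h]; exact (hne r).symm, fun e => by tauto, by tauto, by tauto⟩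
  refine ⟨a, fun t => ?_⟩
  by_contra hcon
  have htq : t ≠ q := by rintro rfl; tauto
  have htr : t ≠ r := by rintro rfl; tauto
  have h1 := hmeet t q htq
  have h2 := hmeet t r htr
  have hbc' : (P t = b ∧ Q t = c) ∨ (P t = c ∧ Q t = b) := by
    rcases eq' with ⟨e1, e2⟩ | ⟨e1, e2⟩ <;> rcases er' with ⟨e3, e4⟩ | ⟨e3, e4⟩ <;>
      rw [e1, e2] at h1 <;> rw [e3, e4] at h2 <;> grind
  refine htri q r t hqr htq.symm htr.symm ?_
  have e1 : dF (P q) (Q q) = dF b a := by
    rcases eq' with ⟨x, y⟩ | ⟨x, y⟩ <;> rw [x, y]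
    exact dF_comm a b
  have e2 : dF (P r) (Q r) = dF a c := by
    rcases er' with ⟨x, y⟩ | ⟨x, y⟩ <;> rw [x, y]
    exact dF_comm c a
  rw [e1, e2, ← dF_add b a c]
  rcases hbc' with ⟨x, y⟩ | ⟨x, y⟩ <;> rw [x, y]
  exact dF_comm b c

theorem Preserves.exists_points {g : Equiv.Perm (Fin 2048)} (hg : Preserves g) :
    ∃ s : Equiv.Perm (Fin 24), ∀ i j, i ≠ j → fOf 11 (pull g (duadB i j)) = dF (s i) (s j) := by
  choose P Q hPQ hF using fun q : {q : Fin 24 // q ≠ 0} => hg.exists_duad (i := 0) (j := q.1) q.2.symm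
  have hsum : ∀ q r : {q : Fin 24 // q ≠ 0}, fOf 11 (pull g (duadB q.1 r.1)) =
      dF (P q) (Q q) ^^^ dF (P r) (Q r) := fun q r => by
    rw [hF, hF, pull_add g q.1 0 r.1]
    congr 1
    exact fOf_congr 11 fun _ _ => by simp only [pull, duadB]; exact Bool.xor_comm _ _
  obtain ⟨a, ha⟩ : ∃ a, ∀ t, P t = a ∨ Q t = a := by
    refine exists_center P Q hPQ (q := ⟨1, by decide⟩) (r := ⟨2, by decide⟩) (by decide) ?_ ?_ ?_
    · intro q r hqr h
      have e : dF (P q) (Q q) = dF (P r) (Q r) := by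
        rcases h with ⟨x, y⟩ | ⟨x, y⟩ <;> rw [x, y]
        exact dF_comm _ _
      rw [hF, hF] at e
      rcases hg.pull_inj q.2.symm r.2.symm e with ⟨-, h⟩ | ⟨h, -⟩
      · exact hqr (Subtype.ext h)
      · exact r.2 h.symm
    · intro q r hqr
      obtain ⟨k, l, hkl, e⟩ := hg.exists_duad (i := q.1) (j := r.1) fun h => hqr (Subtype.ext h)
      exact share_of_sum (hPQ q) (hPQ r) hkl ((hsum q r).symm.trans e.symm)
    · intro q r t hqr hqt hrt h
      rw [← hsum, hF] at h
      rcases hg.pull_inj (fun e => hqr (Subtype.ext e)) t.2.symm h with ⟨h, -⟩ | ⟨-, h⟩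
      · exact q.2 h
      · exact r.2 h
  let s0 : Fin 24 → Fin 24 := fun i => if h : i = 0 then a else if P ⟨i, h⟩ = a then Q ⟨i, h⟩ else P ⟨i, h⟩
  have hs : ∀ q : {q : Fin 24 // q ≠ 0}, dF (P q) (Q q) = dF a (s0 q.1) ∧ a ≠ s0 q.1 := fun q => by
    have hdef : s0 q.1 = if P q = a then Q q else P q := dif_neg q.2
    by_cases h : P q = a
    · rw [hdef, if_pos h, ← h]; exact ⟨rfl, hPQ q⟩
    · have := (ha q).resolve_left h
      rw [hdef, if_neg h, ← this]; exact ⟨dF_comm _ _, (hPQ q).symm⟩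
  have hinj : Function.Injective s0 := by
    intro i j h
    by_cases hi : i = 0
    · by_cases hj : j = 0
      · rw [hi, hj]
      · exact absurd ((dif_pos hi).symm.trans h) (hs ⟨j, hj⟩).2
    · by_cases hj : j = 0
      · exact absurd ((dif_pos hj).symm.trans h.symm) (hs ⟨i, hi⟩).2
      · have e1 := (hs ⟨i, hi⟩).1
        have e2 := (hs ⟨j, hj⟩).1
        simp only at e1 e2
        rw [hF] at e1 e2
        rw [h, ← e2] at e1
        rcases hg.pull_inj (Ne.symm hi) (Ne.symm hj) e1 with ⟨-, h⟩ | ⟨h, -⟩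
        · exact h
        · exact absurd h.symm hj
  refine ⟨Equiv.ofBijective s0 (Finite.injective_iff_bijective.1 hinj), fun i j hij => ?_⟩
  have h0 : s0 0 = a := dif_pos rfl
  show _ = dF (s0 i) (s0 j)
  by_cases hi : i = 0
  · subst hi
    rw [h0, ← (hs ⟨j, hij.symm⟩).1, hF]
  · by_cases hj : j = 0
    · subst hj
      rw [h0, dF_comm, ← (hs ⟨i, hi⟩).1, hF]
      exact fOf_congr 11 fun _ _ => by simp only [pull, duadB]; exact Bool.xor_comm _ _
    · rw [hsum ⟨i, hi⟩ ⟨j, hj⟩, (hs ⟨i, hi⟩).1, (hs ⟨j, hj⟩).1, dF_comm a, ← dF_add]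

/-! ### The homomorphism -/

/-- The permutation realising `g`. -/
noncomputable def ptsPerm {g : Equiv.Perm (Fin 2048)} (hg : Preserves g) : Equiv.Perm (Fin 24) :=
  hg.exists_points.choose

theorem ptsPerm_spec {g : Equiv.Perm (Fin 2048)} (hg : Preserves g) (i j : Fin 24) (a : Fin 2048) :
    duadB i j (g a).val = duadB (ptsPerm hg i) (ptsPerm hg j) a.val := by
  by_cases hij : i = j
  · subst hij; simp [duadB]
  · have h := dot_fOf 11 (hg.additive (duadB_additive i j)) a.val a.isLt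
    rw [hg.exists_points.choose_spec i j hij, duadB_eq_dot _ _ a.isLt, pull_val] at h
    exact h.symm

theorem points_unique {s t : Equiv.Perm (Fin 24)}
    (h : ∀ i j, ∀ a : Fin 2048, duadB (s i) (s j) a.val = duadB (t i) (t j) a.val) : s = t := by
  have hd : ∀ i j, dF (s i) (s j) = dF (t i) (t j) := fun i j =>
    fOf_congr 11 fun r hr => h i j ⟨r, hr⟩
  refine Equiv.ext fun i => ?_
  obtain ⟨j, k, hj, hk, hjk⟩ : ∃ j k : Fin 24, j ≠ i ∧ k ≠ i ∧ j ≠ k := by revert i; decide
  rcases dF_inj (s.injective.ne hj.symm) (t.injective.ne hj.symm) (hd i j) with ⟨e, -⟩ | ⟨e1, -⟩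
  · exact e
  rcases dF_inj (s.injective.ne hk.symm) (t.injective.ne hk.symm) (hd i k) with ⟨e, -⟩ | ⟨e2, -⟩
  · exact e
  exact absurd (t.injective (e1.symm.trans e2)) hjk

theorem psiN_inCode (a : ℕ) : inCode (psiN a) = true := by
  have hb : ∀ b ∈ goBasis, inCode b = true := by decide +kernel
  unfold psiN
  generalize goBasis = bs at hb
  induction bs generalizing a with
  | nil =>
    show inCode 0 = true
    decide +kernel
  | cons b bs ih =>
    rw [encC]
    refine inCode_xor ?_ (ih _ fun x hx => hb x (List.mem_cons_of_mem _ hx))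
    split
    · exact hb b List.mem_cons_self
    · decide +kernel

theorem cbComb_check : (cbComb.map fun x => psiN x.1 ^^^ (if x.2 then 2 ^ 24 - 1 else 0)) = codeBasis ∧
    cbComb.all (fun x => decide (x.1 < 2048)) = true := by decide +kernel

theorem inCode_pad (b : Bool) : inCode (if b then 2 ^ 24 - 1 else 0) = true := by
  cases b <;> decide +kernel

theorem testBit_pad (b : Bool) (i : Fin 24) : (if b then 2 ^ 24 - 1 else 0).testBit i.val = b := by
  cases b
  · simp
  · rw [if_pos rfl, Nat.testBit_two_pow_sub_one]; simp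

theorem ptsPerm_mem {g : Equiv.Perm (Fin 2048)} (hg : Preserves g) :
    ptEnc.symm.permCongr (ptsPerm hg).symm ∈ M24 := by
  refine mem_M24_of_basis fun b hb => ?_
  rw [← cbComb_check.1, List.mem_map] at hb
  obtain ⟨⟨r, e⟩, hx, rfl⟩ := hb
  have hr : r < 2048 := by simpa using List.all_eq_true.1 cbComb_check.2 _ hx
  let a : Fin 2048 := ⟨r, hr⟩
  let c : Bool := ((psiN (g a).val).testBit 0 ^^ (psiN r).testBit (ptsPerm hg 0).val) ^^ e
  refine mem_supports_iff.2 ⟨psiN (g a).val ^^^ (if c then 2 ^ 24 - 1 else 0),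
    inCode_xor (psiN_inCode _) (inCode_pad c), ?_⟩
  ext p
  obtain ⟨i, rfl⟩ := ptEnc.symm.surjective p
  rw [mem_smul_pts, mem_ptsOf, mem_ptsOf, testBit_idx]
  have e' : (ptEnc.symm.permCongr (ptsPerm hg).symm).symm (ptEnc.symm i) =
      ptEnc.symm (ptsPerm hg i) := by
    rw [Equiv.symm_apply_eq]; simp [Equiv.permCongr_apply]
  rw [e', testBit_idx, Nat.testBit_xor, Nat.testBit_xor, testBit_pad, testBit_pad]
  have h := ptsPerm_spec hg i 0 a
  simp only [duadB, a] at h
  simp only [c, a]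
  revert h
  show ((_ ^^ (psiN _).testBit 0) = _) → _
  cases (psiN (g ⟨r, hr⟩).val).testBit i.val <;> cases (psiN (g ⟨r, hr⟩).val).testBit 0 <;>
    cases (psiN r).testBit (ptsPerm hg i).val <;> cases (psiN r).testBit (ptsPerm hg 0).val <;>
    cases e <;> simp

theorem psi_faithful :
    (List.range 2048).all (fun r => r == 0 || (psiN r != 0 && psiN r != 2 ^ 24 - 1)) = true := by
  decide +kernel

/-- Linear maps of `2^11` preserving the words of weight 8 or 16 lie in `M₂₄`. -/
theorem exists_hom_M24 {H : Type*} [Group H] (φ : H →* Equiv.Perm (Fin 2048))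
    (hinj : Function.Injective φ) (hxor : ∀ h a b, φ h (a ^^^ b) = φ h a ^^^ φ h b)
    (hS : ∀ h a, inS (φ h a) = inS a) : ∃ f : H →* Cfsg.M24, Function.Injective f := by
  have hP : ∀ h, Preserves (φ h) := fun h => ⟨hxor h, hS h⟩
  have hmul : ∀ h k, ptsPerm (hP (h * k)) = ptsPerm (hP k) * ptsPerm (hP h) := fun h k => by
    refine points_unique fun i j a => ?_
    rw [← ptsPerm_spec, map_mul, Equiv.Perm.mul_apply, ptsPerm_spec (hP h), ptsPerm_spec (hP k)]
    rfl
  let f : H →* Cfsg.M24 := MonoidHom.mk' (fun h => ⟨_, ptsPerm_mem (hP h)⟩) fun h k => by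
    refine Subtype.ext (Equiv.ext fun p => ?_)
    show ptEnc.symm.permCongr (ptsPerm (hP (h * k))).symm p = _
    rw [hmul]
    simp [Equiv.permCongr_apply, Equiv.Perm.mul_def]
  refine ⟨f, (injective_iff_map_eq_one f).2 fun h hh => ?_⟩
  have hs : ptsPerm (hP h) = 1 := by
    have e : ptEnc.symm.permCongr (ptsPerm (hP h)).symm = 1 := congrArg Subtype.val hh
    refine Equiv.ext fun i => ?_
    have := congrArg (fun σ : Equiv.Perm GolayPt => ptEnc (σ (ptEnc.symm (ptsPerm (hP h) i)))) e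
    simpa [Equiv.permCongr_apply] using this.symm
  refine hinj ((Equiv.ext fun a => ?_).trans (map_one φ).symm)
  show φ h a = a
  let d : Fin 2048 := φ h a ^^^ a
  have hd : ∀ i : Fin 24, (psiN d.val).testBit i.val = (psiN d.val).testBit 0 := fun i => by
    have := ptsPerm_spec (hP h) i 0 a
    rw [hs] at this
    simp only [duadB, Equiv.Perm.one_apply] at this
    simp only [d, val_xor, psiN_xor, Nat.testBit_xor]
    revert this
    show ((_ ^^ (psiN _).testBit 0) = (_ ^^ (psiN _).testBit 0)) → _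
    cases (psiN (φ h a).val).testBit i.val <;> cases (psiN (φ h a).val).testBit 0 <;>
      cases (psiN a.val).testBit i.val <;> cases (psiN a.val).testBit 0 <;> simp
  have hd0 : d.val = 0 := by
    have hch := List.all_eq_true.1 psi_faithful d.val (List.mem_range.2 d.isLt)
    simp only [Bool.or_eq_true, beq_iff_eq, Bool.and_eq_true, bne_iff_ne] at hch
    refine hch.resolve_right fun hne => ?_
    have hlt : psiN d.val < 2 ^ 24 := (inCode_spec (psiN_inCode _)).1
    rcases hb : (psiN d.val).testBit 0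
    · refine hne.1 (Nat.eq_of_testBit_eq fun i => ?_)
      rcases lt_or_ge i 24 with hi | hi
      · rw [hd ⟨i, hi⟩, hb, Nat.zero_testBit]
      · rw [Nat.testBit_lt_two_pow (lt_of_lt_of_le hlt (Nat.pow_le_pow_right (by norm_num) hi)),
          Nat.zero_testBit]
    · refine hne.2 (Nat.eq_of_testBit_eq fun i => ?_)
      rw [Nat.testBit_two_pow_sub_one]
      rcases lt_or_ge i 24 with hi | hi
      · rw [hd ⟨i, hi⟩, hb]; simp [hi]
      · rw [Nat.testBit_lt_two_pow (lt_of_lt_of_le hlt (Nat.pow_le_pow_right (by norm_num) hi))]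
        simp [Nat.not_lt.2 hi]
  simp only [d, val_xor, Nat.xor_eq_zero_iff] at hd0
  exact Fin.ext hd0

end Cfsg.Agent.ConwayType
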