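import Cfsg.Agent.Lib.ConwayType.Classify
import Cfsg.Agent.Lib.ConwayType.GolayAut
import Cfsg.Agent.Lib.ConwayType.BigCert

/-!
# The data of the subgroup `2^11`

`L = ⟨rE, rS', rS⟩`, complement `⟨uu 0, uu 1, uu 2⟩`, `V = ⟨pp 0, pp 1, pp 2⟩` the translations fixing
`L`. An element of `2^11` is a number: bit `0` for `z`, `1` for `y`, `2-4` for the `m`-part, `5-7` for
the `n`-part, `8-10` for the part in `V`.
-/

set_option autoImplicit false
set_option maxRecDepth 100000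
set_option synthInstance.maxSize 4096

namespace Cfsg.Agent.ConwayType

/-- A permutation by its values. -/
def mkP (f g : Fin 8 → Fin 8) (h : ∀ i, g (f i) = i ∧ f (g i) = i) : Equiv.Perm (Fin 8) :=
  ⟨f, g, fun i => (h i).1, fun i => (h i).2⟩

/-- The vector with bits `n`. -/
def wOf (n : ℕ) : W :=
  (n.testBit 0, n.testBit 1, n.testBit 2, n.testBit 3, n.testBit 4, n.testBit 5)

/-- A basis of `L`. -/
def ll : Fin 3 → W := ![rE, rS', rS]
/-- A basis of a complement. -/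
def uu : Fin 3 → W := ![wOf 25, wOf 44, wOf 30]
/-- A basis of `V`. -/
def pp : Fin 3 → Equiv.Perm (Fin 8) :=
  ![p4, Equiv.swap 0 2 * Equiv.swap 1 3 * Equiv.swap 4 6 * Equiv.swap 5 7,
    Equiv.swap 0 4 * Equiv.swap 1 5 * Equiv.swap 2 6 * Equiv.swap 3 7]

/-- The third index. -/
def th3 (i j : Fin 3) : Fin 3 := -(i + j)

/-- `L` by bits. -/
def lsp (k : ℕ) : W :=
  add (add (smul (k.testBit 0) (ll 0)) (smul (k.testBit 1) (ll 1))) (smul (k.testBit 2) (ll 2))

/-- `V` by bits. -/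
def pof (c : ℕ) : Equiv.Perm (Fin 8) :=
  cond (c.testBit 0) (pp 0) 1 * cond (c.testBit 1) (pp 1) 1 * cond (c.testBit 2) (pp 2) 1

/-- Membership of `lsp k` in the commutators of `pof c`. -/
def inR (c k : ℕ) : Bool := decide (∃ u : W, add u (act (pof c) u) = lsp k)

/-- The `m`-index. -/
def wI (a : ℕ) : ℕ := a / 4 % 8
/-- The `n`-index. -/
def vI (a : ℕ) : ℕ := a / 32 % 8
/-- The `V`-index. -/
def cI (a : ℕ) : ℕ := a / 256 % 8

/-- Representatives of the class of `z`. -/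
def zRep (a : ℕ) : Bool :=
  if cI a = 0 then a != 0 && (vI a == 0 || wI a == 0)
  else (vI a == 0 && !a.testBit 1 && !inR (cI a) (wI a)) ||
    (wI a == 0 && !a.testBit 0 && !inR (cI a) (vI a))

/-- Representatives of the other class. -/
def tRep (a : ℕ) : Bool :=
  if cI a = 0 then wI a != 0 && vI a != 0 && wI a != vI a
  else (vI a == 0 && (a.testBit 1 || inR (cI a) (wI a))) ||
    (wI a == 0 && (a.testBit 0 || inR (cI a) (vI a)))

/-- The linear map with images `l` of the basis. -/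
def lmap : List ℕ → ℕ → ℕ
  | [], _ => 0
  | x :: l, a => (cond (a.testBit 0) x 0) ^^^ lmap l (a / 2)

/-- Carries `p4` to `pof 0`. -/
def kapP0 : Equiv.Perm (Fin 8) :=
  mkP ![0, 1, 2, 3, 4, 5, 6, 7] ![0, 1, 2, 3, 4, 5, 6, 7] (by decide)

/-- Carries `p4` to `pof 1`. -/
def kapP1 : Equiv.Perm (Fin 8) :=
  mkP ![0, 1, 2, 3, 4, 5, 6, 7] ![0, 1, 2, 3, 4, 5, 6, 7] (by decide)

/-- Carries `p4` to `pof 2`. -/
def kapP2 : Equiv.Perm (Fin 8) :=
  mkP ![0, 2, 4, 6, 3, 1, 7, 5] ![0, 5, 1, 4, 2, 7, 3, 6] (by decide)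

/-- Carries `p4` to `pof 3`. -/
def kapP3 : Equiv.Perm (Fin 8) :=
  mkP ![0, 3, 4, 7, 1, 2, 5, 6] ![0, 4, 5, 1, 2, 6, 7, 3] (by decide)

/-- Carries `p4` to `pof 4`. -/
def kapP4 : Equiv.Perm (Fin 8) :=
  mkP ![0, 4, 1, 5, 3, 7, 2, 6] ![0, 2, 6, 4, 1, 3, 7, 5] (by decide)

/-- Carries `p4` to `pof 5`. -/
def kapP5 : Equiv.Perm (Fin 8) :=
  mkP ![0, 5, 1, 4, 2, 7, 3, 6] ![0, 2, 4, 6, 3, 1, 7, 5] (by decide)

/-- Carries `p4` to `pof 6`. -/
def kapP6 : Equiv.Perm (Fin 8) :=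
  mkP ![0, 6, 1, 7, 2, 4, 3, 5] ![0, 2, 4, 6, 5, 7, 1, 3] (by decide)

/-- Carries `p4` to `pof 7`. -/
def kapP7 : Equiv.Perm (Fin 8) :=
  mkP ![0, 7, 1, 6, 3, 4, 2, 5] ![0, 2, 6, 4, 5, 7, 3, 1] (by decide)

/-- Carries `p4` to `pof c`, fixing `L`. -/
def kapC : Fin 8 → Equiv.Perm (Fin 8) :=
  ![kapP0, kapP1, kapP2, kapP3, kapP4, kapP5, kapP6, kapP7]

/-- An involution fixing `L` and its complement. -/
def sd1 : Equiv.Perm (Fin 8) :=
  mkP ![6, 2, 1, 5, 7, 3, 0, 4] ![6, 2, 1, 5, 7, 3, 0, 4] (by decide)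

/-- A second one. -/
def sd2 : Equiv.Perm (Fin 8) :=
  mkP ![5, 3, 7, 1, 6, 0, 4, 2] ![5, 3, 7, 1, 6, 0, 4, 2] (by decide)

/-- Carries `p4` to `sd1`. -/
def kd1 : Equiv.Perm (Fin 8) :=
  mkP ![0, 6, 1, 2, 3, 5, 4, 7] ![0, 2, 3, 4, 6, 5, 1, 7] (by decide)

/-- Carries `p4` to `sd2`. -/
def kd2 : Equiv.Perm (Fin 8) :=
  mkP ![0, 5, 1, 3, 2, 7, 6, 4] ![0, 2, 4, 3, 7, 1, 6, 5] (by decide)

/-- The images of the basis under the generators. -/
def imgs : List (List ℕ) :=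
  [[1, 3, 4, 8, 16, 36, 72, 144, 256, 512, 1024],
    [1, 2, 5, 8, 16, 35, 64, 128, 257, 529, 1033],
    [1, 2, 4, 9, 16, 32, 67, 128, 272, 513, 1029],
    [1, 2, 4, 8, 17, 32, 64, 131, 264, 516, 1025],
    [1, 2, 7, 8, 16, 34, 64, 128, 258, 642, 1090],
    [1, 2, 4, 11, 16, 32, 66, 128, 384, 514, 1058],
    [1, 2, 4, 8, 19, 32, 64, 130, 320, 544, 1026]]
/-- The image of `a` under the generator `g`. -/
def gimg (g a : ℕ) : ℕ := lmap (imgs.getD g []) a

/-- Running a certificate. -/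
def run (rep : ℕ → Bool) : List ℕ → ℕ → Option ℕ
  | [], known => some known
  | s :: t, known =>
    if s / 2048 = 7 then (if rep (s % 2048) then run rep t (known ||| 2 ^ (s % 2048)) else none)
    else if s / 2048 < 7 ∧ known.testBit (s % 2048) then
      run rep t (known ||| 2 ^ gimg (s / 2048) (s % 2048)) else none

theorem run_sound {rep : ℕ → Bool} {P : ℕ → Prop} (hrep : ∀ a < 2048, rep a = true → P a)
    (hg : ∀ g < 7, ∀ a < 2048, P a → P (gimg g a)) :
    ∀ (l : List ℕ) (known m : ℕ), (∀ a, known.testBit a = true → P a) → run rep l known = some m →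
      ∀ a, m.testBit a = true → P a := by
  intro l
  induction l with
  | nil => intro known m hk h a ha; simp only [run, Option.some.injEq] at h; exact hk a (h ▸ ha)
  | cons s t ih =>
    intro known m hk h a ha
    have h2 : s % 2048 < 2048 := Nat.mod_lt _ (by norm_num)
    have step : ∀ b, P b → ∀ c, (known ||| 2 ^ b).testBit c = true → P c := by
      intro b hb c hc
      rw [Nat.testBit_or, Bool.or_eq_true, Nat.testBit_two_pow, decide_eq_true_eq] at hc
      rcases hc with hc | rfl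
      exacts [hk c hc, hb]
    simp only [run] at h
    split_ifs at h with h7 hr hb
    · exact ih _ m (step _ (hrep _ h2 hr)) h a ha
    · exact ih _ m (step _ (hg _ hb.1 _ h2 (hk _ hb.2))) h a ha

theorem zrun : run zRep zSteps 0 = some zMask := by decide +kernel
theorem trun : run tRep tSteps 0 = some tMask := by decide +kernel
theorem masks : ∀ a : Fin 2048, a.val ≠ 0 →
    (cond (inSN a.val) (zMask.testBit a.val) (tMask.testBit a.val)) = true := by decide +kernel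

theorem pp_facts : (∀ i, pp i * pp i = 1 ∧ Equiv.Perm.sign (pp i) = 1 ∧ pp i = pof (2 ^ i.val)) ∧
    ∀ i j, pp i * pp j = pp j * pp i := by decide +kernel
theorem pof_facts : ∀ c : Fin 8, Equiv.Perm.sign (pof c.val) = 1 ∧ pof c.val * pof c.val = 1 ∧
    (pof c.val = 1 → c = 0) ∧ ∀ c' : Fin 8, pof (c ^^^ c').val = pof c.val * pof c'.val := by
  decide +kernel
theorem kap_facts : ∀ c : Fin 8, c ≠ 0 → Equiv.Perm.sign (kapC c) = 1 ∧
    kapC c * p4 * (kapC c)⁻¹ = pof c.val ∧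
    ∀ k : Fin 8, B (lsp k.val) (act (kapC c) rE) = false := by decide +kernel
theorem lsp_facts : ∀ k : Fin 8, q (lsp k.val) = false ∧ (lsp k.val = w0 → k = 0) ∧
    (∀ k' : Fin 8, B (lsp k.val) (lsp k'.val) = false ∧
      lsp (k ^^^ k').val = add (lsp k.val) (lsp k'.val)) ∧
    ∀ c : Fin 8, act (pof c.val) (lsp k.val) = lsp k.val := by decide +kernel
theorem lsp_basis : ∀ i : Fin 3, lsp (2 ^ i.val) = ll i := by decide +kernel
theorem lsp_perp : ∀ w : W, B w (ll 0) = false → B w (ll 1) = false → B w (ll 2) = false →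
    ∃ k : Fin 8, lsp k.val = w := by decide +kernel
theorem uu_facts : ∀ i j : Fin 3, q (uu i) = false ∧ B (uu i) (uu j) = false ∧
    B (uu i) (ll j) = decide (i = j) ∧ B (ll j) (uu i) = decide (i = j) := by decide +kernel
theorem uu_self : ∀ i : Fin 3, act (pp i) (uu i) = uu i ∧
    B (uu i) (act (kapC (2 ^ i.val)) rE) = true := by decide +kernel
theorem uu_third : ∀ i j : Fin 3, i ≠ j → act (pp i) (uu j) = add (ll (th3 i j)) (uu j) ∧
    B (uu j) (ll (th3 i j)) = false ∧ act (pp i * pp j) (add (uu i) (uu j)) = add (uu i) (uu j) ∧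
    th3 i j = th3 j i ∧ pp i * pp j = pof (2 ^ i.val ^^^ 2 ^ j.val) ∧
    B (add (uu i) (uu j)) (act (kapC ⟨(2 ^ i.val ^^^ 2 ^ j.val) % 8, Nat.mod_lt _ (by decide)⟩) rE) =
      true := by decide +kernel
theorem split_facts : Equiv.Perm.sign sd1 = 1 ∧ Equiv.Perm.sign sd2 = 1 ∧ Equiv.Perm.sign kd1 = 1 ∧
    Equiv.Perm.sign kd2 = 1 ∧ kd1 * p4 * kd1⁻¹ = sd1 ∧ kd2 * p4 * kd2⁻¹ = sd2 ∧
    sd1 * sd1 = 1 ∧ sd2 * sd2 = 1 ∧ sd1 * sd2 * (sd1 * sd2) * (sd1 * sd2 * (sd1 * sd2)) = 1 ∧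
    Equiv.Perm.sign (sd1 * sd2 * (sd1 * sd2)) = 1 := by decide +kernel

/-- `V` is the pointwise stabiliser of `L`. -/
theorem fix_L {π : Equiv.Perm (Fin 8)} (h : ∀ k : Fin 8, act π (lsp k.val) = lsp k.val) :
    ∃ c : Fin 8, π = pof c.val := by
  have key : ∀ (τ : Equiv.Perm (Fin 8)) (w : W), act τ w = w →
      ∀ j, ex w j = xor (ex w (τ.symm j)) (ex w (τ.symm 7)) := by
    intro τ w hw j
    have hp : par8 (fun i => ex w (τ.symm i)) = false := (par8_comp _ _).trans (par8_ex w)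
    conv_lhs => rw [← hw]
    exact ex_norm _ hp j
  obtain ⟨c, hc⟩ := (by decide +kernel : ∀ p : Fin 8, ∃ c : Fin 8, (pof c.val).symm 7 = p) (π.symm 7)
  refine ⟨c, Equiv.ext fun i => ?_⟩
  have lab : ∀ i j : Fin 8, ex (ll 0) i = ex (ll 0) j → ex (ll 1) i = ex (ll 1) j →
      ex (ll 2) i = ex (ll 2) j → i = j := by decide +kernel
  have hsymm : ∀ j, π.symm j = (pof c.val).symm j := by
    intro j
    have e : ∀ i : Fin 3, ex (ll i) (π.symm j) = ex (ll i) ((pof c.val).symm j) := by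
      intro i
      have hk := h ⟨2 ^ i.val, Nat.pow_lt_pow_right (a := 2) (n := 3) (by norm_num) i.isLt⟩
      have hk' := (lsp_facts ⟨2 ^ i.val, Nat.pow_lt_pow_right (a := 2) (n := 3) (by norm_num) i.isLt⟩).2.2.2 c
      simp only [lsp_basis] at hk hk'
      have e1 := key π _ hk j
      have e2 := key _ _ hk' j
      rw [e1, hc] at e2
      revert e2
      cases ex (ll i) (π.symm j) <;> cases ex (ll i) ((pof c.val).symm j) <;> simp
    exact lab _ _ (e 0) (e 1) (e 2)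
  rw [show π = pof c.val from Equiv.symm_bijective.injective (Equiv.ext hsymm)]

end Cfsg.Agent.ConwayType
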