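import Cfsg.Agent.Lib.ConwayType.BigLam
import Cfsg.Agent.Lib.ConwayType.BigData

/-!
# The subgroup `2^11`

The centraliser of `E = ⟨z, y, m(L)⟩` is elementary abelian of order `2^11`; generators of its normaliser
act on it by the tables of `BigData`.
-/

set_option autoImplicit false
set_option maxHeartbeats 800000
set_option synthInstance.maxSize 2048

namespace Cfsg.Agent.ConwayType

open Subgroup

/-! ### Products of commuting involutions -/

section
variable {G : Type*} [Group G]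

/-- The product of the elements of `g` selected by the bits of `a`. -/
def bprod : ∀ {n : ℕ}, (Fin n → G) → ℕ → G
  | 0, _, _ => 1
  | _ + 1, g, a => pw (g 0) (a.testBit 0) * bprod (fun k => g k.succ) (a / 2)

theorem bprod_zero : ∀ {n : ℕ} (g : Fin n → G), bprod g 0 = 1
  | 0, _ => rfl
  | n + 1, g => by simp [bprod, bprod_zero (fun k : Fin n => g k.succ)]

theorem bprod_commute : ∀ {n : ℕ} (g : Fin n → G) (a : ℕ) (x : G), (∀ k, Commute x (g k)) →
    Commute x (bprod g a)
  | 0, _, _, x, _ => Commute.one_right x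
  | n + 1, g, a, x, h => (pw_commute (h 0) _).mul_right (bprod_commute _ _ x fun k => h k.succ)

theorem bprod_xor : ∀ {n : ℕ} (g : Fin n → G), (∀ k l, Commute (g k) (g l)) →
    (∀ k, g k * g k = 1) → ∀ a b, bprod g (a ^^^ b) = bprod g a * bprod g b
  | 0, _, _, _, _, _ => (one_mul _).symm
  | n + 1, g, hc, hs, a, b => by
    have h2 : (a ^^^ b) / 2 = a / 2 ^^^ b / 2 := by
      refine Nat.eq_of_testBit_eq fun i => ?_
      simp [Nat.testBit_div_two, Nat.testBit_xor]
    have cm : Commute (pw (g 0) (b.testBit 0)) (bprod (fun k => g k.succ) (a / 2)) :=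
      bprod_commute _ _ _ fun k => (pw_commute (hc 0 k.succ).symm _).symm
    simp only [bprod]
    rw [h2, bprod_xor (fun k => g k.succ) (fun k l => hc _ _) (fun k => hs _), Nat.testBit_xor,
      ← pw_mul (hs 0)]
    calc pw (g 0) (a.testBit 0) * pw (g 0) (b.testBit 0) *
          (bprod (fun k => g k.succ) (a / 2) * bprod (fun k => g k.succ) (b / 2))
        = pw (g 0) (a.testBit 0) * (pw (g 0) (b.testBit 0) * bprod (fun k => g k.succ) (a / 2)) *
          bprod (fun k => g k.succ) (b / 2) := by group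
      _ = _ := by rw [cm.eq]; group

theorem bprod_bit : ∀ {n : ℕ} (g : Fin n → G) (k : Fin n), bprod g (2 ^ k.val) = g k
  | 0, _, k => k.elim0
  | n + 1, g, k => by
    refine Fin.cases ?_ (fun k => ?_) k
    · simp [bprod, bprod_zero]
    · have h : (2 ^ (k.val + 1)).testBit 0 = false := by simp
      simp only [bprod, Fin.val_succ, h, pw_false, one_mul]
      rw [pow_succ, Nat.mul_div_cancel _ (by norm_num : 0 < 2)]
      exact bprod_bit (fun k => g k.succ) k

theorem bprod_map (f : G →* G) (av : ℕ → G) (h0 : av 0 = 1)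
    (hx : ∀ a b, av (a ^^^ b) = av a * av b) : ∀ {n : ℕ} (g : Fin n → G) (l : List ℕ),
    l.length = n → (∀ k : Fin n, f (g k) = av (l.getD k.val 0)) →
      ∀ a, f (bprod g a) = av (lmap l a)
  | 0, g, l, hl, _, a => by
    obtain rfl := List.length_eq_zero_iff.mp hl
    simp [bprod, lmap, h0]
  | n + 1, g, [], hl, _, _ => by simp at hl
  | n + 1, g, x :: l, hl, h, a => by
    simp only [bprod, lmap]
    rw [map_mul, bprod_map f av h0 hx (fun k => g k.succ) l (by simpa using hl)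
      (fun k => by simpa using h k.succ), hx]
    congr 1
    have hz := h 0
    cases a.testBit 0
    · simp [h0]
    · simpa using hz

end

theorem fix_add (π : Equiv.Perm (Fin 8)) {u v : W} (hu : act π u = u) (hv : act π v = v) :
    act π (add u v) = add u v := by rw [act_add, hu, hv]

/-! ### The elements -/

variable {G : Type*} [Group G] [Finite G] {z y : G} {Q : Subgroup G}

/-- The elements of `2^11`. -/
def InA (S : Setup z y Q) (g : G) : Prop :=
  ∃ (k k' c : Fin 8) (a b : Bool) (p : G), Pure S.R (pof c.val) p ∧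
    g = S.R.el (lsp k.val) (lsp k'.val) a b * p

/-- The elements of `⟨z, y, m(L)⟩`. -/
def InE (S : Setup z y Q) (g : G) : Prop :=
  ∃ (k : Fin 8) (a b : Bool), g = S.R.el (lsp k.val) w0 a b

/-- Generators of `2^11` with their actions. -/
structure Lifts (S : Setup z y Q) where
  c : Fin 3 → G
  M : Fin 3 → G
  n : Fin 3 → G
  c_pure : ∀ i, Pure S.R (pp i) (c i)
  c_x : ∀ i, S.F.x * c i * S.F.x⁻¹ = c i
  c_T : ∀ i, ∃ a, S.T.h * c i * S.T.h⁻¹ = c i * pw y a
  M_eq : ∀ k, ∃ e, M k = S.F.m (ll k) * pw z e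
  n_eq : ∀ k, ∃ e, n k = S.R.n (ll k) * pw y e
  n_x : ∀ k, S.F.x * n k * S.F.x⁻¹ = n k * M k
  c_P : ∀ i j, i < j → c i * S.F.m (uu j) * (c i)⁻¹ = M (th3 i j) * S.F.m (uu j)

theorem pure_kk (d : Data z Q) {F : Frame z y Q} (R : Radical F) (a b : Bool) :
    Pure R 1 (R.kk a b) := by
  refine ⟨R.kk_mem d a b, fun w => ⟨false, ?_⟩, fun v => ⟨false, ?_⟩⟩
  · rw [pw_false, mul_one, act_one,
      conj_of_commute (R.commute_kk d (Radical.m_mem d w) a b).symm]
  · rw [pw_false, mul_one, act_one, conj_of_commute (R.commute_kk d (R.mem v) a b).symm]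

theorem Pure.mul_kk (d : Data z Q) {F : Frame z y Q} {R : Radical F} {π : Equiv.Perm (Fin 8)}
    {p : G} (hp : Pure R π p) (a b : Bool) : Pure R π (p * R.kk a b) := by
  have := hp.mul d (pure_kk d R a b)
  rwa [mul_one] at this

theorem Pure.diff (d : Data z Q) {F : Frame z y Q} {R : Radical F} {π : Equiv.Perm (Fin 8)}
    {p p' : G} (hp : Pure R π p) (hp' : Pure R π p') : ∃ a b, p' = p * R.kk a b := by
  have h := (hp.inv d).mul d hp'
  rw [inv_mul_cancel] at h
  obtain ⟨a, b, e⟩ := h.eq_kk d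
  exact ⟨a, b, by rw [← e, mul_inv_cancel_left]⟩

theorem Setup.conj_pure (S : Setup z y Q) (d : Data z Q) {π : Equiv.Perm (Fin 8)} {p : G}
    (hp : Pure S.R π p) : Pure S.R π (S.T.h * p * S.T.h⁻¹) := by
  have := S.T.conj_pure d hp
  rwa [S.hρ, one_mul, inv_one, mul_one] at this

theorem exists_lifts (d : Data z Q) (S : Setup z y Q) : Nonempty (Lifts S) := by
  obtain ⟨F, R, T, hρ, hE⟩ := S
  have hc : ∀ i, ∃ c, Pure R (pp i) c ∧ F.x * c * F.x⁻¹ = c ∧
      ∃ a, T.h * c * T.h⁻¹ = c * pw y a := by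
    intro i
    obtain ⟨c₀, h0⟩ := exists_pure_of_even d R (pp_facts.1 i).2.1
    obtain ⟨e, he⟩ := h0.conjx d
    have h1 := h0.mul_kk d e false
    have hx1 : F.x * (c₀ * R.kk e false) * F.x⁻¹ = c₀ * R.kk e false := by
      rw [show F.x * (c₀ * R.kk e false) * F.x⁻¹ =
        F.x * c₀ * F.x⁻¹ * (F.x * R.kk e false * F.x⁻¹) by group, he, x_kk d,
        ← (R.commute_kk d h0.1 false e).eq, mul_assoc, R.kk_mul d]
      simp
    obtain ⟨a, b, hab⟩ := h1.diff d (Setup.conj_pure ⟨F, R, T, hρ, hE⟩ d h1)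
    refine ⟨c₀ * R.kk e false * R.kk false b, h1.mul_kk d _ _, ?_, xor a b, ?_⟩
    · rw [show F.x * (c₀ * R.kk e false * R.kk false b) * F.x⁻¹ =
        F.x * (c₀ * R.kk e false) * F.x⁻¹ * (F.x * R.kk false b * F.x⁻¹) by group, hx1, x_kk d,
        Bool.false_xor]
    · rw [show T.h * (c₀ * R.kk e false * R.kk false b) * T.h⁻¹ =
        T.h * (c₀ * R.kk e false) * T.h⁻¹ * (T.h * R.kk false b * T.h⁻¹) by group, hab,
        kk_twist d T.h_z T.h_y, show pw y (xor a b) = R.kk (xor a b) false by simp [Radical.kk],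
        mul_assoc _ (R.kk a b), mul_assoc _ (R.kk false b), R.kk_mul d, R.kk_mul d]
      simp
  choose c hcp hcx hcT using hc
  have hM : ∀ i j : Fin 3, i ≠ j →
      ∃ e, c i * F.m (uu j) * (c i)⁻¹ = F.m (ll (th3 i j)) * pw z e * F.m (uu j) := by
    intro i j hij
    obtain ⟨e, he⟩ := (hcp i).2.1 (uu j)
    rw [(uu_third i j hij).1] at he
    obtain ⟨e', he'⟩ := F.m_add (ll (th3 i j)) (uu j)
    refine ⟨xor e' e, ?_⟩
    rw [he, mul_assoc (F.m (ll _)), (pw_commute (d.hub.central _ (F.mem (uu j))) _).eq.symm,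
      ← mul_assoc (F.m (ll _)), he', mul_assoc, pw_mul d.hub.sq]
    cases e <;> cases e' <;> rfl
  have hp : ∀ k : Fin 3, ∃ i j : Fin 3, i < j ∧ th3 i j = k ∧
      ∀ i' j' : Fin 3, i' < j' → th3 i' j' = k → i' = i ∧ j' = j := by decide
  choose I J hIJ hth huniq using hp
  choose ε hε using fun k => hM (I k) (J k) (hIJ k).ne
  have hn : ∀ k, ∃ η, F.x * (R.n (ll k) * pw y η) * F.x⁻¹ =
      R.n (ll k) * pw y η * (F.m (ll k) * pw z (ε k)) := by
    intro k
    obtain ⟨e, he⟩ := x_n_conj d R (ll k)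
    have hq : q (ll k) = false := (by decide +kernel : ∀ k, q (ll k) = false) k
    have hl : R.n (ll k) * F.m (ll k) = F.m (ll k) * R.n (ll k) := by
      have := R.comm (ll k) (ll k)
      rw [B_self, pw_false, pw_false, mul_one, mul_one] at this
      exact mul_inv_eq_iff_eq_mul.mp this
    refine ⟨xor e (ε k), ?_⟩
    have kA : ∀ η, pw y η = R.kk η false := fun η => by simp [Radical.kk]
    have kB : ∀ η, pw z η = R.kk false η := fun η => by simp [Radical.kk]
    rw [kA, kB, show F.x * (R.n (ll k) * R.kk (xor e (ε k)) false) * F.x⁻¹ =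
      F.x * R.n (ll k) * F.x⁻¹ * (F.x * R.kk (xor e (ε k)) false * F.x⁻¹) by group, he, hq,
      x_kk d, R.el_kk d]
    calc R.el (ll k) (ll k) (xor false (xor e (ε k))) (xor e (xor (xor e (ε k)) false))
        = R.el (ll k) (ll k) (xor e (ε k)) (ε k) := by cases e <;> cases ε k <;> rfl
      _ = R.n (ll k) * (F.m (ll k) * (R.kk (xor e (ε k)) false * R.kk false (ε k))) := by
          rw [R.kk_mul d, Radical.el, ← hl]; simp [mul_assoc]
      _ = _ := by
          rw [← mul_assoc (F.m _), (R.commute_kk d (Radical.m_mem d (ll k)) _ _).eq]; group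
  choose η hη using hn
  refine ⟨{ c := c, M := fun k => F.m (ll k) * pw z (ε k), n := fun k => R.n (ll k) * pw y (η k),
            c_pure := hcp, c_x := hcx, c_T := hcT, M_eq := fun k => ⟨_, rfl⟩,
            n_eq := fun k => ⟨_, rfl⟩, n_x := hη, c_P := fun i j hij => ?_ }⟩
  obtain ⟨h1, h2⟩ := huniq (th3 i j) i j hij rfl
  have := hε (th3 i j)
  rw [hth, ← h1, ← h2] at this
  exact this

variable {S : Setup z y Q}

/-- The basis. -/
def gens (l : Lifts S) : Fin 11 → G :=
  ![z, y, l.M 0, l.M 1, l.M 2, l.n 0, l.n 1, l.n 2, l.c 0, l.c 1, l.c 2]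

/-- The element with coordinates `a`. -/
def av (l : Lifts S) (a : ℕ) : G := bprod (gens l) a

theorem InA.el (d : Data z Q) (k k' : Fin 8) (a b : Bool) :
    InA S (S.R.el (lsp k.val) (lsp k'.val) a b) :=
  ⟨k, k', 0, a, b, 1, by simpa [pof] using pure_one d S.R, (mul_one _).symm⟩

theorem InA.pure (d : Data z Q) (c : Fin 8) {p : G} (hp : Pure S.R (pof c.val) p) : InA S p :=
  ⟨0, 0, c, false, false, p, hp, by
    rw [show lsp (0 : Fin 8).val = w0 by decide, S.R.el_zero d, one_mul]⟩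

theorem pure_el_commute (d : Data z Q) (S : Setup z y Q) (c k k' : Fin 8) (a b : Bool) {p : G}
    (hp : Pure S.R (pof c.val) p) : Commute p (S.R.el (lsp k.val) (lsp k'.val) a b) := by
  by_cases hc : c = 0
  · subst hc
    obtain ⟨a', b', e⟩ := (show Pure S.R 1 p by simpa [pof] using hp).eq_kk d
    rw [e]
    exact (S.R.commute_kk d (S.R.el_mem d _ _ _ _) a' b').symm
  obtain ⟨hs, hk, hB⟩ := kap_facts c hc
  have hl : ∀ k : Fin 8, lam S.F (pof c.val) p (lsp k.val) = false := fun k => by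
    rw [S.lam_kappa d hs hk hp ((lsp_facts k).2.2.2 c)]; exact hB k
  have h1 := hp.lam_spec (lsp k.val)
  rw [(lsp_facts k).2.2.2 c, hl, pw_false, mul_one] at h1
  have h2 := hp.lamN d ((lsp_facts k').2.2.2 c)
  rw [hl, pw_false, mul_one] at h2
  exact ((show Commute p _ from mul_inv_eq_iff_eq_mul.mp h1).mul_right
    (mul_inv_eq_iff_eq_mul.mp h2)).mul_right (S.R.commute_kk d hp.1 a b)

theorem el_el_commute (d : Data z Q) (S : Setup z y Q) (k k' m m' : Fin 8) (a b a' b' : Bool) :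
    Commute (S.R.el (lsp k.val) (lsp k'.val) a b) (S.R.el (lsp m.val) (lsp m'.val) a' b') := by
  refine (S.R.el_commute d).mpr ⟨?_, ?_⟩
  · simp only [cy, ((lsp_facts k').2.2.1 m').1, ((lsp_facts k).2.2.1 m').1,
      ((lsp_facts m).2.2.1 k').1, Bool.xor_false]
  · simp only [cz, ((lsp_facts k).2.2.1 m).1, ((lsp_facts k).2.2.1 m').1,
      ((lsp_facts m).2.2.1 k').1, Bool.xor_false]

theorem pure_sq (d : Data z Q) (S : Setup z y Q) (c : Fin 8) {p : G}
    (hp : Pure S.R (pof c.val) p) : p * p = 1 := hp.sq d S.T (pof_facts c).2.1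

theorem InA.commute (d : Data z Q) {g g' : G} (h : InA S g) (h' : InA S g') : Commute g g' := by
  obtain ⟨k, k', c, a, b, p, hp, rfl⟩ := h
  obtain ⟨m, m', c', a', b', p', hp', rfl⟩ := h'
  have hpp : Commute p p' := by
    have hpq := hp.mul d hp'
    rw [← (pof_facts c).2.2.2 c'] at hpq
    have h3 := pure_sq d S _ hpq
    calc p * p' = (p * p')⁻¹ := (inv_eq_of_mul_eq_one_right h3).symm
      _ = p'⁻¹ * p⁻¹ := mul_inv_rev _ _
      _ = p' * p := by
        rw [inv_eq_of_mul_eq_one_right (pure_sq d S c hp),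
          inv_eq_of_mul_eq_one_right (pure_sq d S c' hp')]
  exact ((el_el_commute d S k k' m m' a b a' b').mul_left
      (pure_el_commute d S c m m' a' b' hp)).mul_right
    ((pure_el_commute d S c' k k' a b hp').symm.mul_left hpp)

theorem InA.sq (d : Data z Q) {g : G} (h : InA S g) : g * g = 1 := by
  obtain ⟨k, k', c, a, b, p, hp, rfl⟩ := h
  rw [(pure_el_commute d S c k k' a b hp).mul_mul_mul_comm, pure_sq d S c hp, mul_one,
    S.R.el_sq d, (lsp_facts k').1, (lsp_facts k).1, ((lsp_facts k).2.2.1 k').1]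
  simp [Radical.kk]

variable (l : Lifts S)

theorem gens_inA (d : Data z Q) : ∀ k, InA S (gens l k) := by
  have hl : ∀ k : Fin 3, ∃ j : Fin 8, lsp j.val = ll k := fun k =>
    ⟨⟨2 ^ k.val, Nat.pow_lt_pow_right (a := 2) (n := 3) (by norm_num) k.isLt⟩, lsp_basis k⟩
  have hz : InA S z := by
    have := InA.el (S := S) d 0 0 false true
    rwa [show lsp (0 : Fin 8).val = w0 by decide, S.R.el_w0 d, Radical.kk, pw_false, pw_true,
      one_mul] at this
  have hy : InA S y := by
    have := InA.el (S := S) d 0 0 true false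
    rwa [show lsp (0 : Fin 8).val = w0 by decide, S.R.el_w0 d, Radical.kk, pw_false, pw_true,
      mul_one] at this
  have hM : ∀ k, InA S (l.M k) := fun k => by
    obtain ⟨j, hj⟩ := hl k
    obtain ⟨e, he⟩ := l.M_eq k
    have := InA.el (S := S) d j 0 false e
    rwa [hj, show lsp (0 : Fin 8).val = w0 by decide, Radical.el, S.R.zero, Radical.kk, pw_false,
      mul_one, one_mul, ← he] at this
  have hn : ∀ k, InA S (l.n k) := fun k => by
    obtain ⟨j, hj⟩ := hl k
    obtain ⟨e, he⟩ := l.n_eq k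
    have := InA.el (S := S) d 0 j e false
    rwa [hj, show lsp (0 : Fin 8).val = w0 by decide, Radical.el, S.F.zero, Radical.kk, pw_false,
      mul_one, one_mul, ← he] at this
  have hc : ∀ i, InA S (l.c i) := fun i =>
    InA.pure d ⟨2 ^ i.val, Nat.pow_lt_pow_right (a := 2) (n := 3) (by norm_num) i.isLt⟩
      (by rw [← (pp_facts.1 i).2.2]; exact l.c_pure i)
  intro k
  fin_cases k
  exacts [hz, hy, hM 0, hM 1, hM 2, hn 0, hn 1, hn 2, hc 0, hc 1, hc 2]

theorem av_xor (d : Data z Q) (a b : ℕ) : av l (a ^^^ b) = av l a * av l b :=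
  bprod_xor _ (fun i j => (gens_inA l d i).commute d (gens_inA l d j))
    (fun i => (gens_inA l d i).sq d) a b

theorem av_zero : av l 0 = 1 := bprod_zero _

theorem av_bit (k : Fin 11) : av l (2 ^ k.val) = gens l k := bprod_bit _ k

theorem av_bz : av l 1 = z := av_bit l 0
theorem av_by : av l 2 = y := av_bit l 1

theorem av_kk (d : Data z Q) (a b : Bool) : av l (cond a 2 0 ^^^ cond b 1 0) = S.R.kk a b := by
  rw [av_xor l d, Radical.kk]
  cases a <;> cases b <;> simp [av_zero, av_bz, av_by]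

/-- The shape of `g` is `el w v * p`. -/
theorem av_form (d : Data z Q) {a : ℕ} (ha : a < 2048) : ∃ s t p, Pure S.R (pof (cI a)) p ∧
    av l a = S.R.el (lsp (wI a)) (lsp (vI a)) s t * p := by
  have bits : ∀ a : Fin 2048, ∀ i : Fin 3, (wI a.val).testBit i.val = a.val.testBit (2 + i.val) ∧
      (vI a.val).testBit i.val = a.val.testBit (5 + i.val) ∧
      (cI a.val).testBit i.val = a.val.testBit (8 + i.val) := by decide +kernel
  set g := gens l
  let D : W → W → G → Prop := fun w v x => ∃ s t, x = S.R.el w v s t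
  have dmul : ∀ {w v x w' v' x'}, D w v x → D w' v' x' → D (add w w') (add v v') (x * x') := by
    rintro w v x w' v' x' ⟨s, t, rfl⟩ ⟨s', t', rfl⟩
    exact S.R.el_mul d w v w' v' s t s' t'
  have dz : ∀ e, D w0 w0 (pw z e) := fun e => ⟨false, e, by simp [S.R.el_w0 d, Radical.kk]⟩
  have dy : ∀ e, D w0 w0 (pw y e) := fun e => ⟨e, false, by simp [S.R.el_w0 d, Radical.kk]⟩
  have dM : ∀ k e, D (smul e (ll k)) w0 (pw (l.M k) e) := fun k e => by
    cases e
    · exact ⟨false, false, by simp [smul, S.R.el_zero d]⟩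
    · obtain ⟨e', he⟩ := l.M_eq k
      exact ⟨false, e', by simp [smul, he, Radical.el, S.R.zero, Radical.kk]⟩
  have dn : ∀ k e, D w0 (smul e (ll k)) (pw (l.n k) e) := fun k e => by
    cases e
    · exact ⟨false, false, by simp [smul, S.R.el_zero d]⟩
    · obtain ⟨e', he⟩ := l.n_eq k
      exact ⟨e', false, by simp [smul, he, Radical.el, S.F.zero, Radical.kk]⟩
  have pc : ∀ k e, Pure S.R (cond e (pp k) 1) (pw (l.c k) e) := fun k e => by
    cases e
    exacts [by simpa using pure_one d S.R, by simpa using l.c_pure k]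
  obtain ⟨s, t, hD⟩ := dmul (dmul (dmul (dmul (dmul (dmul (dmul (dz (a.testBit 0))
    (dy (a.testBit 1))) (dM 0 (a.testBit 2))) (dM 1 (a.testBit 3))) (dM 2 (a.testBit 4)))
    (dn 0 (a.testBit 5))) (dn 1 (a.testBit 6))) (dn 2 (a.testBit 7))
  refine ⟨s, t, pw (l.c 0) (a.testBit 8) * pw (l.c 1) (a.testBit 9) * pw (l.c 2) (a.testBit 10),
    ?_, ?_⟩
  · have c0 : (cI a).testBit 0 = a.testBit 8 := (bits ⟨a, ha⟩ 0).2.2
    have c1 : (cI a).testBit 1 = a.testBit 9 := (bits ⟨a, ha⟩ 1).2.2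
    have c2 : (cI a).testBit 2 = a.testBit 10 := (bits ⟨a, ha⟩ 2).2.2
    have : pof (cI a) = cond (a.testBit 8) (pp 0) 1 * cond (a.testBit 9) (pp 1) 1 *
        cond (a.testBit 10) (pp 2) 1 := by
      simp only [pof, c0, c1, c2]
    rw [this]
    exact ((pc 0 _).mul d (pc 1 _)).mul d (pc 2 _)
  · have w0' : (wI a).testBit 0 = a.testBit 2 := (bits ⟨a, ha⟩ 0).1
    have w1' : (wI a).testBit 1 = a.testBit 3 := (bits ⟨a, ha⟩ 1).1
    have w2' : (wI a).testBit 2 = a.testBit 4 := (bits ⟨a, ha⟩ 2).1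
    have v0' : (vI a).testBit 0 = a.testBit 5 := (bits ⟨a, ha⟩ 0).2.1
    have v1' : (vI a).testBit 1 = a.testBit 6 := (bits ⟨a, ha⟩ 1).2.1
    have v2' : (vI a).testBit 2 = a.testBit 7 := (bits ⟨a, ha⟩ 2).2.1
    have hw : lsp (wI a) = add (add (smul (a.testBit 2) (ll 0)) (smul (a.testBit 3) (ll 1)))
        (smul (a.testBit 4) (ll 2)) := by simp only [lsp, w0', w1', w2']
    have hv : lsp (vI a) = add (add (smul (a.testBit 5) (ll 0)) (smul (a.testBit 6) (ll 1)))
        (smul (a.testBit 7) (ll 2)) := by simp only [lsp, v0', v1', v2']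
    simp only [(add_zero' _).1, (add_zero' _).2] at hD
    rw [hw, hv, ← hD]
    show bprod g a = _
    simp only [bprod, g, gens, Nat.testBit_zero, Nat.div_div_eq_div_mul]
    simp [Nat.testBit_eq_decide_div_mod_eq, mul_assoc]

theorem cI_lt (a : ℕ) : cI a < 8 := Nat.mod_lt _ (by norm_num)
theorem wI_lt (a : ℕ) : wI a < 8 := Nat.mod_lt _ (by norm_num)
theorem vI_lt (a : ℕ) : vI a < 8 := Nat.mod_lt _ (by norm_num)

theorem av_inA (d : Data z Q) {a : ℕ} (ha : a < 2048) : InA S (av l a) := by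
  obtain ⟨s, t, p, hp, e⟩ := av_form l d ha
  exact ⟨⟨_, wI_lt a⟩, ⟨_, vI_lt a⟩, ⟨_, cI_lt a⟩, s, t, p, hp, e⟩

theorem exists_av (d : Data z Q) {g : G} (h : InA S g) : ∃ a < 2048, av l a = g := by
  obtain ⟨k, k', c, s, t, p, hp, rfl⟩ := h
  have enc : ∀ k k' c : Fin 8, 4 * k.val + 32 * k'.val + 256 * c.val < 2048 ∧
      wI (4 * k.val + 32 * k'.val + 256 * c.val) = k.val ∧
      vI (4 * k.val + 32 * k'.val + 256 * c.val) = k'.val ∧
      cI (4 * k.val + 32 * k'.val + 256 * c.val) = c.val := by decide +kernel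
  obtain ⟨ha, hw, hv, hcc⟩ := enc k k' c
  obtain ⟨s', t', p', hp', e⟩ := av_form l d ha
  rw [hw, hv] at e
  rw [hcc] at hp'
  obtain ⟨a', b', e'⟩ := hp'.diff d hp
  set A := 4 * k.val + 32 * k'.val + 256 * c.val
  refine ⟨A ^^^ (cond (xor (xor s s') a') 2 0 ^^^ cond (xor (xor t t') b') 1 0),
    Nat.xor_lt_two_pow (n := 11) ha (Nat.xor_lt_two_pow (n := 11) ?_ ?_), ?_⟩
  · cases xor (xor s s') a' <;> norm_num
  · cases xor (xor t t') b' <;> norm_num
  rw [av_xor l d, e, av_kk l d, e']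
  calc S.R.el (lsp k.val) (lsp k'.val) s' t' * p' * S.R.kk (xor (xor s s') a') (xor (xor t t') b')
      = S.R.el (lsp k.val) (lsp k'.val) s' t' * (p' * S.R.kk (xor (xor s s') a') (xor (xor t t') b')) := by
        group
    _ = S.R.el (lsp k.val) (lsp k'.val) s' t' * (S.R.kk (xor s s') (xor t t') * (p' * S.R.kk a' b')) := by
        rw [← mul_assoc (S.R.kk _ _), ← (S.R.commute_kk d hp'.1 _ _).eq, mul_assoc p', S.R.kk_mul d]
    _ = _ := by
        rw [← mul_assoc, S.R.el_kk d]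
        cases s <;> cases s' <;> cases t <;> cases t' <;> rfl

theorem av_eq_one (d : Data z Q) {a : ℕ} (ha : a < 2048) (h : av l a = 1) : a = 0 := by
  obtain ⟨s, t, p, hp, e⟩ := av_form l d ha
  rw [h] at e
  have hc : pof (cI a) = 1 := by
    refine act_inj fun u => ?_
    have := congrArg (fun g => S.F.actW g u) e
    simp only [S.F.actW_one d, S.F.actW_mul d (S.R.el_mem d _ _ _ _) hp.1, S.R.el_act d,
      hp.actW d] at this
    rw [← this, act_one]
  have hc0 : cI a = 0 := congrArg Fin.val ((pof_facts ⟨_, cI_lt a⟩).2.2.1 hc)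
  obtain ⟨a', b', rfl⟩ := (hc ▸ hp).eq_kk d
  rw [S.R.el_kk d, ← S.R.el_zero d] at e
  obtain ⟨h1, h2, -, -⟩ := S.R.el_inj d e
  have hw : wI a = 0 := congrArg Fin.val ((lsp_facts ⟨_, wI_lt a⟩).2.1 h1.symm)
  have hv : vI a = 0 := congrArg Fin.val ((lsp_facts ⟨_, vI_lt a⟩).2.1 h2.symm)
  have small : ∀ a : Fin 2048, cI a.val = 0 → wI a.val = 0 → vI a.val = 0 →
      a.val = cond (a.val.testBit 1) 2 0 ^^^ cond (a.val.testBit 0) 1 0 := by decide +kernel
  have h3 := small ⟨a, ha⟩ hc0 hw hv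
  dsimp only at h3
  rw [h3, av_kk l d, Radical.kk] at h
  obtain ⟨r1, r2⟩ := pw_yz_inj d.hub S.F.sing
    (h.trans (by simp : (1 : G) = pw y false * pw z false))
  rw [h3, r1, r2]
  rfl

theorem av_inj (d : Data z Q) {a b : ℕ} (ha : a < 2048) (hb : b < 2048) (h : av l a = av l b) :
    a = b := by
  have h1 : av l (a ^^^ b) = 1 := by
    rw [av_xor l d, h, ← av_xor l d, Nat.xor_self, av_zero]
  exact Nat.eq_of_xor_eq_zero (av_eq_one l d (Nat.xor_lt_two_pow (n := 11) ha hb) h1)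

/-- The subgroup `2^11`. -/
def AA (d : Data z Q) : Subgroup G where
  carrier := {g | ∃ a < 2048, av l a = g}
  one_mem' := ⟨0, by norm_num, av_zero l⟩
  mul_mem' := by
    rintro _ _ ⟨a, ha, rfl⟩ ⟨b, hb, rfl⟩
    exact ⟨a ^^^ b, Nat.xor_lt_two_pow (n := 11) ha hb, av_xor l d a b⟩
  inv_mem' := by
    rintro _ ⟨a, ha, rfl⟩
    refine ⟨a, ha, (inv_eq_of_mul_eq_one_right ?_).symm⟩
    rw [← av_xor l d, Nat.xor_self, av_zero]

theorem mem_AA (d : Data z Q) {g : G} : g ∈ AA l d ↔ InA S g :=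
  ⟨fun ⟨_, ha, e⟩ => e ▸ av_inA l d ha, exists_av l d⟩

theorem card_AA (d : Data z Q) : Nat.card (AA l d) = 2048 := by
  rw [← Nat.card_fin 2048]
  refine (Nat.card_congr (Equiv.ofBijective
    (fun a : Fin 2048 => (⟨av l a.val, a.val, a.isLt, rfl⟩ : AA l d))
    ⟨fun a b e => Fin.ext (av_inj l d a.isLt b.isLt (congrArg Subtype.val e)), ?_⟩)).symm
  rintro ⟨g, a, ha, e⟩
  exact ⟨⟨a, ha⟩, Subtype.ext e⟩

/-- The centraliser of `⟨z, y, m(L)⟩`. -/
theorem inA_of_centralizes (d : Data z Q) {g : G} (hz : Commute g z) (hy : Commute g y)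
    (hL : ∀ k : Fin 8, Commute g (S.F.m (lsp k.val))) : InA S g := by
  have hD : g ∈ Dzy z y := mem_Dzy.mpr ⟨hz, hy⟩
  obtain ⟨π, w, v, a, b, p, -, hact, hp, rfl⟩ := Pure.el_decomp d S.R hD
  obtain ⟨c, rfl⟩ := fix_L (π := π) fun k => by
    rw [← hact]
    show S.F.wof (_ * S.F.m (lsp k.val) * _) = _
    rw [conj_of_commute (hL k), S.F.wof_m d.hub]
  have hel : ∀ k : Fin 8, B (lsp k.val) v = false ∧ B w (lsp k.val) = false := by
    intro k
    have h1 : Commute p (S.F.m (lsp k.val)) := by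
      have := pure_el_commute d S c k 0 false false hp
      rwa [show lsp (0 : Fin 8).val = w0 by decide, ← S.R.m_eq d] at this
    have h2 : Commute (S.R.el w v a b) (S.F.m (lsp k.val)) := by
      have := (hL k).mul_left h1.inv_left
      simpa [mul_assoc] using this
    rw [S.R.m_eq d, S.R.el_commute d, cy, cz, B_w0, B_w0] at h2
    obtain ⟨e1, e2⟩ := h2
    simp only [Bool.xor_false, Bool.false_xor] at e1 e2
    rw [e1, Bool.xor_false] at e2
    exact ⟨e1, e2⟩
  have perp : ∀ w, (∀ k : Fin 8, B w (lsp k.val) = false) → ∃ k : Fin 8, lsp k.val = w := by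
    intro w h
    refine lsp_perp w ?_ ?_ ?_
    · rw [← lsp_basis 0]; exact h 1
    · rw [← lsp_basis 1]; exact h 2
    · rw [← lsp_basis 2]; exact h 4
  obtain ⟨k, rfl⟩ := perp w fun k => (hel k).2
  obtain ⟨k', rfl⟩ := perp v fun k => by rw [B_symm]; exact (hel k).1
  exact ⟨k, k', c, a, b, p, hp, rfl⟩

theorem inE_inA (d : Data z Q) {g : G} (h : InE S g) : InA S g := by
  obtain ⟨k, a, b, rfl⟩ := h
  have := InA.el (S := S) d k 0 a b
  rwa [show lsp (0 : Fin 8).val = w0 by decide] at this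

/-- An element mapping `⟨z, y, m(L)⟩` to itself normalises `2^11`. -/
theorem norm_of_E (d : Data z Q) {g : G} (hg : ∀ e, InE S e → InE S (g * e * g⁻¹)) :
    g ∈ normalizer ((AA l d : Subgroup G) : Set G) := by
  have hg' : ∀ e, InE S e → InE S (g⁻¹ * e * g) := by
    intro e he
    obtain ⟨⟨e', he'⟩, h⟩ := (Finite.injective_iff_surjective.mp
      (show Function.Injective (fun e : {e // InE S e} => (⟨g * e.1 * g⁻¹, hg _ e.2⟩ :
        {e // InE S e})) from fun a b h => Subtype.ext (by simpa using congrArg Subtype.val h)))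
      ⟨e, he⟩
    have h' : g * e' * g⁻¹ = e := congrArg Subtype.val h
    rw [← h']; simpa [mul_assoc] using he'
  have key : ∀ g : G, (∀ e, InE S e → InE S (g⁻¹ * e * g)) → ∀ a, InA S a →
      InA S (g * a * g⁻¹) := by
    intro g hg a ha
    have hc : ∀ e, InE S e → Commute (g * a * g⁻¹) e := fun e he => by
      have := (ha.commute d (inE_inA d (hg e he))).map (MulAut.conj g).toMonoidHom
      simpa [mul_assoc] using this
    have e0 : lsp (0 : Fin 8).val = w0 := by decide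
    refine inA_of_centralizes d (hc z ⟨0, false, true, ?_⟩) (hc y ⟨0, true, false, ?_⟩)
      fun k => hc _ ⟨k, false, false, S.R.m_eq d _⟩
    all_goals rw [e0, S.R.el_w0 d]; simp [Radical.kk]
  refine mem_normalizer_iff.mpr fun a => ?_
  rw [mem_AA, mem_AA]
  refine ⟨key g hg' a, fun h => ?_⟩
  have := key g⁻¹ (fun e he => by rw [inv_inv]; exact hg e he) _ h
  simpa [mul_assoc] using this

theorem T_norm (d : Data z Q) : S.T.h ∈ normalizer ((AA l d : Subgroup G) : Set G) := by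
  have key : ∀ g, InA S g → InA S (S.T.h * g * S.T.h⁻¹) := by
    rintro _ ⟨k, k', c, a, b, p, hp, rfl⟩
    obtain ⟨a', b', e⟩ := S.T.conj_el d (lsp k.val) (lsp k'.val) a b
    rw [S.hρ, act_one, act_one] at e
    refine ⟨k', k, c, a', b', S.T.h * p * S.T.h⁻¹, S.conj_pure d hp, ?_⟩
    rw [← e]; group
  refine mem_normalizer_iff.mpr fun g => ?_
  rw [mem_AA, mem_AA]
  refine ⟨key g, fun h => ?_⟩
  obtain ⟨⟨e', he'⟩, h'⟩ := (Finite.injective_iff_surjective.mp
    (show Function.Injective (fun e : {e // InA S e} => (⟨_, key _ e.2⟩ :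
      {e // InA S e})) from fun a b h => Subtype.ext (by simpa using congrArg Subtype.val h)))
    ⟨_, h⟩
  have : e' = g := by simpa using congrArg Subtype.val h'
  exact this ▸ he'

theorem AA_facts (d : Data z Q) : (∀ a ∈ AA l d, a * a = 1) ∧
    (∀ a ∈ AA l d, ∀ b ∈ AA l d, Commute a b) ∧ z ∈ AA l d ∧
    (∀ g, (∀ a ∈ AA l d, Commute g a) → g ∈ AA l d) := by
  refine ⟨fun a ha => ((mem_AA l d).mp ha).sq d,
    fun a ha b hb => ((mem_AA l d).mp ha).commute d ((mem_AA l d).mp hb),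
    ⟨1, by norm_num, av_bz l⟩, fun g hg => (mem_AA l d).mpr ?_⟩
  refine inA_of_centralizes d (hg z ⟨1, by norm_num, av_bz l⟩)
    (hg y ⟨2, by norm_num, av_by l⟩) fun k => hg _ ((mem_AA l d).mpr ?_)
  exact inE_inA d ⟨k, false, false, S.R.m_eq d _⟩

end Cfsg.Agent.ConwayType
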