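import Cfsg.Agent.Lib.ConwayType.Counts

/-!
# The three classes are distinct
-/

set_option autoImplicit false
set_option maxHeartbeats 800000
set_option synthInstance.maxSize 2048
set_option linter.constructorNameAsVariable false

namespace Cfsg.Agent.ConwayType

open Subgroup
open Cfsg.Agent.LargeExtraspecial (Hub)

theorem span_u : ∀ x : W, (∀ p : W, B p rN' = false → B p rN = false → B p x = false) →
    ∃ i j, x = add (smul i rN') (smul j rN) := by decide +kernel

theorem span_t : ∀ x : W, (∀ p : W, B p rS' = false → B p rS = false → B p x = false) →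
    ∃ i j, x = add (smul i rS') (smul j rS) := by decide +kernel

theorem plane_u : ∀ i j k l : Bool,
    xor (q (add (smul k rN') (smul l rN)))
      (B (add (smul i rN') (smul j rN)) (add (smul k rN') (smul l rN))) = false →
    xor (q (add (smul i rN') (smul j rN)))
      (B (add (smul i rN') (smul j rN)) (add (smul k rN') (smul l rN))) = false →
    add (smul k rN') (smul l rN) ≠ w0 →
    q (add (smul i rN') (smul j rN)) = true ∧ q (add (smul k rN') (smul l rN)) = true ∧
      B (add (smul i rN') (smul j rN)) (add (smul k rN') (smul l rN)) = true := by decide +kernel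

theorem plane_q : ∀ i j : Bool, q (add (smul i rN') (smul j rN)) = false →
    add (smul i rN') (smul j rN) = w0 := by decide +kernel

theorem fix_triple {π : Equiv.Perm (Fin 8)} {a b c : Fin 8} (hab : a ≠ b) (hac : a ≠ c) (hbc : b ≠ c)
    (h1 : act π (pr a b) = pr a b) (h2 : act π (pr a c) = pr a c) :
    π a = a ∧ π b = b ∧ π c = c := by
  rw [act_pr π hab] at h1
  rw [act_pr π hac] at h2
  rcases pr_inj _ _ _ _ (π.injective.ne hab) hab h1 with ⟨a1, b1⟩ | ⟨a1, b1⟩ <;>
    rcases pr_inj _ _ _ _ (π.injective.ne hac) hac h2 with ⟨a2, c2⟩ | ⟨a2, c2⟩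
  · exact ⟨a1.symm, b1.symm, c2.symm⟩
  · exact absurd (π.injective (a1.symm.trans a2)) hac
  · exact absurd (π.injective (a2.symm.trans a1)) hab
  · exact absurd (π.injective (a1.symm.trans a2)) hbc

theorem perm_u {π : Equiv.Perm (Fin 8)} (hw : act π rN' = rN') (hv : act π rN = rN)
    (h : ∀ p, B p rN' = false → B p rN = false → act π p = p) : π = 1 := by
  obtain ⟨h0, h1, h2⟩ := fix_triple (a := 0) (b := 1) (c := 2) (by decide) (by decide) (by decide)
    (by rw [show pr 0 1 = rN by decide]; exact hv) (by rw [show pr 0 2 = rN' by decide]; exact hw)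
  have hp : ∀ i j : Fin 8, 3 ≤ i → 3 ≤ j → B (pr i j) rN' = false ∧ B (pr i j) rN = false := by
    decide +kernel
  have f : ∀ i j, 3 ≤ i → 3 ≤ j → act π (pr i j) = pr i j := fun i j hi hj =>
    h _ (hp i j hi hj).1 (hp i j hi hj).2
  obtain ⟨h3, h4, h5⟩ := fix_triple (a := 3) (b := 4) (c := 5) (by decide) (by decide) (by decide)
    (f _ _ (by decide) (by decide)) (f _ _ (by decide) (by decide))
  obtain ⟨-, h6, h7⟩ := fix_triple (a := 3) (b := 6) (c := 7) (by decide) (by decide) (by decide)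
    (f _ _ (by decide) (by decide)) (f _ _ (by decide) (by decide))
  refine Equiv.ext fun i => ?_
  fin_cases i <;> assumption

/-- Swap the two points of each block chosen by `b`. -/
def blocks (b : Bool × Bool × Bool × Bool) : Equiv.Perm (Fin 8) :=
  cond b.1 (Equiv.swap 0 1) 1 * cond b.2.1 (Equiv.swap 2 3) 1 * cond b.2.2.1 (Equiv.swap 4 5) 1 *
    cond b.2.2.2 (Equiv.swap 6 7) 1

theorem blocks_spec : ∀ b, act (blocks b) rE = rE → blocks b = 1 ∨ blocks b = p4 := by
  decide +kernel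

theorem blocks_val : ∀ b : Bool × Bool × Bool × Bool,
    blocks b 0 = cond b.1 1 0 ∧ blocks b 1 = cond b.1 0 1 ∧ blocks b 2 = cond b.2.1 3 2 ∧
    blocks b 3 = cond b.2.1 2 3 ∧ blocks b 4 = cond b.2.2.1 5 4 ∧ blocks b 5 = cond b.2.2.1 4 5 ∧
    blocks b 6 = cond b.2.2.2 7 6 ∧ blocks b 7 = cond b.2.2.2 6 7 := by decide +kernel

theorem perm_t {π : Equiv.Perm (Fin 8)} (_hw : act π rS' = rS') (_hv : act π rS = rS)
    (h : ∀ p, B p rS' = false → B p rS = false → act π p = p) : π = 1 ∨ π = p4 := by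
  have blk : ∀ i j : Fin 8, i ≠ j → B (pr i j) rS' = false → B (pr i j) rS = false →
      ∃ e : Bool, π i = cond e j i ∧ π j = cond e i j := by
    intro i j hij h1 h2
    have e := h _ h1 h2
    rw [act_pr π hij] at e
    rcases pr_inj _ _ _ _ (π.injective.ne hij) hij e with ⟨a, b⟩ | ⟨a, b⟩
    exacts [⟨false, a.symm, b.symm⟩, ⟨true, b.symm, a.symm⟩]
  obtain ⟨e0, a0, a1⟩ := blk 0 1 (by decide) (by decide) (by decide)
  obtain ⟨e2, a2, a3⟩ := blk 2 3 (by decide) (by decide) (by decide)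
  obtain ⟨e4, a4, a5⟩ := blk 4 5 (by decide) (by decide) (by decide)
  obtain ⟨e6, a6, a7⟩ := blk 6 7 (by decide) (by decide) (by decide)
  have hπ : π = blocks (e0, e2, e4, e6) := by
    obtain ⟨c0, c1, c2, c3, c4, c5, c6, c7⟩ := blocks_val (e0, e2, e4, e6)
    refine Equiv.ext fun i => ?_
    fin_cases i
    exacts [a0.trans c0.symm, a1.trans c1.symm, a2.trans c2.symm, a3.trans c3.symm,
      a4.trans c4.symm, a5.trans c5.symm, a6.trans c6.symm, a7.trans c7.symm]
  rw [hπ]
  exact blocks_spec _ (hπ ▸ h rE (by decide) (by decide))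

variable {G : Type*} [Group G] [Finite G] {z y : G} {Q : Subgroup G} {F : Frame z y Q}
  {R : Radical F}

theorem not_conj_z (d : Data z Q) (T : Twist R) {w v : W} (hv : v ≠ w0)
    (h1 : xor (q v) (B w v) = false) (h2 : xor (q w) (B w v) = false) (κ : Equiv.Perm (Fin 8))
    (hP : ∀ π, act π w = w → act π v = v →
      (∀ p, B p w = false → B p v = false → act π p = p) → π = 1 ∨ π = κ)
    (hV : ∀ x, (∀ p, B p w = false → B p v = false → B p x = false) →
      ∃ i j, x = add (smul i w) (smul j v))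
    (hcd : 8 * Nat.card ↥(Dzy z y ⊓ centralizer ({R.el w v false false} : Set G)) < 2359296) :
    ¬ IsConj z (R.el w v false false) := by
  classical
  intro hzo
  obtain ⟨g, hg⟩ := isConj_iff.mp hzo
  set o := R.el w v false false
  have h := d.hub
  have hoD : o ∈ Dzy z y := R.el_mem d _ _ _ _
  obtain ⟨hoz, hoy⟩ := mem_Dzy.mp hoD
  have hoQ : o ∉ Q := R.el_not_mem d hv _ _
  have ho2 : o * o = 1 := invol_set (R := R) d _ _ h1 h2
  have d2 := d.conj g
  rw [hg] at d2
  set Qo := Q.map (MulAut.conj g).toMonoidHom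
  have h' := d2.hub
  have hzQo : z ∉ Qo := by
    intro hz
    have e : g⁻¹ * o * g⁻¹⁻¹ = z := by rw [← hg]; group
    have hne : z ≠ o := fun e' => hoQ (e' ▸ h.mem)
    have := h'.self_mem_conj g⁻¹ (e.symm ▸ hz) (e.symm ▸ hne)
      (e.symm ▸ h'.exists_noncommuting_pair (by rw [d2.cardQ]; norm_num) hz h.sq)
    rw [LargeExtraspecial.mem_conj_iff, LargeExtraspecial.mem_conj_iff, inv_inv] at this
    exact hoQ (by simpa [mul_assoc] using this)
  have hinter : ∀ p ∈ Q, p ∈ Qo → p = 1 := by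
    intro p hp hp'
    by_contra hp1
    have hpz : p ≠ z := fun e => hzQo (e ▸ hp')
    have hp2 : p * p = 1 := (h.sq_cases p hp).resolve_right fun e => hzQo (e ▸ mul_mem hp' hp')
    obtain ⟨htrans, -⟩ := F.orders d
    obtain ⟨c, hcz, hc⟩ := htrans p ⟨hp, hp2, hp1, hpz⟩
    have hg' : c * T.h * g⁻¹ * o * (c * T.h * g⁻¹)⁻¹ = p := by
      rw [← hg, show c * T.h * g⁻¹ * (g * z * g⁻¹) * (c * T.h * g⁻¹)⁻¹ =
        c * (T.h * z * T.h⁻¹) * c⁻¹ by group, T.h_z, hc]
    have hpo : p ≠ o := fun e => hoQ (e ▸ hp)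
    have hmem := h'.self_mem_conj (c * T.h * g⁻¹) (hg'.symm ▸ hp') (hg'.symm ▸ hpo)
      (hg'.symm ▸ h'.exists_noncommuting_pair (by rw [d2.cardQ]; norm_num) hp' hp2)
    rw [LargeExtraspecial.mem_conj_iff, LargeExtraspecial.mem_conj_iff] at hmem
    set o' := c⁻¹ * o * c
    have hq' : T.h⁻¹ * o' * T.h ∈ Q := by simpa [o', mul_assoc] using hmem
    have ho'z : Commute o' z := (hcz.inv_left.mul_left hoz).mul_left hcz
    have hq'y : Commute (T.h⁻¹ * o' * T.h) y := by
      have e : T.h⁻¹ * z * T.h = y := by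
        calc T.h⁻¹ * z * T.h = T.h⁻¹ * (T.h * y * T.h⁻¹) * T.h := by rw [T.h_y]
          _ = y := by group
      have := ho'z.map (MulAut.conj T.h⁻¹).toMonoidHom
      simpa [e] using this
    obtain ⟨e, he⟩ := F.exists_elem d hq'
    rw [fl_eq_false.mpr hq'y] at he
    set u := F.wof (T.h⁻¹ * o' * T.h)
    set bx := fl (T.h⁻¹ * o' * T.h) F.x
    have he : T.h⁻¹ * o' * T.h = R.el u w0 bx e := by
      rw [he, Frame.elem, pw_false, one_mul, ← (pw_commute (F.comm_y u) bx).eq, Radical.el,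
        Radical.kk, R.zero, mul_one, mul_assoc]
    obtain ⟨a', b', e'⟩ := T.conj_el d u w0 bx e
    rw [act_zero, ← he] at e'
    have ho' : o' = R.el w0 (act T.ρ u) a' b' := by rw [← e']; group
    set v₁ := act T.ρ u
    have hv1 : v₁ ≠ w0 := by
      intro hh
      rw [hh, R.el_w0 d] at ho'
      have : o' ∈ Q := ho' ▸ mul_mem (pw_mem F.sing.1 _) (pw_mem h.mem _)
      exact hoQ (by simpa [o', mul_assoc] using h.normalizes c hcz _ this)
    have ho'2 : o' * o' = 1 := by
      rw [show o' * o' = c⁻¹ * (o * o) * c by simp only [o']; group, ho2]; group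
    obtain ⟨⟨k1, -⟩, hk⟩ := el_normal d hv1 (ho' ▸ ho'2)
    rw [B_symm w0, B_w0, Bool.xor_false] at k1
    obtain ⟨k, hkD, hk'⟩ := hk false false
    rw [← ho', ← R.n_eq d] at hk'
    have hkz : Commute (k * c⁻¹) z := (mem_Dzy.mp hkD).1.mul_left hcz.inv_left
    have hko : k * c⁻¹ * o * (k * c⁻¹)⁻¹ = R.n v₁ := by
      rw [← hk']; simp only [o']; group
    have hle : Nat.card ↥(Dzy z (R.n v₁)) ≤ Nat.card ↥(Dzy z o) := by
      have e1 : (k * c⁻¹)⁻¹ * R.n v₁ * (k * c⁻¹) = o := by rw [← hko]; group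
      refine Nat.card_le_card_of_injective (fun r => ⟨(k * c⁻¹)⁻¹ * (r : G) * (k * c⁻¹),
        mem_Dzy.mpr ⟨(hkz.inv_left.mul_left (mem_Dzy.mp r.2).1).mul_left hkz, ?_⟩⟩) fun r r' e => ?_
      · have := (mem_Dzy.mp r.2).2.map (MulAut.conj (k * c⁻¹)⁻¹).toMonoidHom
        simp only [MulEquiv.coe_toMonoidHom, MulAut.conj_apply, inv_inv] at this
        rwa [e1] at this
      · have e' : (k * c⁻¹)⁻¹ * (r : G) * (k * c⁻¹) = (k * c⁻¹)⁻¹ * (r' : G) * (k * c⁻¹) :=
          congrArg Subtype.val e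
        exact Subtype.ext (mul_left_cancel (mul_right_cancel e'))
    have h9 : 2359296 ≤ 8 * Nat.card ↥(Dzy z y ⊓ centralizer ({o} : Set G)) :=
      (card_n d R hv1 k1).trans (hle.trans (card_C_le d R hv))
    exact absurd hcd (not_lt.mpr h9)
  -- `C_Q(o)` centralises `C_{Qo}(z)`
  set N₂ := Qo ⊓ centralizer ({z} : Set G)
  have hN : ∀ a ∈ Q, Commute a o → ∀ b ∈ N₂, Commute b a := by
    intro a ha hao b hb
    obtain ⟨hb1, hb2⟩ := Subgroup.mem_inf.mp hb
    have k1 : b * a * b⁻¹ * a⁻¹ ∈ Q := mul_mem (h.normalizes b (mem_cz.mp hb2) a ha) (inv_mem ha)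
    have k2 : b * a * b⁻¹ * a⁻¹ ∈ Qo := by
      rw [show b * a * b⁻¹ * a⁻¹ = b * (a * b⁻¹ * a⁻¹) by group]
      exact mul_mem hb1 (h'.normalizes a hao _ (inv_mem hb1))
    exact mul_inv_eq_iff_eq_mul.mp (mul_inv_eq_one.mp (hinter _ k1 k2))
  have hmp : ∀ p, B p w = false → B p v = false → Commute (F.m p) o := by
    intro p hpw hpv
    rw [R.m_eq d]
    exact (R.el_commute d).mpr ⟨by rw [cy, B_symm w0, B_w0, hpv, B_w0]; rfl,
      by rw [cz, hpw, hpv, B_w0]; rfl⟩
  have facts : ∀ c : N₂, (c : G) ∈ Dzy z y ∧ Commute (c : G) o ∧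
      ∃ π, (∀ x, F.actW c x = act π x) ∧ (π = 1 ∨ π = κ) ∧
        ∃ i j, F.vof (c : G) = add (smul i w) (smul j v) := by
    intro c
    have hco : Commute (c : G) o := h'.central _ (Subgroup.mem_inf.mp c.2).1
    have hcD : (c : G) ∈ Dzy z y := mem_Dzy.mpr
      ⟨mem_cz.mp (Subgroup.mem_inf.mp c.2).2, hN y F.sing.1 hoy.symm _ c.2⟩
    obtain ⟨-, -, -, hPP⟩ := F.orders d
    obtain ⟨π, -, hact⟩ := hPP _ hcD
    obtain ⟨a, b, e⟩ := R.el_conj_D d hcD w v false false
    rw [conj_of_commute hco, hact, hact] at e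
    obtain ⟨r1, r2, -, -⟩ := R.el_inj d e
    have hfix : ∀ p, B p w = false → B p v = false → act π p = p ∧ B p (F.vof (c : G)) = false := by
      intro p hpw hpv
      have hcm := hN _ (F.mem p) (hmp p hpw hpv) _ c.2
      obtain ⟨e, he⟩ := F.conj_m' d hcD p
      rw [conj_of_commute hcm, show F.m p = F.elem false false p false by simp [Frame.elem]] at he
      obtain ⟨-, q1, q2, -⟩ := F.elem_inj d.hub he
      rw [← q2] at q1
      exact ⟨by rw [← hact]; exact q2.symm, q1.symm⟩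
    exact ⟨hcD, hco, π, hact, hP π r1.symm r2.symm fun p a b => (hfix p a b).1,
      hV _ fun p a b => (hfix p a b).2⟩
  choose hD' _hco π hact hπ i j hv' using facts
  have hinj : Function.Injective (fun c : N₂ => (decide (π c = 1), i c, j c)) := by
    intro c c' e
    simp only [Prod.mk.injEq] at e
    have hππ : π c = π c' := by
      rcases hπ c with a | a <;> rcases hπ c' with b | b
      · rw [a, b]
      · have := e.1; simp only [a, b, decide_true] at this
        rw [a, b, of_decide_eq_true this.symm]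
      · have := e.1; simp only [a, b, decide_true] at this
        rw [a, b, of_decide_eq_true this]
      · rw [a, b]
    have hvv : F.vof (c : G) = F.vof (c' : G) := by rw [hv', hv', e.2.1, e.2.2]
    set k := (c' : G)⁻¹ * c
    have hkD : k ∈ Dzy z y := mul_mem (inv_mem (hD' c')) (hD' c)
    have hk1 : ∀ x, F.actW k x = x := fun x => by
      rw [F.actW_mul d (inv_mem (hD' c')) (hD' c), hact, hππ, ← hact c',
        ← F.actW_mul d (inv_mem (hD' c')) (hD' c'), inv_mul_cancel, F.actW_one d]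
    have hk2 : F.vof k = w0 := by
      have := F.vof_mul d (hD' c') hkD
      rw [show (c' : G) * k = c by simp only [k]; group, hvv] at this
      have e0 := add_left_cancel' ((add_zero' _).1.trans this)
      rw [hact] at e0
      exact act_injective _ (e0.symm.trans (act_zero _).symm)
    have hkQ := F.mem_of_vof d hkD hk1 hk2
    have := hinter k hkQ (mul_mem (inv_mem (Subgroup.mem_inf.mp c'.2).1) (Subgroup.mem_inf.mp c.2).1)
    exact Subtype.ext (inv_mul_eq_one.mp this).symm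
  have h16 : 16 ≤ Nat.card N₂ := sixteen_le_cQ d2 h.sq hoz.symm
  have h8 := Nat.card_le_card_of_injective _ hinj
  simp at h8
  omega

theorem u_not_z (d : Data z Q) (T : Twist R) : ¬ IsConj z (R.el rN' rN false false) :=
  not_conj_z d T (by decide) (by decide) (by decide) 1
    (fun _ a b c => Or.inl (perm_u a b c)) span_u (by rw [(cd_u d R).2]; norm_num)

theorem t_not_z (d : Data z Q) (T : Twist R) : ¬ IsConj z (R.el rS' rS false false) :=
  not_conj_z d T (by decide) (by decide) (by decide) p4 (fun _ => perm_t) span_t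
    (by rw [cd_t d R]; norm_num)

theorem u_not_t (d : Data z Q) (T : Twist R) :
    ¬ IsConj (R.el rN' rN false false) (R.el rS' rS false false) := by
  classical
  intro hut
  obtain ⟨g, hg⟩ := isConj_iff.mp hut
  set u := R.el rN' rN false false with hu
  set t := R.el rS' rS false false
  have h := d.hub
  have hu2 : u * u = 1 := invol_set (R := R) d _ _ (by decide) (by decide)
  obtain ⟨huz, huy⟩ := mem_Dzy.mp (R.el_mem d rN' rN false false)
  obtain ⟨hreach, hE0⟩ := cd_u d R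
  have hdvd : 2 ^ 17 ∣ Nat.card ↥(centralizer ({u} : Set G)) := by
    have e : Nat.card ↥(centralizer ({t} : Set G)) = Nat.card ↥(centralizer ({u} : Set G)) := by
      rw [← hg, show centralizer ({g * u * g⁻¹} : Set G) =
        (centralizer ({u} : Set G)).map (MulAut.conj g).toMonoidHom from ?_,
        card_map_of_injective (MulAut.conj g).injective]
      ext x
      rw [mem_cz, LargeExtraspecial.mem_conj_iff, mem_cz]
      constructor
      · intro hx
        have := hx.map (MulAut.conj g⁻¹).toMonoidHom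
        simpa [mul_assoc] using this
      · intro hx
        have := hx.map (MulAut.conj g).toMonoidHom
        simpa [mul_assoc] using this
    rw [← e, show (2 : ℕ) ^ 17 = 131072 by norm_num, ← cd_t d R]
    exact card_dvd_of_le inf_le_right
  set E := Dzy z u
  set E0 := Dzy z y ⊓ centralizer ({u} : Set G) with hE0def
  have hE0E : E0 ≤ E := fun c hc =>
    mem_Dzy.mpr ⟨(mem_Dzy.mp (Subgroup.mem_inf.mp hc).1).1, mem_cz.mp (Subgroup.mem_inf.mp hc).2⟩
  -- `f` moves `y`
  obtain ⟨a₁, b₁, hx⟩ := x_conj d R rN' rN false false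
  obtain ⟨c, hcD, hc⟩ := hreach (add rN' rN, rN) (by decide +kernel) a₁ b₁
  set f := c⁻¹ * F.x
  have hfE : f ∈ E := mem_Dzy.mpr ⟨(mem_Dzy.mp hcD).1.inv_left.mul_left (h.central _ F.hx),
    mul_inv_eq_iff_eq_mul.mp (by
      rw [show f * u * f⁻¹ = c⁻¹ * (F.x * u * F.x⁻¹) * c by simp only [f]; group, hx, ← hc]
      simp only [u]; group)⟩
  have hfy : ¬ Commute f y := by
    intro hfy
    have := (mem_Dzy.mp hcD).2.mul_left hfy
    rw [show c * f = F.x by simp only [f]; group, ← fl_eq_false, F.x_y] at this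
    exact Bool.noConfusion this
  have hEle : Nat.card E ≤ 491520 := by
    have h1 := card_le_conj E y {y, y * z} (Set.toFinite _) (fun k hk => by
      obtain ⟨hkz, hku⟩ := mem_Dzy.mp hk
      have hs := (sees_y d R rN' rN false false).conj d hkz hku
      obtain ⟨i, j, l, e⟩ := sees_pts d R (by decide) hs
      obtain ⟨hsQ, hs2, hs1, hsz⟩ := hs.1
      rw [e] at hs2 hs1 hsz ⊢
      have e' : pw y i * F.m (smul j rN) * pw z l = F.elem false i (smul j rN) l := by
        simp [Frame.elem]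
      rw [e', F.elem_sq h, F.qc_eq d] at hs2
      cases j
      · rw [show F.m (smul false rN) = 1 from F.zero, mul_one] at hs1 hsz ⊢
        cases i <;> cases l <;> simp at hs1 hsz ⊢
      · have := pw_inj h.ne_one (hs2.trans (pw_false z).symm)
        exact absurd this (by cases i <;> decide))
    have hT : Nat.card ↥({y, y * z} : Set G) ≤ 2 := by
      rw [Nat.card_coe_set_eq]
      exact (Set.ncard_insert_le _ _).trans (by simp)
    have h2 : E ⊓ centralizer ({y} : Set G) ≤ E0 := fun k hk => by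
      obtain ⟨k1, k2⟩ := Subgroup.mem_inf.mp hk
      exact Subgroup.mem_inf.mpr ⟨mem_Dzy.mpr ⟨(mem_Dzy.mp k1).1, mem_cz.mp k2⟩,
        mem_cz.mpr (mem_Dzy.mp k1).2⟩
    have h3 := h1.trans (Nat.mul_le_mul hT (Subgroup.card_le_of_le h2))
    rw [hE0] at h3
    exact h3
  have hEcard : Nat.card E = 491520 := by
    obtain ⟨s, hs⟩ := card_dvd_of_le hE0E
    rw [hE0] at hs
    have hne : Nat.card E ≠ 245760 := fun e => hfy (mem_Dzy.mp (Subgroup.mem_inf.mp
      ((eq_of_le_of_card_ge hE0E (by rw [hE0, e])).symm ▸ hfE : f ∈ E0)).1).2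
    have : 0 < Nat.card E := Nat.card_pos
    omega
  -- a Sylow subgroup of `E`
  have : Fact (Nat.Prime 2) := ⟨Nat.prime_two⟩
  obtain ⟨S₀, hS₀⟩ := Sylow.exists_subgroup_card_pow_prime (G := E) 2 (n := 15) (by rw [hEcard]; norm_num)
  set N := Q ⊓ centralizer ({u} : Set G)
  have hNE : N ≤ E := fun k hk =>
    mem_Dzy.mpr ⟨h.central _ (Subgroup.mem_inf.mp hk).1, mem_cz.mp (Subgroup.mem_inf.mp hk).2⟩
  have hNn : (N.subgroupOf E).Normal := ⟨fun k hk e => by
    obtain ⟨k1, k2⟩ := Subgroup.mem_inf.mp (mem_subgroupOf.mp hk)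
    obtain ⟨ez, eu⟩ := mem_Dzy.mp e.2
    refine mem_subgroupOf.mpr (Subgroup.mem_inf.mpr ⟨h.normalizes _ ez _ k1, mem_cz.mpr ?_⟩)
    have := (mem_cz.mp k2).map (MulAut.conj (e : G)).toMonoidHom
    simpa [conj_of_commute eu] using this⟩
  have hQ2 : IsPGroup 2 Q := IsPGroup.of_card (n := 9) (d.cardQ.trans (by norm_num))
  have hN2 : IsPGroup 2 (N.subgroupOf E) :=
    (hQ2.to_le inf_le_left).of_equiv (subgroupOfEquivOfLe hNE).symm
  have hNS : N.subgroupOf E ≤ S₀ := by
    have hsup := hN2.to_sup_of_normal_left (IsPGroup.of_card hS₀)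
    obtain ⟨n, hn⟩ := hsup.exists_card_eq
    have hn15 : n ≤ 15 := by
      have h2 := card_subgroup_dvd_card (N.subgroupOf E ⊔ S₀)
      rw [hn, hEcard] at h2
      by_contra hlt
      have := (pow_dvd_pow 2 (show 16 ≤ n by omega)).trans h2
      norm_num at this
    have : S₀ = N.subgroupOf E ⊔ S₀ := eq_of_le_of_card_ge le_sup_right (by
      rw [hn, hS₀]; exact Nat.pow_le_pow_right (by norm_num) hn15)
    exact le_sup_left.trans this.ge
  set S : Subgroup G := S₀.map E.subtype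
  have hScard : Nat.card S = 2 ^ 15 := by rw [card_map_of_injective E.subtype_injective, hS₀]
  have hSE : S ≤ E := map_subtype_le _
  have hSN : ∀ k, k ∈ N → k ∈ S := fun k hk => ⟨⟨k, hNE hk⟩, hNS (mem_subgroupOf.mpr hk), rfl⟩
  have hEC : E ≤ centralizer ({u} : Set G) := fun k hk => mem_cz.mpr (mem_Dzy.mp hk).2
  -- a larger `2`-subgroup of `C(u)`
  have hSC : Nat.card (S.subgroupOf (centralizer ({u} : Set G))) = 2 ^ 15 := by
    rw [Nat.card_congr (subgroupOfEquivOfLe (hSE.trans hEC)).toEquiv, hScard]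
  obtain ⟨K₀, hK₀, hSK⟩ := Sylow.exists_subgroup_card_pow_succ
    ((pow_dvd_pow 2 (by norm_num : 16 ≤ 17)).trans hdvd) hSC
  set K : Subgroup G := K₀.map (centralizer ({u} : Set G)).subtype
  have hKcard : Nat.card K = 2 ^ 16 := by rw [card_map_of_injective (Subgroup.subtype_injective _), hK₀]
  have hSK' : S ≤ K := fun k hk => ⟨⟨k, hEC (hSE hk)⟩, hSK (mem_subgroupOf.mpr hk), rfl⟩
  have hnorm : (S.subgroupOf K).Normal := by
    refine normal_of_index_eq_two ?_
    have := (S.subgroupOf K).card_mul_index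
    rw [Nat.card_congr (subgroupOfEquivOfLe hSK').toEquiv, hScard, hKcard] at this
    omega
  obtain ⟨k, hkK, hkS⟩ : ∃ k ∈ K, k ∉ S := by
    by_contra hno
    push Not at hno
    have := Subgroup.card_le_of_le (show K ≤ S from hno)
    rw [hKcard, hScard] at this
    norm_num at this
  have hkE : k ∉ E := by
    intro hk
    have h1 : Nat.card ↥(K ⊓ E) ∣ 32768 := by
      have := Nat.dvd_gcd (card_dvd_of_le (inf_le_left : K ⊓ E ≤ K))
        (card_dvd_of_le (inf_le_right : K ⊓ E ≤ E))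
      rw [hKcard, hEcard] at this
      exact this.trans (by norm_num)
    have h2 : S = K ⊓ E := eq_of_le_of_card_ge (le_inf hSK' hSE) (by
      rw [hScard]; exact Nat.le_of_dvd (by norm_num) h1)
    exact hkS (h2 ▸ Subgroup.mem_inf.mpr ⟨hkK, hk⟩)
  have hku : Commute k u := by
    obtain ⟨⟨k', hk'⟩, -, rfl⟩ := hkK
    exact mem_cz.mp hk'
  have hzS : z ∈ S := hSN z (Subgroup.mem_inf.mpr ⟨h.mem, mem_cz.mpr huz.symm⟩)
  set z' := k * z * k⁻¹
  have hz'S : z' ∈ S :=
    mem_subgroupOf.mp (hnorm.conj_mem ⟨z, hSK' hzS⟩ (mem_subgroupOf.mpr hzS) ⟨k, hkK⟩)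
  have hcomm : ∀ s ∈ S, Commute z' s := by
    intro s hs
    have h1 : k⁻¹ * s * k⁻¹⁻¹ ∈ S := mem_subgroupOf.mp
      (hnorm.conj_mem ⟨s, hSK' hs⟩ (mem_subgroupOf.mpr hs) ⟨k⁻¹, inv_mem hkK⟩)
    have := (mem_Dzy.mp (hSE h1)).1.map (MulAut.conj k).toMonoidHom
    simpa [z', mul_assoc] using this.symm
  have hyS : y ∈ S := hSN y (Subgroup.mem_inf.mpr ⟨F.sing.1, mem_cz.mpr huy.symm⟩)
  have hz'D : z' ∈ Dzy z y := mem_Dzy.mpr ⟨(mem_Dzy.mp (hSE hz'S)).1, hcomm y hyS⟩
  have hz'u : Commute z' u := (mem_Dzy.mp (hSE hz'S)).2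
  have hmpS : ∀ p, B p rN' = false → B p rN = false → Commute z' (F.m p) := fun p h1 h2 =>
    hcomm _ (hSN _ (Subgroup.mem_inf.mpr ⟨F.mem p, mem_cz.mpr (by
      rw [R.m_eq d]
      exact (R.el_commute d).mpr ⟨by rw [cy, B_symm w0, B_w0, h2, B_w0]; rfl,
        by rw [cz, h1, h2, B_w0]; rfl⟩)⟩))
  obtain ⟨-, -, -, hPP⟩ := F.orders d
  obtain ⟨π, -, hact⟩ := hPP _ hz'D
  obtain ⟨a, b, e⟩ := R.el_conj_D d hz'D rN' rN false false
  rw [conj_of_commute hz'u, hact, hact] at e
  obtain ⟨r1, r2, -, -⟩ := R.el_inj d e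
  have hπ1 : π = 1 := by
    refine perm_u r1.symm r2.symm fun p h1 h2 => ?_
    rw [← hact]
    show F.wof (z' * F.m p * z'⁻¹) = p
    rw [conj_of_commute (hmpS p h1 h2), F.wof_m h]
  obtain ⟨w', v', a', b', hz'⟩ := R.exists_el d hz'D fun x => by rw [hact, hπ1, act_one]
  have horth : ∀ p, B p rN' = false → B p rN = false → B p v' = false ∧ B p w' = false := by
    intro p h1 h2
    have := hmpS p h1 h2
    rw [hz', R.m_eq d, R.el_commute d, cy, cz, B_w0, B_w0] at this
    obtain ⟨c1, c2⟩ := this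
    simp only [Bool.xor_false, Bool.false_xor] at c1 c2
    rw [c1, Bool.xor_false, B_symm] at c2
    exact ⟨c1, c2⟩
  obtain ⟨k', l', hv'⟩ := span_u v' fun p h1 h2 => (horth p h1 h2).1
  obtain ⟨i', j', hw'⟩ := span_u w' fun p h1 h2 => (horth p h1 h2).2
  have hz'2 : z' * z' = 1 := conj_sq h.sq
  have hz'1 : z' ≠ 1 := fun e => h.ne_one (conj_eq_one_iff.mp e)
  rw [hz', R.el_sq d] at hz'2
  obtain ⟨e1, e2⟩ := pw_yz_inj d.hub F.sing
    (hz'2.trans (by simp : (1 : G) = pw y false * pw z false))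
  rw [hw', hv'] at e1 e2
  by_cases hv0 : v' = w0
  · rw [hv0] at hv'
    rw [← hv', B_w0, Bool.xor_false] at e2
    have hw0 := hw'.trans (plane_q _ _ e2)
    rw [hw0, hv0, R.el_w0 d] at hz'
    cases a'
    · cases b'
      · exact hz'1 (by rw [hz']; simp [Radical.kk])
      · refine hkE (mem_Dzy.mpr ⟨mul_inv_eq_iff_eq_mul.mp ?_, hku⟩)
        show z' = z
        rw [hz']; simp [Radical.kk]
    · obtain ⟨s, hsS, hsy⟩ : ∃ s ∈ S, ¬ Commute s y := by
        by_contra hno
        push Not at hno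
        have hle : S ≤ E0 := fun s hs => Subgroup.mem_inf.mpr
          ⟨mem_Dzy.mpr ⟨(mem_Dzy.mp (hSE hs)).1, hno s hs⟩, mem_cz.mpr (mem_Dzy.mp (hSE hs)).2⟩
        have := card_dvd_of_le hle
        rw [hScard, hE0] at this
        norm_num at this
      have h1 := hcomm s hsS
      rw [hz'] at h1
      have h2 : Commute (pw y true * pw z b' * (pw z b')⁻¹) s :=
        h1.mul_left (pw_commute (mem_Dzy.mp (hSE hsS)).1 b').symm.inv_left
      rw [mul_inv_cancel_right, pw_true] at h2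
      exact hsy h2.symm
  · obtain ⟨q1, q2, q3⟩ := plane_u i' j' k' l' e1 e2 (fun e => hv0 (hv'.trans e))
    obtain ⟨c', -, hc'⟩ := hreach (w', v') (by
      simp only [setU, Finset.mem_filter, Finset.mem_univ, true_and]
      rw [hw', hv']; exact ⟨q1, q2, q3⟩) a' b'
    exact u_not_z d T ((isConj_iff.mpr ⟨k, rfl⟩ : IsConj z z').trans
      (isConj_iff.mpr ⟨c', hc'.trans hz'.symm⟩).symm)

end Cfsg.Agent.ConwayType
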