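import Cfsg.Agent.Lib.ConwayType.BigGens
import Cfsg.Agent.Lib.ConwayType.Noncon

/-!
# The two orbits of the normaliser on `2^11`

A nontrivial element is conjugate in the normaliser to `z` or to `el rS' rS` as `inSN` says. Over
`V` the two are separated by whether `g` multiplies some element of `Q` by `z`.
-/

set_option autoImplicit false
set_option maxHeartbeats 1000000
set_option synthInstance.maxSize 4096
set_option maxRecDepth 100000

namespace Cfsg.Agent.ConwayType

open Subgroup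

theorem align_cases : ∀ u : W, q u = false → B u rS' = false → B u rS = false → u ≠ w0 → u ≠ rS' →
    u ≠ rS → u ≠ add rS' rS →
    (∀ x, B x rS' = false → B x rS = false → B x u = false → ∃ k : Fin 8, lsp k.val = x) ∨
      ∀ x, B x rS' = false → B x rS = false → B x u = false →
        act p4 x = x ∧ B rN x = B x rE ∧ B rE' x = false := by decide +kernel
theorem bad_facts : B rN rE' = true ∧ act p4 rE' = rE' ∧ B rE' rE = true ∧ act p4 rS' = rS' ∧
    act p4 rS = rS := by decide +kernel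
theorem pick_third : ∀ k k' : Fin 8, k ≠ 0 → k' ≠ 0 → k ≠ k' → ∃ m : Fin 8, lsp m.val ≠ w0 ∧
    lsp m.val ≠ lsp k.val ∧ lsp m.val ≠ lsp k'.val ∧ lsp m.val ≠ add (lsp k.val) (lsp k'.val) := by
  decide +kernel
theorem pick_r : ∀ c : Fin 8, c ≠ 0 → ∃ k : Fin 8, lsp k.val ≠ w0 ∧
    ∀ u, B u (lsp k.val) = false →
      add u (act (pof c.val) u) = w0 ∨ add u (act (pof c.val) u) = lsp k.val := by decide +kernel
theorem inR_wit : ∀ c w : Fin 8, c ≠ 0 → inR c.val w.val = true → ∃ u, act (pof c.val) u = u ∧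
    xor (B u (act (kapC c) rE)) (B (lsp w.val) u) = true := by decide +kernel
theorem notR_wit : ∀ c w : Fin 8, c ≠ 0 → inR c.val w.val = false → ∀ u, act (pof c.val) u = u →
    xor (B u (act (kapC c) rE)) (B (lsp w.val) u) = false := by decide +kernel
theorem indep_wit : ∀ k k' : Fin 8, k ≠ 0 → k' ≠ 0 → k ≠ k' →
    ∃ u, B u (lsp k'.val) = false ∧ B (lsp k.val) u = true := by decide +kernel
theorem lsp_inj : ∀ k k' : Fin 8, lsp k.val = lsp k'.val → k = k' := by decide +kernel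
theorem gimg_x : ∀ a : Fin 2048, vI a.val = 0 →
    gimg 0 a.val = a.val ^^^ cond (a.val.testBit 1) 1 0 := by decide +kernel
theorem diag_x : ∀ a : Fin 2048, cI a.val = 0 → wI a.val = vI a.val →
    gimg 0 a.val < 2048 ∧ cI (gimg 0 a.val) = 0 ∧ wI (gimg 0 a.val) = 0 ∧
      gimg 0 (gimg 0 a.val) = a.val ∧ (gimg 0 a.val = 0 → a.val = 0) := by decide +kernel
theorem zero_facts : lsp 0 = w0 ∧ pof 0 = 1 := by decide +kernel
theorem small_one : ∀ a : Fin 2048, cI a.val = 0 → wI a.val = 0 → vI a.val = 0 → a.val < 4 := by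
  decide +kernel

/-- The images of the basis under the twist, modulo `y`. -/
def swL : List ℕ := [2, 1, 32, 64, 128, 4, 8, 16, 256, 512, 1024]

/-- The twist on coordinates, modulo `y`. -/
def sw (a : ℕ) : ℕ := lmap swL a

theorem sw_facts : ∀ b : Fin 2048, wI b.val = 0 → vI (sw b.val) = 0 ∧ sw b.val < 2048 ∧
    sw (sw b.val) = b.val ∧ cI (sw b.val) = cI b.val ∧ wI (sw b.val) = vI b.val ∧
    (sw b.val).testBit 1 = b.val.testBit 0 ∧ sw (sw b.val ^^^ 1) = b.val ^^^ 2 ∧
    vI (sw b.val ^^^ 1) = 0 := by decide +kernel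
theorem sw_span : ∀ a : Fin 2048, vI a.val = 0 → a.val =
    cond (a.val.testBit 0) 1 0 ^^^ cond (a.val.testBit 1) 2 0 ^^^ cond (a.val.testBit 2) 4 0 ^^^
    cond (a.val.testBit 3) 8 0 ^^^ cond (a.val.testBit 4) 16 0 ^^^ cond (a.val.testBit 8) 256 0 ^^^
    cond (a.val.testBit 9) 512 0 ^^^ cond (a.val.testBit 10) 1024 0 := by decide +kernel

theorem lmap_xor : ∀ (L : List ℕ) (a b : ℕ), lmap L (a ^^^ b) = lmap L a ^^^ lmap L b
  | [], _, _ => (Nat.xor_self 0).symm
  | x :: L, a, b => by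
    have h2 : (a ^^^ b) / 2 = a / 2 ^^^ b / 2 := by
      refine Nat.eq_of_testBit_eq fun i => ?_
      simp [Nat.testBit_div_two, Nat.testBit_xor]
    simp only [lmap]
    rw [h2, lmap_xor L, Nat.testBit_xor]
    cases a.testBit 0 <;> cases b.testBit 0 <;>
      simp [Nat.xor_assoc, Nat.xor_comm, Nat.xor_left_comm]

variable {G : Type*} [Group G] [Finite G] {z y : G} {Q : Subgroup G} {S : Setup z y Q}
  (l : Lifts S) (d : Data z Q)

/-- The representative of the class other than that of `z`. -/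
def t0 (S : Setup z y Q) : G := S.R.el rS' rS false false

/-- Conjugate to `h` in the normaliser. -/
def ConjIn (h : G) (a : ℕ) : Prop :=
  ∃ n ∈ normalizer ((AA l d : Subgroup G) : Set G), n * h * n⁻¹ = av l a

/-- Some element of `Q` is multiplied by `z`. -/
def Inv (z : G) (Q : Subgroup G) (g : G) : Prop := ∃ q ∈ Q, g * q * g⁻¹ = q * z

theorem ConjIn.conj {h : G} {a b : ℕ} (hc : ConjIn l d h a) {n : G}
    (hn : n ∈ normalizer ((AA l d : Subgroup G) : Set G)) (e : n * av l a * n⁻¹ = av l b) :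
    ConjIn l d h b := by
  obtain ⟨m, hm, hm'⟩ := hc
  exact ⟨n * m, mul_mem hn hm, by rw [← e, ← hm']; group⟩

theorem ConjIn.gimg {h : G} {a : ℕ} (hc : ConjIn l d h a) (g : Fin 7) :
    ConjIn l d h (ConwayType.gimg g.val a) := hc.conj l d (genEl_norm l d g) (conj_av l d g a)

/-- A totally singular triple centralised only by commuting elements is an image of `L`. -/
theorem align {w v u : W} (qw : q w = false) (qv : q v = false) (qu : q u = false)
    (bwv : B w v = false) (buw : B u w = false) (buv : B u v = false) (w0' : w ≠ w0) (v0' : v ≠ w0)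
    (wv : w ≠ v) (u0' : u ≠ w0) (uw : u ≠ w) (uv : u ≠ v) (uwv : u ≠ add w v)
    (hab : ∀ s r : G, s ∈ Dzy z y → r ∈ Dzy z y →
      (∀ x, B x w = false → B x v = false → B x u = false → Commute s (S.F.m x)) →
      (∀ x, B x w = false → B x v = false → B x u = false → Commute r (S.F.m x)) → Commute s r)
    (d : Data z Q) :
    ∃ κ : Equiv.Perm (Fin 8), Equiv.Perm.sign κ = 1 ∧ act κ rS' = w ∧ act κ rS = v ∧
      ∀ x, B x w = false → B x v = false → B x u = false →
        ∃ k : Fin 8, act κ⁻¹ x = lsp k.val := by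
  obtain ⟨κ, hκ, hw, hv⟩ := even_orbit_SS qv qw bwv v0' w0' wv
  set u' := act κ⁻¹ u with hu'
  have hu : act κ u' = u := act_forth κ u
  have tr : ∀ a b, B (act κ⁻¹ a) b = B a (act κ b) := fun a b => by rw [← B_act κ, act_forth]
  have e1 : B u' rS' = false := by rw [hu', tr, hw]; exact buw
  have e2 : B u' rS = false := by rw [hu', tr, hv]; exact buv
  have e3 : q u' = false := by rw [hu', q_act]; exact qu
  refine ⟨κ, hκ, hw, hv, ?_⟩
  rcases align_cases u' e3 e1 e2 (fun e => u0' (by rw [← hu, e, act_zero]))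
    (fun e => uw (by rw [← hu, e, hw])) (fun e => uv (by rw [← hu, e, hv]))
    (fun e => uwv (by rw [← hu, e, act_add, hw, hv])) with h | h
  · intro x hx1 hx2 hx3
    obtain ⟨k, hk⟩ := h (act κ⁻¹ x) (by rw [tr, hw]; exact hx1) (by rw [tr, hv]; exact hx2)
      (by rw [tr, hu]; exact hx3)
    exact ⟨k, hk.symm⟩
  exfalso
  obtain ⟨f1, f2, f3, -, -⟩ := bad_facts
  obtain ⟨p, hp⟩ := exists_pure_of_even d S.R swap01_facts.2.2.2.2.2
  obtain ⟨k, hk⟩ := exists_pure_of_even d S.R hκ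
  set s := S.R.el rN w0 false false * p
  set r := S.R.n rE'
  have hs : ∀ x, B x rS' = false → B x rS = false → B x u' = false →
      Commute s (S.F.m x) ∧ Commute r (S.F.m x) := by
    intro x a b c
    obtain ⟨g1, g2, g3⟩ := h x a b c
    refine ⟨?_, ?_⟩
    · refine mul_inv_eq_iff_eq_mul.mp ?_
      have h1 := hp.lam_spec x
      rw [g1, lam_p4_eq d S.T hp g1, S.hE p hp, Bool.false_and, Bool.xor_false] at h1
      rw [show s * S.F.m x * s⁻¹ = S.R.el rN w0 false false * (p * S.F.m x * p⁻¹) *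
          (S.R.el rN w0 false false)⁻¹ by simp only [s]; group, h1,
        show pw z (B x rE) = S.R.kk false (B x rE) by simp [Radical.kk],
        show ∀ o : G, o * (S.F.m x * S.R.kk false (B x rE)) * o⁻¹ =
          o * S.F.m x * o⁻¹ * (o * S.R.kk false (B x rE) * o⁻¹) from fun o => by group,
        conj_of_commute (S.R.commute_kk d (S.R.el_mem d _ _ _ _) _ _), S.R.m_eq d, S.R.el_conj d,
        mul_assoc, S.R.kk_mul d, cy, cz, B_w0, B_w0, B_w0, g2]
      simp [Radical.kk]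
    · refine mul_inv_eq_iff_eq_mul.mp ?_
      simp only [r]
      rw [S.R.n_eq d, S.R.m_eq d, S.R.el_conj d, cy, cz, B_w0, B_w0, B_symm w0, B_w0, B_symm x,
        g3]
      simp [Radical.kk]
  have hD : s ∈ Dzy z y ∧ r ∈ Dzy z y := ⟨mul_mem (S.R.el_mem d _ _ _ _) hp.1, S.R.mem _⟩
  obtain ⟨hkz, hky⟩ := mem_Dzy.mp hk.1
  have move : ∀ {o : G}, (∀ x, B x rS' = false → B x rS = false → B x u' = false →
      Commute o (S.F.m x)) → o ∈ Dzy z y → ∀ x, B x w = false → B x v = false → B x u = false →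
      Commute (k * o * k⁻¹) (S.F.m x) := by
    intro o ho hoD x hx1 hx2 hx3
    have h1 := ho (act κ⁻¹ x) (by rw [tr, hw]; exact hx1) (by rw [tr, hv]; exact hx2)
      (by rw [tr, hu]; exact hx3)
    have h2 := h1.map (MulAut.conj k).toMonoidHom
    simp only [MulEquiv.coe_toMonoidHom, MulAut.conj_apply] at h2
    rw [hk.lam_spec, act_forth] at h2
    have h3 : Commute (k * o * k⁻¹) (pw z (lam S.F κ k (act κ⁻¹ x))) :=
      pw_commute ((hkz.mul_left (mem_Dzy.mp hoD).1).mul_left hkz.inv_left) _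
    have := h2.mul_right h3.inv_right
    simpa [mul_assoc] using this
  have hc : Commute (k * s * k⁻¹) (k * r * k⁻¹) :=
    hab _ _ (mul_mem (mul_mem hk.1 hD.1) (inv_mem hk.1)) (mul_mem (mul_mem hk.1 hD.2) (inv_mem hk.1))
      (move (fun x a b c => (hs x a b c).1) hD.1) (move (fun x a b c => (hs x a b c).2) hD.2)
  have hsr : Commute s r := by
    have := hc.map (MulAut.conj k⁻¹).toMonoidHom
    simpa [mul_assoc] using this
  have h4 := conj_of_commute hsr
  have h5 := hp.lamN d f2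
  rw [lam_p4_eq d S.T hp f2, S.hE p hp, f3, Bool.false_and, Bool.xor_false] at h5
  rw [show s * r * s⁻¹ = S.R.el rN w0 false false * (p * r * p⁻¹) * (S.R.el rN w0 false false)⁻¹ by
      simp only [s]; group, h5, show pw y true = S.R.kk true false by simp [Radical.kk],
    show ∀ o : G, o * (r * S.R.kk true false) * o⁻¹ = o * r * o⁻¹ * (o * S.R.kk true false * o⁻¹)
      from fun o => by group,
    conj_of_commute (S.R.commute_kk d (S.R.el_mem d _ _ _ _) _ _)] at h4
  simp only [r] at h4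
  rw [S.R.n_eq d, S.R.el_conj d, mul_assoc, S.R.kk_mul d, mul_eq_left, cy, cz, B_w0, B_w0, f1,
    B_symm w0, B_w0] at h4
  have h6 := (pw_yz_inj d.hub S.F.sing (h4.trans (by simp : (1 : G) = pw y false * pw z false))).2
  simp at h6

theorem commute_kk_el {g : G} (hg : g ∈ Dzy z y) (k : Fin 8) (a b : Bool)
    (h : Commute g (S.F.m (lsp k.val))) (d : Data z Q) :
    Commute g (S.R.el (lsp k.val) w0 a b) := by
  rw [Radical.el, S.R.zero, mul_one]
  exact h.mul_right (S.R.commute_kk d hg a b)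

theorem E_sub_Q (k : Fin 8) (a b : Bool) (d : Data z Q) : S.R.el (lsp k.val) w0 a b ∈ Q := by
  rw [Radical.el, S.R.zero, mul_one]
  exact mul_mem (S.F.mem _) (mul_mem (pw_mem S.F.sing.1 a) (pw_mem d.hub.mem b))

/-- `N ∩ C(z)` moves `y` to every singular element of `⟨z, y, m(L)⟩`. -/
theorem trans_E {e : G} (he : InE S e) (hs : Sing z Q e) :
    ∃ n ∈ normalizer ((AA l d : Subgroup G) : Set G), Commute n z ∧ n * y * n⁻¹ = e := by
  classical
  obtain ⟨htrans, -⟩ := S.F.orders d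
  obtain ⟨c, hcz, hc⟩ := htrans e hs
  let T' := Fin 8 × Bool × Bool
  let E' : T' → G := fun t => c⁻¹ * S.R.el (lsp t.1.val) w0 t.2.1 t.2.2 * c
  have hEA : ∀ t : T', InA S (S.R.el (lsp t.1.val) w0 t.2.1 t.2.2) := fun t =>
    inE_inA d ⟨_, _, _, rfl⟩
  have hQ : ∀ t, E' t ∈ Q := fun t => by
    have := d.hub.normalizes c⁻¹ hcz.inv_left _ (E_sub_Q (S := S) t.1 t.2.1 t.2.2 d)
    simpa [E'] using this
  have hy : ∀ t, Commute (E' t) y := fun t => by
    have := ((hEA t).commute d (inE_inA d he)).map (MulAut.conj c⁻¹).toMonoidHom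
    rw [← hc] at this
    simpa [E', mul_assoc] using this
  have hcomm : ∀ t t', Commute (E' t) (E' t') := fun t t' => by
    have := ((hEA t).commute d (hEA t')).map (MulAut.conj c⁻¹).toMonoidHom
    simpa [E'] using this
  have hform : ∀ t, ∃ a b, E' t = S.R.el (S.F.wof (E' t)) w0 a b := fun t => by
    obtain ⟨ee, h⟩ := S.F.exists_elem d (hQ t)
    rw [fl_eq_false.mpr (hy t)] at h
    refine ⟨fl (E' t) S.F.x, ee, ?_⟩
    conv_lhs => rw [h]
    rw [Frame.elem, pw_false, one_mul, ← (pw_commute (S.F.comm_y _) _).eq, Radical.el, Radical.kk,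
      S.R.zero, mul_one, mul_assoc]
  choose fa fb hf using hform
  set f : T' → W := fun t => S.F.wof (E' t)
  have hinj : Function.Injective fun t => (f t, fa t, fb t) := by
    intro t t' h
    simp only [Prod.mk.injEq] at h
    have h1 : E' t = E' t' := by rw [hf t, hf t']; simp only [f] at h; rw [h.1, h.2.1, h.2.2]
    obtain ⟨r1, -, r3, r4⟩ := S.R.el_inj d (mul_left_cancel (mul_right_cancel h1))
    exact Prod.ext (lsp_inj _ _ r1) (Prod.ext r3 r4)
  have hq : ∀ t, q (f t) = false := fun t => by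
    have h1 : E' t * E' t = 1 := by
      simp only [E']
      rw [show c⁻¹ * S.R.el (lsp t.1.val) w0 t.2.1 t.2.2 * c *
          (c⁻¹ * S.R.el (lsp t.1.val) w0 t.2.1 t.2.2 * c) =
        c⁻¹ * (S.R.el (lsp t.1.val) w0 t.2.1 t.2.2 * S.R.el (lsp t.1.val) w0 t.2.1 t.2.2) * c by group,
        (hEA t).sq d]
      group
    rw [hf t, S.R.el_sq d, B_w0, Bool.xor_false, Bool.xor_false] at h1
    exact (pw_yz_inj d.hub S.F.sing (h1.trans (by simp : (1 : G) = pw y false * pw z false))).2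
  have hB : ∀ t t', B (f t) (f t') = false := fun t t' => by
    have h1 := hcomm t t'
    rw [hf t, hf t', S.R.el_commute d, cz, B_w0, B_w0, Bool.xor_false, Bool.xor_false] at h1
    exact h1.2
  have pick : ∀ S0 : Finset W, S0.card ≤ 4 → ∃ t, f t ∉ S0 := by
    intro S0 hS0
    by_contra hno
    push Not at hno
    have h1 := Fintype.card_le_of_injective
      (fun t => ((⟨f t, hno t⟩ : S0), fa t, fb t)) fun t t' h => hinj (by
        simp only [Prod.mk.injEq, Subtype.mk.injEq] at h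
        simp [h])
    simp [T'] at h1
    omega
  obtain ⟨tw, htw⟩ := pick {w0} (by simp)
  obtain ⟨tv, htv⟩ := pick {w0, f tw} (Finset.card_le_two.trans (by norm_num))
  obtain ⟨tu, htu⟩ := pick {w0, f tw, f tv, add (f tw) (f tv)} Finset.card_le_four
  simp only [Finset.mem_insert, Finset.mem_singleton, not_or] at htw htv htu
  obtain ⟨κ, hκ, -, -, hx⟩ := align (S := S) (hq tw) (hq tv) (hq tu) (hB _ _) (hB _ _) (hB _ _) htw
    htv.1 (fun e => htv.2 e.symm) htu.1 htu.2.1 htu.2.2.1 htu.2.2.2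
    (fun s r hs' hr' cs cr => by
      have key : ∀ o, o ∈ Dzy z y → (∀ x, B x (f tw) = false → B x (f tv) = false →
          B x (f tu) = false → Commute o (S.F.m x)) → InA S (c * o * c⁻¹) := by
        intro o ho co
        have hE : ∀ t : T', Commute (c * o * c⁻¹) (S.R.el (lsp t.1.val) w0 t.2.1 t.2.2) := fun t => by
          have h1 : Commute o (E' t) := by
            rw [hf t, Radical.el, S.R.zero, mul_one]
            exact (co _ (hB _ _) (hB _ _) (hB _ _)).mul_right (S.R.commute_kk d ho _ _)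
          have := h1.map (MulAut.conj c).toMonoidHom
          simpa [E', mul_assoc] using this
        refine inA_of_centralizes d ?_ ?_ fun k => ?_
        · exact (hcz.mul_left (mem_Dzy.mp ho).1).mul_left hcz.inv_left
        · have := hE (0, true, false)
          simpa [zero_facts.1, S.R.el_w0 d, Radical.kk] using this
        · rw [S.R.m_eq d]; exact hE (k, false, false)
      have := ((key s hs' cs).commute d (key r hr' cr)).map (MulAut.conj c⁻¹).toMonoidHom
      simpa [mul_assoc] using this) d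
  obtain ⟨k, hk⟩ := exists_pure_of_even d S.R hκ
  obtain ⟨hkz, hky⟩ := mem_Dzy.mp hk.1
  refine ⟨c * k, ?_, hcz.mul_left hkz, ?_⟩
  · rw [← inv_inv (c * k)]
    refine inv_mem (norm_of_E l d fun e' => ?_)
    rintro ⟨j, a, b, rfl⟩
    have hkD : k⁻¹ ∈ Dzy z y := inv_mem hk.1
    obtain ⟨a', b', h1⟩ := S.R.el_conj_D d hkD (f (j, a, b)) w0 (fa (j, a, b)) (fb (j, a, b))
    rw [(hk.inv d).actW d, (hk.inv d).actW d, act_zero, ← hf] at h1
    obtain ⟨m, hm⟩ := hx (f (j, a, b)) (hB _ _) (hB _ _) (hB _ _)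
    rw [hm] at h1
    refine ⟨m, a', b', ?_⟩
    rw [← h1]
    simp only [E']
    group
  · rw [show c * k * y * (c * k)⁻¹ = c * (k * y * k⁻¹) * c⁻¹ by group, conj_of_commute hky, hc]

/-- A pair of independent vectors of `L` is an image of `rS', rS` under the stabiliser of `L`. -/
theorem pair_move {k k' : Fin 8} (h0 : k ≠ 0) (h0' : k' ≠ 0) (hne : k ≠ k') :
    ∃ (κ : Equiv.Perm (Fin 8)) (p : G), Pure S.R κ p ∧
      p ∈ normalizer ((AA l d : Subgroup G) : Set G) ∧
      act κ rS' = lsp k.val ∧ act κ rS = lsp k'.val := by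
  obtain ⟨m, m1, m2, m3, m4⟩ := pick_third k k' h0 h0' hne
  have bb := fun i j : Fin 8 => ((lsp_facts i).2.2.1 j).1
  obtain ⟨κ, hκ, hw, hv, hx⟩ := align (S := S) (lsp_facts k).1 (lsp_facts k').1 (lsp_facts m).1
    (bb _ _) (bb _ _) (bb _ _) (fun e => h0 ((lsp_facts k).2.1 e))
    (fun e => h0' ((lsp_facts k').2.1 e)) (fun e => hne (lsp_inj _ _ e)) m1 m2 m3 m4
    (fun s r hs hr cs cr => (inA_of_centralizes d (mem_Dzy.mp hs).1 (mem_Dzy.mp hs).2
        fun j => cs _ (bb _ _) (bb _ _) (bb _ _)).commute d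
      (inA_of_centralizes d (mem_Dzy.mp hr).1 (mem_Dzy.mp hr).2
        fun j => cr _ (bb _ _) (bb _ _) (bb _ _))) d
  obtain ⟨p, hp⟩ := exists_pure_of_even d S.R hκ
  refine ⟨κ, p, hp, ?_, hw, hv⟩
  rw [← inv_inv p]
  exact inv_mem (pure_norm l d (hp.inv d) fun j => hx _ (bb _ _) (bb _ _) (bb _ _))

theorem el_conjT {k k' : Fin 8} (h0 : k ≠ 0) (h0' : k' ≠ 0) (hne : k ≠ k') (s t : Bool) :
    ∃ n ∈ normalizer ((AA l d : Subgroup G) : Set G),
      n * t0 S * n⁻¹ = S.R.el (lsp k.val) (lsp k'.val) s t := by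
  obtain ⟨κ, p, hp, hpN, hw, hv⟩ := pair_move l d h0 h0' hne
  obtain ⟨a', b', e⟩ := S.R.el_conj_D d hp.1 rS' rS false false
  rw [hp.actW d, hp.actW d, hw, hv] at e
  obtain ⟨⟨q1, -⟩, hq2, hb, -⟩ := (⟨lsp_facts k, (lsp_facts k').1, (lsp_facts k).2.2.1 k', trivial⟩ :
    _ ∧ _ ∧ _ ∧ True)
  have hne' : lsp k'.val ≠ w0 := fun e => h0' ((lsp_facts k').2.1 e)
  obtain ⟨w', v', c1, c2⟩ := kill (lsp k.val) (lsp k'.val) hne'
    (by rw [hq2, hb.1]; rfl) (by rw [q1, hb.1]; rfl) (xor a' s) (xor b' t)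
  refine ⟨S.R.el w' v' false false * p, mul_mem (el_norm l d _ _ _ _) hpN, ?_⟩
  rw [show S.R.el w' v' false false * p * t0 S * (S.R.el w' v' false false * p)⁻¹ =
    S.R.el w' v' false false * (p * t0 S * p⁻¹) * (S.R.el w' v' false false)⁻¹ by group, t0, e,
    S.R.el_conj d, c1, c2, S.R.el_kk d]
  cases a' <;> cases s <;> cases b' <;> cases t <;> rfl

/-- `π = 1`: the class of `z`. -/
theorem z_class_E {a : ℕ} (ha : a < 2048) (h0 : a ≠ 0) (hc : cI a = 0) (hv : vI a = 0) :
    ConjIn l d z a := by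
  obtain ⟨s, t, p, hp, e⟩ := av_form l d ha
  rw [hc, zero_facts.2] at hp
  obtain ⟨s', t', rfl⟩ := hp.eq_kk d
  rw [S.R.el_kk d, hv, zero_facts.1] at e
  have hE : InE S (av l a) := ⟨⟨_, wI_lt a⟩, _, _, e⟩
  by_cases hz : av l a = z
  · exact ⟨1, one_mem _, by rw [hz]; group⟩
  have hsing : Sing z Q (av l a) := ⟨e ▸ E_sub_Q ⟨_, wI_lt a⟩ _ _ d, (inE_inA d hE).sq d,
    fun h1 => h0 (av_eq_one l d ha h1), hz⟩
  obtain ⟨n, hn, -, hn'⟩ := trans_E l d hE hsing
  exact ⟨n * S.T.h, mul_mem hn (T_norm l d), by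
    rw [show n * S.T.h * z * (n * S.T.h)⁻¹ = n * (S.T.h * z * S.T.h⁻¹) * n⁻¹ by group, S.T.h_z,
      hn']⟩

theorem z_class_n {a : ℕ} (ha : a < 2048) (h0 : a ≠ 0) (hc : cI a = 0) (hw : wI a = 0) :
    ConjIn l d z a := by
  obtain ⟨s, t, p, hp, e⟩ := av_form l d ha
  rw [hc, zero_facts.2] at hp
  obtain ⟨s', t', rfl⟩ := hp.eq_kk d
  rw [S.R.el_kk d, hw, zero_facts.1] at e
  obtain ⟨α, hα⟩ := S.T.h_m (lsp (vI a))
  rw [S.hρ, act_one] at hα
  set s'' := xor s s'
  set t'' := xor t t'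
  set e' := S.R.el (lsp (vI a)) w0 t'' (xor s'' α)
  have hT : S.T.h * e' * S.T.h⁻¹ = av l a := by
    simp only [e', Radical.el, S.R.zero, mul_one]
    rw [show S.T.h * (S.F.m (lsp (vI a)) * S.R.kk t'' (xor s'' α)) * S.T.h⁻¹ =
      S.T.h * S.F.m (lsp (vI a)) * S.T.h⁻¹ * (S.T.h * S.R.kk t'' (xor s'' α) * S.T.h⁻¹) by group,
      hα, kk_twist d S.T.h_z S.T.h_y, e, Radical.el, S.F.zero, one_mul,
      show pw y α = S.R.kk α false by simp [Radical.kk], mul_assoc, S.R.kk_mul d]
    cases s'' <;> cases α <;> simp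
  have hE : InE S e' := ⟨⟨_, vI_lt a⟩, _, _, rfl⟩
  obtain ⟨b, hb, hbe⟩ := exists_av l d (inE_inA d hE)
  obtain ⟨s1, t1, p1, hp1, e1⟩ := av_form l d hb
  have hb0 : b ≠ 0 := by
    rintro rfl
    rw [av_zero] at hbe
    rw [← hbe] at hT
    exact h0 (av_eq_one l d ha (by rw [← hT]; group))
  have hcb : cI b = 0 ∧ vI b = 0 := by
    have hpi : pof (cI b) = 1 := by
      refine act_inj fun x => ?_
      have := congrArg (fun g => S.F.actW g x) (hbe ▸ e1 : e' = _)
      simp only [e', S.R.el_act d, S.F.actW_mul d (S.R.el_mem d _ _ _ _) hp1.1, hp1.actW d] at this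
      rw [act_one, ← this]
    have hc' : cI b = 0 := congrArg Fin.val ((pof_facts ⟨_, cI_lt b⟩).2.2.1 hpi)
    rw [hc', zero_facts.2] at hp1
    obtain ⟨u1, u2, rfl⟩ := hp1.eq_kk d
    rw [S.R.el_kk d, hbe] at e1
    obtain ⟨-, r2, -, -⟩ := S.R.el_inj d e1
    exact ⟨hc', congrArg Fin.val ((lsp_facts ⟨_, vI_lt b⟩).2.1 r2.symm)⟩
  refine (z_class_E l d hb hb0 hcb.1 hcb.2).conj l d (T_norm l d) ?_
  rw [hbe, hT]

theorem z_class_triv {a : ℕ} (ha : a < 2048) (h0 : a ≠ 0) (hc : cI a = 0)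
    (h : vI a = 0 ∨ wI a = 0 ∨ wI a = vI a) : ConjIn l d z a := by
  rcases h with h | h | h
  · exact z_class_E l d ha h0 hc h
  · exact z_class_n l d ha h0 hc h
  · obtain ⟨g1, g2, g3, g4, g5⟩ := diag_x ⟨a, ha⟩ hc h
    dsimp only at g1 g2 g3 g4 g5
    have := (z_class_n l d g1 (fun e => h0 (g5 e)) g2 g3).gimg l d 0
    rwa [show ((0 : Fin 7) : ℕ) = 0 from rfl, g4] at this

theorem t_class_triv {a : ℕ} (ha : a < 2048) (hc : cI a = 0) (hw : wI a ≠ 0) (hv : vI a ≠ 0)
    (hwv : wI a ≠ vI a) : ConjIn l d (t0 S) a := by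
  obtain ⟨s, t, p, hp, e⟩ := av_form l d ha
  rw [hc, zero_facts.2] at hp
  obtain ⟨s', t', rfl⟩ := hp.eq_kk d
  rw [S.R.el_kk d] at e
  obtain ⟨n, hn, hn'⟩ := el_conjT l d (k := ⟨_, wI_lt a⟩) (k' := ⟨_, vI_lt a⟩)
    (fun e => hw (congrArg Fin.val e)) (fun e => hv (congrArg Fin.val e))
    (fun e => hwv (congrArg Fin.val e)) (xor s s') (xor t t')
  exact ⟨n, hn, hn'.trans e.symm⟩

include d in
theorem inv_el {w v u : W} (hu : B u v = false) (hwu : B w u = true) (s t : Bool) :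
    Inv z Q (S.R.el w v s t) := by
  refine ⟨S.F.m u, S.F.mem u, ?_⟩
  rw [S.R.m_eq d, S.R.el_conj d, cy, cz, B_w0, B_w0, hu, hwu]
  simp [Radical.kk]

include d in
theorem not_inv_el {w v : W} (hv : v ≠ w0) (hw : w = w0 ∨ w = v) (s t : Bool) :
    ¬ Inv z Q (S.R.el w v s t) := by
  rintro ⟨p, hp, e⟩
  obtain ⟨ee, he⟩ := S.F.exists_elem d hp
  have h1 := congrArg S.F.wof e
  rw [S.F.wof_conj d (S.R.el_mem d w v s t) hp, S.R.el_vof d, S.R.el_act d,
    S.F.wof_mul d.hub hp d.hub.mem, show S.F.wof z = w0 from S.F.wof_z d.hub true,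
    (add_zero' _).1] at h1
  have ha : fl p y = false := by
    cases h : fl p y
    · rfl
    · rw [h] at h1
      have h2 : add v (S.F.wof p) = add w0 (S.F.wof p) := by rw [(add_zero' _).2]; exact h1
      rw [add_comm' v, add_comm' w0] at h2
      exact absurd (add_left_cancel' h2) hv
  rw [ha] at he
  have hp' : p = S.R.el (S.F.wof p) w0 (fl p S.F.x) ee := by
    conv_lhs => rw [he]
    rw [Frame.elem, pw_false, one_mul, ← (pw_commute (S.F.comm_y _) _).eq, Radical.el, Radical.kk,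
      S.R.zero, mul_one, mul_assoc]
  set u := S.F.wof p
  rw [hp', S.R.el_conj d] at e
  obtain ⟨e1, e2⟩ := pw_yz_inj d.hub S.F.sing ((mul_left_cancel e).trans
    (show z = pw y false * pw z true by simp))
  rw [cy, B_w0, B_w0] at e1
  rw [cz, B_w0] at e2
  simp only [Bool.xor_false, Bool.false_xor] at e1 e2
  rcases hw with rfl | rfl
  · rw [B_symm w0, B_w0, e1] at e2; exact Bool.noConfusion e2
  · rw [B_symm w u, e1] at e2; exact Bool.noConfusion e2

include d in
theorem Inv.of_conj {g n : G} (hn : Commute n z) (h : Inv z Q g) : Inv z Q (n * g * n⁻¹) := by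
  obtain ⟨p, hp, e⟩ := h
  refine ⟨n * p * n⁻¹, d.hub.normalizes n hn _ hp, ?_⟩
  rw [show n * g * n⁻¹ * (n * p * n⁻¹) * (n * g * n⁻¹)⁻¹ = n * (g * p * g⁻¹) * n⁻¹ by group, e,
    show n * (p * z) * n⁻¹ = n * p * n⁻¹ * (n * z * n⁻¹) by group, conj_of_commute hn]

/-- Over `V`, without `n`-part. -/
theorem m_class {a : ℕ} (ha : a < 2048) (hv : vI a = 0) (hc : cI a ≠ 0) :
    ConjIn l d (if a.testBit 1 || inR (cI a) (wI a) then t0 S else z) a := by
  obtain ⟨s, t, p, hp, e⟩ := av_form l d ha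
  rw [hv, zero_facts.1] at e
  set g := av l a with hg
  set c : Fin 8 := ⟨_, cI_lt a⟩ with hcdef
  set w : Fin 8 := ⟨_, wI_lt a⟩ with hwdef
  have hc0 : c ≠ 0 := fun e => hc (congrArg Fin.val e)
  obtain ⟨hsg, hk, -⟩ := kap_facts c hc0
  change Pure S.R (pof c.val) p at hp
  change g = S.R.el (lsp w.val) w0 s t * p at e
  set π := pof c.val
  have hgD : g ∈ Dzy z y := e ▸ mul_mem (S.R.el_mem d _ _ _ _) hp.1
  obtain ⟨hgz, hgy⟩ := mem_Dzy.mp hgD
  set yb := a.testBit 1
  have hx : g * S.F.x * g⁻¹ = S.F.x * pw z yb := by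
    have h1 := conj_av l d 0 a
    rw [show ((0 : Fin 7) : ℕ) = 0 from rfl, gimg_x ⟨a, ha⟩ hv, av_xor l d, pwz l d] at h1
    have h2 : S.F.x * g * S.F.x⁻¹ = g * pw z yb := h1
    have hxi : S.F.x⁻¹ = S.F.x := inv_eq_of_mul_eq_one_right S.F.x_sq
    have h3 : g = S.F.x * g * S.F.x⁻¹ * pw z yb := by
      rw [h2, mul_assoc, pw_mul d.hub.sq, Bool.xor_self, pw_false, mul_one]
    calc g * S.F.x * g⁻¹ = S.F.x * g * S.F.x⁻¹ * pw z yb * S.F.x * g⁻¹ := by rw [← h3]
      _ = S.F.x * g * (S.F.x⁻¹ * (pw z yb * S.F.x)) * g⁻¹ := by group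
      _ = S.F.x * (g * pw z yb * g⁻¹) := by
        rw [(pw_commute (d.hub.central _ S.F.hx) yb).eq.symm, inv_mul_cancel_left]; group
      _ = _ := by rw [conj_of_commute (pw_commute hgz yb)]
  have hm : ∀ u, g * S.F.m u * g⁻¹ =
      S.F.m (act π u) * pw z (xor (lam S.F π p u) (B (lsp w.val) (act π u))) := by
    intro u
    set o := S.R.el (lsp w.val) w0 s t
    rw [e, show o * p * S.F.m u * (o * p)⁻¹ = o * (p * S.F.m u * p⁻¹) * o⁻¹ by group, hp.lam_spec,
      show ∀ X Y : G, o * (X * Y) * o⁻¹ = o * X * o⁻¹ * (o * Y * o⁻¹) from fun X Y => by group,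
      conj_of_commute (pw_commute (mem_Dzy.mp (S.R.el_mem d _ _ _ _)).1 _), S.R.m_eq d,
      S.R.el_conj d, show pw z (lam S.F π p u) = S.R.kk false (lam S.F π p u) by simp [Radical.kk],
      mul_assoc, S.R.kk_mul d, cy, cz, B_w0, B_w0, B_w0]
    simp [Radical.kk, Bool.xor_comm]
  have helem : ∀ i j u k, g * S.F.elem i j u k * g⁻¹ = S.F.elem i j (act π u)
      (xor (xor (i && yb) (xor (lam S.F π p u) (B (lsp w.val) (act π u)))) k) := by
    intro i j u k
    have hxe : g * pw S.F.x i * g⁻¹ = pw S.F.x i * pw z (i && yb) := by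
      cases i
      · simp
      · simpa using hx
    rw [Frame.elem, show g * (pw S.F.x i * pw y j * S.F.m u * pw z k) * g⁻¹ =
      g * pw S.F.x i * g⁻¹ * (g * pw y j * g⁻¹) * (g * S.F.m u * g⁻¹) * (g * pw z k * g⁻¹) by group,
      hxe, conj_of_commute (pw_commute hgy j), hm, conj_of_commute (pw_commute hgz k)]
    set f := xor (lam S.F π p u) (B (lsp w.val) (act π u))
    have cz' : Commute (pw z (i && yb)) (pw y j * S.F.m (act π u)) :=
      ((pw_commute (pw_commute (d.hub.central y S.F.sing.1).symm j).symm (i && yb)).symm).mul_right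
        (pw_commute (d.hub.central _ (S.F.mem _)) _).symm
    calc pw S.F.x i * pw z (i && yb) * pw y j * (S.F.m (act π u) * pw z f) * pw z k
        = pw S.F.x i * (pw z (i && yb) * (pw y j * S.F.m (act π u))) * (pw z f * pw z k) := by group
      _ = pw S.F.x i * pw y j * S.F.m (act π u) * (pw z (i && yb) * (pw z f * pw z k)) := by
        rw [cz'.eq]; group
      _ = _ := by
        rw [pw_mul d.hub.sq, pw_mul d.hub.sq, Frame.elem]
        congr 2
        simp [f, Bool.xor_assoc]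
  have hlam : ∀ u, act π u = u → lam S.F π p u = B u (act (kapC c) rE) := fun u hu =>
    S.lam_kappa d hsg hk hp hu
  have hInv : Inv z Q g ↔ (yb || inR (cI a) (wI a)) = true := by
    constructor
    · rintro ⟨r, hr, hr'⟩
      obtain ⟨k, he⟩ := S.F.exists_elem d hr
      by_contra hno
      rw [Bool.or_eq_true, not_or, Bool.not_eq_true, Bool.not_eq_true] at hno
      rw [he, helem, hno.1] at hr'
      have h2 : S.F.elem (fl r y) (fl r S.F.x) (S.F.wof r) k * z =
          S.F.elem (fl r y) (fl r S.F.x) (S.F.wof r) (xor k true) := by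
        rw [Frame.elem, Frame.elem, ← pw_mul d.hub.sq, pw_true]; group
      rw [h2] at hr'
      obtain ⟨-, -, i3, i4⟩ := S.F.elem_inj d.hub hr'
      rw [hlam _ i3, i3] at i4
      have := notR_wit c w hc0 hno.2 _ i3
      rw [this] at i4
      simp at i4
    · intro h
      cases hy : yb
      · rw [hy, Bool.false_or] at h
        obtain ⟨u, hu, hu'⟩ := inR_wit c w hc0 h
        refine ⟨S.F.m u, S.F.mem u, ?_⟩
        rw [hm, hu, hlam u hu, hu', pw_true]
      · exact ⟨S.F.x, S.F.hx, by rw [hx, hy, pw_true]⟩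
  obtain ⟨k, hk0, hk'⟩ := pick_r c hc0
  have hE : InE S (S.F.m (lsp k.val)) := ⟨k, false, false, S.R.m_eq d _⟩
  have hsing : Sing z Q (S.F.m (lsp k.val)) := m_sing d (F := S.F) (lsp_facts k).1 hk0
  obtain ⟨n, hn, hnz, hny⟩ := trans_E l d hE hsing
  have hnN : ∀ {h : G}, h ∈ AA l d → n⁻¹ * h * n ∈ AA l d := fun {h} hh => by
    have := (mem_normalizer_iff.mp (inv_mem hn) h).mp hh
    simpa using this
  obtain ⟨b, hb, hbe⟩ := hnN (⟨a, ha, rfl⟩ : g ∈ AA l d)
  obtain ⟨s1, t1, p1, hp1, e1⟩ := av_form l d hb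
  have hb0 : b ≠ 0 := by
    rintro rfl
    rw [av_zero] at hbe
    have : g = 1 := by
      have := congrArg (fun h => n * h * n⁻¹) hbe
      simpa [mul_assoc] using this.symm
    exact hc (by rw [av_eq_one l d ha this]; rfl)
  have hcb : cI b = 0 := by
    have hpi : pof (cI b) = 1 := by
      refine act_inj fun u => ?_
      have h1 : S.F.actW (av l b) u = act (pof (cI b)) u := by
        rw [e1, S.F.actW_mul d (S.R.el_mem d _ _ _ _) hp1.1, S.R.el_act d, hp1.actW d]
      rw [← h1, hbe, act_one]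
      show S.F.wof (n⁻¹ * g * n * S.F.m u * (n⁻¹ * g * n)⁻¹) = u
      set r := n * S.F.m u * n⁻¹
      have hr : r ∈ Q := d.hub.normalizes n hnz _ (S.F.mem u)
      have hrc : Commute r (S.F.m (lsp k.val)) := by
        have := (S.F.comm_y u).map (MulAut.conj n).toMonoidHom
        simp only [MulEquiv.coe_toMonoidHom, MulAut.conj_apply, hny] at this
        exact this
      obtain ⟨ee, he⟩ := S.F.exists_elem d hr
      have hB : B (S.F.wof r) (lsp k.val) = false := by
        have := fl_eq_false.mpr hrc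
        rwa [he, S.F.fl_m d.hub] at this
      rw [show n⁻¹ * g * n * S.F.m u * (n⁻¹ * g * n)⁻¹ = n⁻¹ * (g * r * g⁻¹) * n by
        simp only [r]; group]
      set i := fl r y
      set j := fl r S.F.x
      set u' := S.F.wof r
      have back : ∀ e' : Bool, n⁻¹ * pw z e' * n = pw z e' := fun e' => by
        simpa using conj_of_commute (pw_commute hnz.inv_left e')
      rcases hk' u' hB with h2 | h2
      · have h3 : act π u' = u' := (eq_of_add h2).symm
        obtain ⟨e', he'⟩ : ∃ e', g * r * g⁻¹ = r * pw z e' := by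
          refine ⟨xor (xor (i && yb) (xor (lam S.F π p u') (B (lsp w.val) u'))) (xor ee ee), ?_⟩
          rw [he, helem, h3, Bool.xor_self, Bool.xor_false, Frame.elem, Frame.elem,
            mul_assoc _ (pw z ee), pw_mul d.hub.sq]
          congr 2
          rw [Bool.xor_comm]
        rw [he', show n⁻¹ * (r * pw z e') * n = S.F.m u * (n⁻¹ * pw z e' * n) by
          simp only [r]; group, back, S.F.wof_mul d.hub (S.F.mem u) (pw_mem d.hub.mem _),
          S.F.wof_z d.hub, (add_zero' _).1, S.F.wof_m d.hub]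
      · have h3 : act π u' = add u' (lsp k.val) := by
          rw [← h2, ← add_assoc', add_self, (add_zero' _).2]
        obtain ⟨f, hf⟩ := S.F.m_add u' (lsp k.val)
        obtain ⟨e', he'⟩ : ∃ e', g * r * g⁻¹ = r * S.F.m (lsp k.val) * pw z e' := by
          refine ⟨xor (xor f ee) (xor (xor (i && yb)
            (xor (lam S.F π p u') (B (lsp w.val) (add u' (lsp k.val))))) ee), ?_⟩
          set X := xor (i && yb) (xor (lam S.F π p u') (B (lsp w.val) (add u' (lsp k.val)))) with hX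
          rw [he, helem, h3, Frame.elem, Frame.elem, ← hX]
          have c1 : Commute (pw z ee) (S.F.m (lsp k.val)) :=
            (pw_commute (d.hub.central _ (S.F.mem _)) ee).symm
          calc pw S.F.x i * pw y j * S.F.m (add u' (lsp k.val)) * pw z (xor X ee)
              = pw S.F.x i * pw y j * (S.F.m u' * S.F.m (lsp k.val)) * (pw z f * pw z (xor X ee)) := by
                rw [hf]
                rw [show pw S.F.x i * pw y j * (S.F.m (add u' (lsp k.val)) * pw z f) *
                  (pw z f * pw z (xor X ee)) = pw S.F.x i * pw y j * S.F.m (add u' (lsp k.val)) *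
                  (pw z f * pw z f) * pw z (xor X ee) by group, pw_mul d.hub.sq, Bool.xor_self,
                  pw_false, mul_one]
            _ = pw S.F.x i * pw y j * S.F.m u' * (S.F.m (lsp k.val) * pw z ee) *
                  (pw z ee * (pw z f * pw z (xor X ee))) := by
                rw [show pw S.F.x i * pw y j * S.F.m u' * (S.F.m (lsp k.val) * pw z ee) *
                  (pw z ee * (pw z f * pw z (xor X ee))) = pw S.F.x i * pw y j * S.F.m u' *
                  S.F.m (lsp k.val) * (pw z ee * pw z ee) * (pw z f * pw z (xor X ee)) by group,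
                  show pw z ee * pw z ee = 1 by rw [pw_mul d.hub.sq]; simp, mul_one]
                group
            _ = _ := by
                rw [← c1.eq, pw_mul d.hub.sq, pw_mul d.hub.sq,
                  show xor ee (xor f (xor X ee)) = xor (xor f ee) (xor X ee) by
                    cases ee <;> cases f <;> cases X <;> rfl]
                group
        rw [he', show n⁻¹ * (r * S.F.m (lsp k.val) * pw z e') * n =
          S.F.m u * (n⁻¹ * S.F.m (lsp k.val) * n) * (n⁻¹ * pw z e' * n) by simp only [r]; group,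
          back, show n⁻¹ * S.F.m (lsp k.val) * n = y by rw [← hny]; group,
          S.F.wof_mul d.hub (mul_mem (S.F.mem u) S.F.sing.1) (pw_mem d.hub.mem _),
          S.F.wof_z d.hub, (add_zero' _).1, S.F.wof_mul d.hub (S.F.mem u) S.F.sing.1,
          show S.F.wof y = w0 from S.F.wof_y d.hub true, (add_zero' _).1, S.F.wof_m d.hub]
    exact congrArg Fin.val ((pof_facts ⟨_, cI_lt b⟩).2.2.1 hpi)
  rw [hcb, zero_facts.2] at hp1
  obtain ⟨s2, t2, rfl⟩ := hp1.eq_kk d
  rw [S.R.el_kk d] at e1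
  have hvb : vI b ≠ 0 := fun h0 => by
    rw [h0, zero_facts.1] at e1
    have hgQ : g ∈ Q := by
      have h2 := d.hub.normalizes n hnz _ (e1 ▸ E_sub_Q (S := S) ⟨_, wI_lt b⟩ _ _ d : av l b ∈ Q)
      rwa [hbe, show n * (n⁻¹ * g * n) * n⁻¹ = g by group] at h2
    obtain ⟨-, h3, -⟩ := S.F.of_mem_Q d hgQ hgy
    refine hc (congrArg Fin.val ((pof_facts c).2.2.1 (act_inj fun u => ?_)))
    rw [act_one]
    conv_rhs => rw [← h3 u, e, S.F.actW_mul d (S.R.el_mem d _ _ _ _) hp.1, S.R.el_act d, hp.actW d]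
  have hinv' : Inv z Q g ↔ Inv z Q (av l b) := by
    rw [hbe]
    constructor
    · intro h; simpa using h.of_conj d hnz.inv_left
    · intro h; simpa [mul_assoc] using h.of_conj d hnz
  have back : n * av l b * n⁻¹ = av l a := by rw [hbe]; group; rfl
  cases hcond : (yb || inR (cI a) (wI a))
  · rw [if_neg (by simp)]
    have hno : ¬ Inv z Q g := fun h => by simp [hInv.mp h] at hcond
    refine (z_class_triv l d hb hb0 hcb ?_).conj l d hn back
    by_contra hne
    simp only [not_or] at hne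
    obtain ⟨-, n2, n3⟩ := hne
    obtain ⟨u, u1, u2⟩ := indep_wit ⟨_, wI_lt b⟩ ⟨_, vI_lt b⟩ (fun e => n2 (congrArg Fin.val e))
      (fun e => hvb (congrArg Fin.val e)) (fun e => n3 (congrArg Fin.val e))
    exact hno (hinv'.mpr (e1 ▸ inv_el d u1 u2 _ _))
  · rw [if_pos rfl]
    have hy : Inv z Q (av l b) := hinv'.mp (hInv.mpr hcond)
    rw [e1] at hy
    have hne : lsp (vI b) ≠ w0 := fun e => hvb (congrArg Fin.val ((lsp_facts ⟨_, vI_lt b⟩).2.1 e))
    refine (t_class_triv l d hb hcb (fun h0 => ?_) hvb (fun h0 => ?_)).conj l d hn back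
    · exact not_inv_el d hne (Or.inl (by rw [h0, zero_facts.1])) _ _ hy
    · exact not_inv_el d hne (Or.inr (by rw [h0])) _ _ hy

include d in
theorem twist_sw {a : ℕ} (ha : a < 2048) (hv : vI a = 0) :
    ∃ s, S.T.h * av l a * S.T.h⁻¹ = av l (sw a) * pw y s := by
  let P : ℕ → Prop := fun a => ∃ s, S.T.h * av l a * S.T.h⁻¹ = av l (sw a) * pw y s
  have hmul : ∀ a b, P a → P b → P (a ^^^ b) := by
    rintro a b ⟨s, hs⟩ ⟨t, ht⟩
    refine ⟨xor s t, ?_⟩
    rw [av_xor l d, show S.T.h * (av l a * av l b) * S.T.h⁻¹ =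
      S.T.h * av l a * S.T.h⁻¹ * (S.T.h * av l b * S.T.h⁻¹) by group, hs, ht,
      show sw (a ^^^ b) = sw a ^^^ sw b from lmap_xor _ _ _, av_xor l d, ← pw_mul S.F.sing.2.1]
    have hbA : ∀ x, Commute (pw y s) (av l x) := fun x =>
      bprod_commute _ _ _ fun k => (pw_commute ((gens_inA l d k).commute d
        ((mem_AA l d).mp ⟨2, by norm_num, av_by l⟩)) s).symm
    calc av l (sw a) * pw y s * (av l (sw b) * pw y t)
        = av l (sw a) * (pw y s * av l (sw b)) * pw y t := by group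
      _ = _ := by rw [(hbA _).eq]; group
  have hcond : ∀ (e : Bool) x, P x → P (cond e x 0) := fun e x hx => by
    cases e
    · exact ⟨false, by simp [av_zero, sw, swL, lmap]⟩
    · exact hx
  have swb : sw 1 = 2 ∧ sw 2 = 1 ∧ (∀ k : Fin 3, sw (2 ^ (2 + k.val)) = 2 ^ (5 + k.val) ∧
      sw (2 ^ (8 + k.val)) = 2 ^ (8 + k.val)) := by decide +kernel
  obtain ⟨s1, s2, sk⟩ := swb
  have pM : ∀ k : Fin 3, P (2 ^ (2 + k.val)) := fun k => by
    obtain ⟨e, he⟩ := l.M_eq k
    obtain ⟨η, hη⟩ := l.n_eq k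
    obtain ⟨α, hα⟩ := S.T.h_m (ll k)
    rw [S.hρ, act_one] at hα
    refine ⟨xor η (xor α e), ?_⟩
    rw [(sk k).1, av_M, av_n, he, hη, show S.T.h * (S.F.m (ll k) * pw z e) * S.T.h⁻¹ =
      S.T.h * S.F.m (ll k) * S.T.h⁻¹ * (S.T.h * pw z e * S.T.h⁻¹) by group, hα, pw_conj S.T.h_z,
      mul_assoc, pw_mul S.F.sing.2.1, mul_assoc, pw_mul S.F.sing.2.1]
    cases η <;> cases α <;> cases e <;> rfl
  have pC : ∀ k : Fin 3, P (2 ^ (8 + k.val)) := fun k => by
    show ∃ s, _
    rw [(sk k).2, av_c]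
    exact l.c_T k
  have p1 : P 1 := ⟨false, by rw [s1, av_by, av_bz, pw_false, mul_one, S.T.h_z]⟩
  have p2 : P 2 := ⟨false, by rw [s2, av_by, av_bz, pw_false, mul_one, S.T.h_y]⟩
  have := sw_span ⟨a, ha⟩ hv
  dsimp only at this
  show P a
  rw [this]
  refine hmul _ _ (hmul _ _ (hmul _ _ (hmul _ _ (hmul _ _ (hmul _ _ (hmul _ _ (hcond _ _ p1)
    (hcond _ _ p2)) (hcond _ _ ?_)) (hcond _ _ ?_)) (hcond _ _ ?_)) (hcond _ _ ?_))
    (hcond _ _ ?_)) (hcond _ _ ?_)
  exacts [pM 0, pM 1, pM 2, pC 0, pC 1, pC 2]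

/-- Over `V`, without `m`-part. -/
theorem n_class {b : ℕ} (hb : b < 2048) (hw : wI b = 0) (hc : cI b ≠ 0) :
    ConjIn l d (if b.testBit 0 || inR (cI b) (vI b) then t0 S else z) b := by
  obtain ⟨f1, f2, f3, f4, f5, f6, f7, f8⟩ := sw_facts ⟨b, hb⟩ hw
  dsimp only at f1 f2 f3 f4 f5 f6 f7 f8
  have hm : ∀ a < 2048, vI a = 0 → cI a = cI b → wI a = vI b → a.testBit 1 = b.testBit 0 →
      ConjIn l d (if b.testBit 0 || inR (cI b) (vI b) then t0 S else z) a := by
    intro a ha h1 h2 h3 h4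
    have := m_class l d ha h1 (by rw [h2]; exact hc)
    rwa [h2, h3, h4] at this
  obtain ⟨s, hs⟩ := twist_sw l d f2 f1
  rw [f3] at hs
  cases s
  · rw [pw_false, mul_one] at hs
    exact (hm _ f2 f1 f4 f5 f6).conj l d (T_norm l d) hs
  · have hlt : sw b ^^^ 1 < 2048 := Nat.xor_lt_two_pow (n := 11) f2 (by norm_num)
    have bits : ∀ a : Fin 2048, cI (a.val ^^^ 1) = cI a.val ∧ wI (a.val ^^^ 1) = wI a.val ∧
        (a.val ^^^ 1).testBit 1 = a.val.testBit 1 := by decide +kernel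
    obtain ⟨g1, g2, g3⟩ := bits ⟨sw b, f2⟩
    refine (hm _ hlt f8 (g1.trans f4) (g2.trans f5) (g3.trans f6)).conj l d (T_norm l d) ?_
    rw [av_xor l d, av_bz, show S.T.h * (av l (sw b) * z) * S.T.h⁻¹ =
      S.T.h * av l (sw b) * S.T.h⁻¹ * (S.T.h * z * S.T.h⁻¹) by group, hs, S.T.h_z, pw_true,
      mul_assoc, S.F.sing.2.1, mul_one]

theorem zRep_class {a : ℕ} (ha : a < 2048) (h : zRep a = true) : ConjIn l d z a := by
  unfold zRep at h
  by_cases hc : cI a = 0
  · rw [if_pos hc] at h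
    simp only [Bool.and_eq_true, bne_iff_ne, ne_eq, Bool.or_eq_true, beq_iff_eq] at h
    exact z_class_triv l d ha h.1 hc (h.2.imp id Or.inl)
  rw [if_neg hc, Bool.or_eq_true] at h
  rcases h with h | h <;>
    simp only [Bool.and_eq_true, beq_iff_eq, Bool.not_eq_true'] at h
  · have := m_class l d ha h.1.1 hc
    rwa [h.1.2, h.2, Bool.or_false, if_neg (by simp)] at this
  · have := n_class l d ha h.1.1 hc
    rwa [h.1.2, h.2, Bool.or_false, if_neg (by simp)] at this

theorem tRep_class {a : ℕ} (ha : a < 2048) (h : tRep a = true) : ConjIn l d (t0 S) a := by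
  unfold tRep at h
  by_cases hc : cI a = 0
  · rw [if_pos hc] at h
    simp only [Bool.and_eq_true, bne_iff_ne, ne_eq] at h
    exact t_class_triv l d ha hc h.1.1 h.1.2 h.2
  rw [if_neg hc, Bool.or_eq_true] at h
  rcases h with h | h <;> simp only [Bool.and_eq_true, beq_iff_eq] at h
  · have := m_class l d ha h.1 hc
    rwa [h.2, if_pos rfl] at this
  · have := n_class l d ha h.1 hc
    rwa [h.2, if_pos rfl] at this

/-- The two orbits. -/
theorem classes {a : ℕ} (ha : a < 2048) (h0 : a ≠ 0) :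
    ConjIn l d (cond (inSN a) z (t0 S)) a := by
  have hz := run_sound (rep := zRep) (P := ConjIn l d z) (fun b hb h => zRep_class l d hb h)
    (fun g hg b _ h => h.gimg l d ⟨g, hg⟩) zSteps 0 zMask (by simp) zrun
  have ht := run_sound (rep := tRep) (P := ConjIn l d (t0 S)) (fun b hb h => tRep_class l d hb h)
    (fun g hg b _ h => h.gimg l d ⟨g, hg⟩) tSteps 0 tMask (by simp) trun
  have hm := masks ⟨a, ha⟩ h0
  dsimp only at hm
  cases hs : inSN a <;> rw [hs] at hm
  exacts [ht a hm, hz a hm]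

include d in
/-- The class of `z` is `inSN`. -/
theorem isConj_z_iff {a : ℕ} (ha : a < 2048) (h0 : a ≠ 0) :
    IsConj z (av l a) ↔ inSN a = true := by
  obtain ⟨n, -, hn⟩ := classes l d ha h0
  cases hs : inSN a
  · rw [hs, cond_false] at hn
    refine ⟨fun h => absurd ?_ (t_not_z d S.T), fun h => absurd h (by simp)⟩
    exact h.trans (isConj_iff.mpr ⟨n, hn⟩).symm
  · rw [hs, cond_true] at hn
    exact ⟨fun _ => rfl, fun _ => isConj_iff.mpr ⟨n, hn⟩⟩

end Cfsg.Agent.ConwayType
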