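import Cfsg.Agent.Lib.ConwayType.BigAbelian

/-!
# Seven elements of the normaliser of `2^11`

`x`, `m(uu j)` and `n(uu j)` act on the coordinates by the rows of `imgs`.
-/

set_option autoImplicit false
set_option maxHeartbeats 800000
set_option synthInstance.maxSize 2048

namespace Cfsg.Agent.ConwayType

open Subgroup

theorem uu_B : ∀ j k : Fin 3, B (uu j) (ll k) = decide (j = k) ∧ B (ll k) (uu j) = decide (j = k) :=
  fun j k => ⟨(uu_facts j k).2.2.1, (uu_facts j k).2.2.2⟩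

theorem row_x : (imgs.getD 0 []).length = 11 ∧ (imgs.getD 0 []).getD 0 0 = 1 ∧
    (imgs.getD 0 []).getD 1 0 = 2 ^^^ 1 ∧ ∀ k : Fin 3,
      (imgs.getD 0 []).getD (2 + k.val) 0 = 2 ^ (2 + k.val) ∧
      (imgs.getD 0 []).getD (5 + k.val) 0 = 2 ^ (5 + k.val) ^^^ 2 ^ (2 + k.val) ∧
      (imgs.getD 0 []).getD (8 + k.val) 0 = 2 ^ (8 + k.val) := by decide +kernel

theorem row_P : ∀ j : Fin 3, (imgs.getD (1 + j.val) []).length = 11 ∧
    (imgs.getD (1 + j.val) []).getD 0 0 = 1 ∧ (imgs.getD (1 + j.val) []).getD 1 0 = 2 ∧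
    ∀ k : Fin 3, (imgs.getD (1 + j.val) []).getD (2 + k.val) 0 =
        2 ^ (2 + k.val) ^^^ cond (decide (j = k)) 1 0 ∧
      (imgs.getD (1 + j.val) []).getD (5 + k.val) 0 =
        2 ^ (5 + k.val) ^^^ cond (decide (j = k)) (2 ^^^ 1) 0 ∧
      (imgs.getD (1 + j.val) []).getD (8 + k.val) 0 = 2 ^ (8 + k.val) ^^^ (if k = j then 1 else
        2 ^ (2 + (th3 k j).val) ^^^ cond (decide (j < k)) 1 0) := by decide +kernel

theorem row_N : ∀ j : Fin 3, (imgs.getD (4 + j.val) []).length = 11 ∧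
    (imgs.getD (4 + j.val) []).getD 0 0 = 1 ∧ (imgs.getD (4 + j.val) []).getD 1 0 = 2 ∧
    ∀ k : Fin 3, (imgs.getD (4 + j.val) []).getD (2 + k.val) 0 =
        2 ^ (2 + k.val) ^^^ cond (decide (j = k)) (2 ^^^ 1) 0 ∧
      (imgs.getD (4 + j.val) []).getD (5 + k.val) 0 =
        2 ^ (5 + k.val) ^^^ cond (decide (j = k)) 2 0 ∧
      (imgs.getD (4 + j.val) []).getD (8 + k.val) 0 = 2 ^ (8 + k.val) ^^^ (if k = j then 2 else
        2 ^ (5 + (th3 k j).val) ^^^ cond (decide (j < k)) 2 0) := by decide +kernel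

theorem pow_fin : ∀ i : Fin 3, ((2 : Fin 8) ^ i.val).val = 2 ^ i.val := by decide

variable {G : Type*} [Group G] [Finite G] {z y : G} {Q : Subgroup G} {S : Setup z y Q}
  (l : Lifts S)

theorem av_M (k : Fin 3) : av l (2 ^ (2 + k.val)) = l.M k := by
  fin_cases k
  exacts [av_bit l 2, av_bit l 3, av_bit l 4]

theorem av_n (k : Fin 3) : av l (2 ^ (5 + k.val)) = l.n k := by
  fin_cases k
  exacts [av_bit l 5, av_bit l 6, av_bit l 7]

theorem av_c (k : Fin 3) : av l (2 ^ (8 + k.val)) = l.c k := by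
  fin_cases k
  exacts [av_bit l 8, av_bit l 9, av_bit l 10]

/-- The action of an element given on the basis. -/
theorem conj_table (d : Data z Q) (g : G) (L : List ℕ) (hl : L.length = 11)
    (hz : g * z * g⁻¹ = av l (L.getD 0 0)) (hy : g * y * g⁻¹ = av l (L.getD 1 0))
    (hM : ∀ k : Fin 3, g * l.M k * g⁻¹ = av l (L.getD (2 + k.val) 0))
    (hn : ∀ k : Fin 3, g * l.n k * g⁻¹ = av l (L.getD (5 + k.val) 0))
    (hc : ∀ k : Fin 3, g * l.c k * g⁻¹ = av l (L.getD (8 + k.val) 0)) (a : ℕ) :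
    g * av l a * g⁻¹ = av l (lmap L a) := by
  refine bprod_map (MulAut.conj g).toMonoidHom (av l) (av_zero l) (av_xor l d) (gens l) L hl
    (fun k => ?_) a
  fin_cases k
  exacts [hz, hy, hM 0, hM 1, hM 2, hn 0, hn 1, hn 2, hc 0, hc 1, hc 2]

theorem el_norm (d : Data z Q) (w v : W) (a b : Bool) :
    S.R.el w v a b ∈ normalizer ((AA l d : Subgroup G) : Set G) := by
  refine norm_of_E l d fun e => ?_
  rintro ⟨k, s, t, rfl⟩
  exact ⟨k, _, _, by rw [S.R.el_conj d, S.R.el_kk d]⟩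

theorem x_norm (d : Data z Q) : S.F.x ∈ normalizer ((AA l d : Subgroup G) : Set G) := by
  refine norm_of_E l d fun e => ?_
  rintro ⟨k, s, t, rfl⟩
  obtain ⟨s', t', e⟩ := x_conj d S.R (lsp k.val) w0 s t
  rw [(add_zero' _).1] at e
  exact ⟨k, s', t', e⟩

theorem pure_norm (d : Data z Q) {κ : Equiv.Perm (Fin 8)} {p : G} (hp : Pure S.R κ p)
    (hκ : ∀ k : Fin 8, ∃ k' : Fin 8, act κ (lsp k.val) = lsp k'.val) :
    p ∈ normalizer ((AA l d : Subgroup G) : Set G) := by
  refine norm_of_E l d fun e => ?_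
  rintro ⟨k, s, t, rfl⟩
  obtain ⟨s', t', e⟩ := S.R.el_conj_D d hp.1 (lsp k.val) w0 s t
  obtain ⟨k', hk'⟩ := hκ k
  rw [hp.actW d, hp.actW d, act_zero, hk'] at e
  exact ⟨k', s', t', e⟩

theorem pwz (d : Data z Q) (e : Bool) : av l (cond e 1 0) = pw z e := by
  cases e <;> simp [av_zero, av_bz]

theorem pwy (e : Bool) : av l (cond e 2 0) = pw y e := by
  cases e <;> simp [av_zero, av_by]

theorem pwyz (d : Data z Q) (e : Bool) : av l (cond e (2 ^^^ 1) 0) = S.R.kk e e := by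
  cases e
  · simp [av_zero, Radical.kk]
  · show av l (2 ^^^ 1) = _
    rw [av_xor l d, av_by, av_bz]; simp [Radical.kk]

theorem M_el (k : Fin 3) : ∃ e, l.M k = S.R.el (ll k) w0 false e := by
  obtain ⟨e, he⟩ := l.M_eq k
  exact ⟨e, by rw [he, Radical.el, S.R.zero, Radical.kk, pw_false, mul_one, one_mul]⟩

theorem n_el (k : Fin 3) : ∃ e, l.n k = S.R.el w0 (ll k) e false := by
  obtain ⟨e, he⟩ := l.n_eq k
  exact ⟨e, by rw [he, Radical.el, S.F.zero, Radical.kk, pw_false, mul_one, one_mul]⟩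

theorem P_M (d : Data z Q) (j k : Fin 3) :
    S.F.m (uu j) * l.M k * (S.F.m (uu j))⁻¹ = l.M k * pw z (decide (j = k)) := by
  obtain ⟨e, he⟩ := M_el l k
  rw [he, S.R.m_eq d, S.R.el_conj d, cy, cz, B_w0, B_w0, B_w0, (uu_B j k).1]
  simp [Radical.kk]

theorem P_n (d : Data z Q) (j k : Fin 3) :
    S.F.m (uu j) * l.n k * (S.F.m (uu j))⁻¹ = l.n k * S.R.kk (decide (j = k)) (decide (j = k)) := by
  obtain ⟨e, he⟩ := n_el l k
  rw [he, S.R.m_eq d, S.R.el_conj d, cy, cz, B_w0, B_w0, B_symm w0, B_w0, (uu_B j k).1]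
  simp

theorem N_M (d : Data z Q) (j k : Fin 3) :
    S.R.n (uu j) * l.M k * (S.R.n (uu j))⁻¹ = l.M k * S.R.kk (decide (j = k)) (decide (j = k)) := by
  obtain ⟨e, he⟩ := M_el l k
  rw [he, S.R.n_eq d, S.R.el_conj d, cy, cz, B_w0, B_w0, B_symm w0, B_w0, (uu_B j k).2]
  simp

theorem N_n (d : Data z Q) (j k : Fin 3) :
    S.R.n (uu j) * l.n k * (S.R.n (uu j))⁻¹ = l.n k * pw y (decide (j = k)) := by
  obtain ⟨e, he⟩ := n_el l k
  rw [he, S.R.n_eq d, S.R.el_conj d, cy, cz, B_w0, B_symm w0, B_w0, B_symm w0, B_w0, (uu_B j k).1]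
  simp [Radical.kk]

theorem gensM_commute (d : Data z Q) (i k : Fin 3) : Commute (l.M k) (l.c i) := by
  fin_cases i <;> fin_cases k <;>
    first
      | exact (gens_inA l d 2).commute d (gens_inA l d 8)
      | exact (gens_inA l d 2).commute d (gens_inA l d 9)
      | exact (gens_inA l d 2).commute d (gens_inA l d 10)
      | exact (gens_inA l d 3).commute d (gens_inA l d 8)
      | exact (gens_inA l d 3).commute d (gens_inA l d 9)
      | exact (gens_inA l d 3).commute d (gens_inA l d 10)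
      | exact (gens_inA l d 4).commute d (gens_inA l d 8)
      | exact (gens_inA l d 4).commute d (gens_inA l d 9)
      | exact (gens_inA l d 4).commute d (gens_inA l d 10)

theorem M_inA (d : Data z Q) (k : Fin 3) : InA S (l.M k) := by
  rw [← av_M l k]
  exact av_inA l d (Nat.pow_lt_pow_right (a := 2) (n := 11) (by norm_num) (by omega))

theorem c_inA (d : Data z Q) (k : Fin 3) : InA S (l.c k) := by
  rw [← av_c l k]
  exact av_inA l d (Nat.pow_lt_pow_right (a := 2) (n := 11) (by norm_num) (by omega))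

theorem n_inA (d : Data z Q) (k : Fin 3) : InA S (l.n k) := by
  rw [← av_n l k]
  exact av_inA l d (Nat.pow_lt_pow_right (a := 2) (n := 11) (by norm_num) (by omega))

theorem c_P_self (d : Data z Q) (i : Fin 3) :
    l.c i * S.F.m (uu i) * (l.c i)⁻¹ = S.F.m (uu i) * z := by
  have hlt : 2 ^ i.val < 8 := Nat.pow_lt_pow_right (a := 2) (n := 3) (by norm_num) i.isLt
  have hne : (⟨2 ^ i.val, hlt⟩ : Fin 8) ≠ 0 := fun e =>
    absurd (congrArg Fin.val e) (Nat.two_pow_pos i.val).ne'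
  obtain ⟨hs, hk, -⟩ := kap_facts _ hne
  obtain ⟨hfix, hB⟩ := uu_self i
  have h1 := (l.c_pure i).lam_spec (uu i)
  rw [hfix, S.lam_kappa d hs (hk.trans (pp_facts.1 i).2.2.symm) (l.c_pure i) hfix,
    show (⟨2 ^ i.val, hlt⟩ : Fin 8) = 2 ^ i.val from Fin.ext (pow_fin i).symm,
    hB, pw_true] at h1
  exact h1

theorem c_P_swap (d : Data z Q) {i j : Fin 3} (hij : j < i) :
    l.c i * S.F.m (uu j) * (l.c i)⁻¹ = l.M (th3 i j) * z * S.F.m (uu j) := by
  obtain ⟨t1, t2, t3, tsym, tpof, tB⟩ := uu_third i j hij.ne'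
  set k := th3 i j
  obtain ⟨e, he⟩ := (l.c_pure i).2.1 (uu j)
  obtain ⟨e₁, hM⟩ := l.M_eq k
  obtain ⟨e₂, hadd⟩ := S.F.m_add (ll k) (uu j)
  obtain ⟨β, hβ⟩ : ∃ β, l.c i * S.F.m (uu j) * (l.c i)⁻¹ = l.M k * pw z β * S.F.m (uu j) := by
    refine ⟨xor (xor e₁ e₂) e, ?_⟩
    rw [he, t1, hM, mul_assoc (S.F.m (ll k)), pw_mul d.hub.sq, mul_assoc (S.F.m (ll k)),
      (pw_commute (d.hub.central _ (S.F.mem (uu j))) _).eq.symm, ← mul_assoc, hadd, mul_assoc,
      pw_mul d.hub.sq]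
    cases e₁ <;> cases e₂ <;> cases e <;> rfl
  have hMP : Commute (l.M k) (S.F.m (uu j)) := by
    have h := P_M l d j k
    rw [show decide (j = k) = false from by
      rw [← (uu_B j k).1, t2], pw_false, mul_one] at h
    exact (mul_inv_eq_iff_eq_mul.mp h : Commute (S.F.m (uu j)) (l.M k)).symm
  have hjP := l.c_P j i hij
  rw [show th3 j i = k from tsym.symm] at hjP
  have czg : ∀ {g : G}, InA S g → Commute g z := fun h => h.commute d ((mem_AA l d).mp (AA_facts l d).2.2.1)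
  have hcz := czg (c_inA l d j)
  have hciz := czg (c_inA l d i)
  have hkM := gensM_commute l d j k
  -- the product of the two
  have hC : l.c j * l.c i * (S.F.m (uu j) * S.F.m (uu i)) * (l.c j * l.c i)⁻¹ =
      S.F.m (uu j) * S.F.m (uu i) * pw z β := by
    have q1 : l.c i * (S.F.m (uu j) * S.F.m (uu i)) * (l.c i)⁻¹ =
        l.M k * pw z β * S.F.m (uu j) * (S.F.m (uu i) * z) := by
      rw [← hβ, ← c_P_self l d i]; group
    have q2 : l.c j * (l.M k * pw z β * S.F.m (uu j) * (S.F.m (uu i) * z)) * (l.c j)⁻¹ =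
        l.M k * pw z β * (S.F.m (uu j) * z) * (l.M k * S.F.m (uu i) * z) := by
      rw [show l.c j * (l.M k * pw z β * S.F.m (uu j) * (S.F.m (uu i) * z)) * (l.c j)⁻¹ =
          l.c j * l.M k * (l.c j)⁻¹ * (l.c j * pw z β * (l.c j)⁻¹) *
            (l.c j * S.F.m (uu j) * (l.c j)⁻¹) *
            (l.c j * S.F.m (uu i) * (l.c j)⁻¹ * (l.c j * z * (l.c j)⁻¹)) by group,
        conj_of_commute hkM.symm, conj_of_commute (pw_commute hcz β), c_P_self l d j, hjP,
        conj_of_commute hcz]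
    have cm : ∀ u, Commute z (S.F.m u) := fun u => (d.hub.central _ (S.F.mem u)).symm
    have czM : Commute (l.M k) z := czg (M_inA l d k)
    rw [show l.c j * l.c i * (S.F.m (uu j) * S.F.m (uu i)) * (l.c j * l.c i)⁻¹ =
      l.c j * (l.c i * (S.F.m (uu j) * S.F.m (uu i)) * (l.c i)⁻¹) * (l.c j)⁻¹ by group, q1, q2]
    have hzz : z * z = 1 := d.hub.sq
    have hMM : l.M k * l.M k = 1 := (M_inA l d k).sq d
    calc l.M k * pw z β * (S.F.m (uu j) * z) * (l.M k * S.F.m (uu i) * z)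
        = l.M k * pw z β * S.F.m (uu j) * (z * (l.M k * S.F.m (uu i))) * z := by group
      _ = l.M k * (pw z β * (S.F.m (uu j) * l.M k * S.F.m (uu i))) * (z * z) := by
          rw [(czM.symm.mul_right (cm (uu i))).eq]; group
      _ = l.M k * (pw z β * (l.M k * (S.F.m (uu j) * S.F.m (uu i)))) := by
          rw [hzz, mul_one, ← hMP.eq]; group
      _ = l.M k * l.M k * (pw z β * (S.F.m (uu j) * S.F.m (uu i))) := by
          rw [← mul_assoc (pw z β), ← (pw_commute czM β).eq]; group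
      _ = _ := by
          rw [hMM, one_mul]
          exact ((pw_commute ((cm (uu j)).mul_right (cm (uu i))).symm β).symm).eq
  have hp := (l.c_pure j).mul d (l.c_pure i)
  obtain ⟨f, hf⟩ := S.F.m_add (uu j) (uu i)
  set C := l.c j * l.c i
  have hCz : Commute C z := hcz.mul_left hciz
  rw [pp_facts.2 j i] at hp
  rw [add_comm' (uu i)] at t3 tB
  have hlt : 2 ^ i.val ^^^ 2 ^ j.val < 8 := Nat.xor_lt_two_pow (n := 3)
    (Nat.pow_lt_pow_right (a := 2) (n := 3) (by norm_num) i.isLt)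
    (Nat.pow_lt_pow_right (a := 2) (n := 3) (by norm_num) j.isLt)
  have hne : (⟨(2 ^ i.val ^^^ 2 ^ j.val) % 8, Nat.mod_lt _ (by decide)⟩ : Fin 8) ≠ 0 := by
    intro e'
    have : (2 ^ i.val ^^^ 2 ^ j.val) % 8 = 0 := congrArg Fin.val e'
    rw [Nat.mod_eq_of_lt hlt] at this
    exact hij.ne' (Fin.ext (Nat.pow_right_injective le_rfl (Nat.eq_of_xor_eq_zero this)))
  obtain ⟨hs, hk, -⟩ := kap_facts _ hne
  have hl := S.lam_kappa d hs (hk.trans ((congrArg pof (Nat.mod_eq_of_lt hlt)).trans tpof.symm)) hp t3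
  rw [tB] at hl
  have h1 := hp.lam_spec (add (uu j) (uu i))
  rw [t3, hl, pw_true] at h1
  have hcomp : S.F.m (uu j) * S.F.m (uu i) * z = S.F.m (uu j) * S.F.m (uu i) * pw z β := by
    rw [← hC, hf, show C * (S.F.m (add (uu j) (uu i)) * pw z f) * C⁻¹ =
      C * S.F.m (add (uu j) (uu i)) * C⁻¹ * (C * pw z f * C⁻¹) by group,
      conj_of_commute (pw_commute hCz f), h1, mul_assoc, mul_assoc,
      (pw_commute (Commute.refl z) f).eq]
  have hb := pw_inj d.hub.ne_one ((show pw z true = z from pw_true z).trans (mul_left_cancel hcomp))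
  rw [hβ, ← hb, pw_true]

/-- Reversing a commutator. -/
theorem flip_conj {G : Type*} [Group G] {c P X : G} (hc : c * c = 1) (hX : X * X = 1)
    (hcX : Commute c X) (h : c * P * c⁻¹ = X * P) : P * c * P⁻¹ = c * X := by
  have h1 : P = X * (c * P * c⁻¹) := by rw [h, ← mul_assoc, hX, one_mul]
  calc P * c * P⁻¹ = X * (c * P * c⁻¹) * c * P⁻¹ := by rw [← h1]
    _ = X * c := by group
    _ = c * X := hcX.symm.eq

theorem P_c (d : Data z Q) (i j : Fin 3) :
    S.F.m (uu j) * l.c i * (S.F.m (uu j))⁻¹ = l.c i * (if i = j then z else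
      l.M (th3 i j) * pw z (decide (j < i))) := by
  have hc2 := (c_inA l d i).sq d
  have hzA : InA S z := (mem_AA l d).mp (AA_facts l d).2.2.1
  rcases lt_trichotomy i j with h | rfl | h
  · rw [if_neg h.ne, decide_eq_false (lt_asymm h), pw_false, mul_one]
    exact flip_conj hc2 ((M_inA l d _).sq d) (gensM_commute l d i _).symm (l.c_P i j h)
  · rw [if_pos rfl]
    exact flip_conj hc2 d.hub.sq ((c_inA l d i).commute d hzA)
      ((c_P_self l d i).trans (d.hub.central _ (S.F.mem _)).eq)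
  · rw [if_neg h.ne', decide_eq_true h, pw_true]
    exact flip_conj hc2
      (by rw [((M_inA l d _).commute d hzA).symm.mul_mul_mul_comm, (M_inA l d _).sq d, d.hub.sq,
        mul_one])
      ((gensM_commute l d i _).symm.mul_right ((c_inA l d i).commute d hzA)) (c_P_swap l d h)

theorem N_c (d : Data z Q) (i j : Fin 3) :
    S.R.n (uu j) * l.c i * (S.R.n (uu j))⁻¹ = l.c i * (if i = j then y else
      l.n (th3 i j) * pw y (decide (j < i))) := by
  have hc2 := (c_inA l d i).sq d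
  have hyA : InA S y := (mem_AA l d).mp ⟨2, by norm_num, av_by l⟩
  by_cases hij : i = j
  · subst hij
    rw [if_pos rfl]
    have hlt : 2 ^ i.val < 8 := Nat.pow_lt_pow_right (a := 2) (n := 3) (by norm_num) i.isLt
    have hne : (⟨2 ^ i.val, hlt⟩ : Fin 8) ≠ 0 := fun e =>
      absurd (congrArg Fin.val e) (Nat.two_pow_pos i.val).ne'
    obtain ⟨hs, hk, -⟩ := kap_facts _ hne
    obtain ⟨hfix, hB⟩ := uu_self i
    have h1 := (l.c_pure i).lamN d hfix
    rw [S.lam_kappa d hs (hk.trans (pp_facts.1 i).2.2.symm) (l.c_pure i) hfix,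
      show (⟨2 ^ i.val, hlt⟩ : Fin 8) = 2 ^ i.val from Fin.ext (pow_fin i).symm,
      hB, pw_true] at h1
    exact flip_conj hc2 F_sq ((c_inA l d i).commute d hyA)
      (h1.trans ((mem_Dzy.mp (S.R.mem (uu i))).2).eq)
  · rw [if_neg hij]
    obtain ⟨t1, t2, -⟩ := uu_third i j hij
    set k := th3 i j
    obtain ⟨μ, hμ⟩ := (l.c_pure i).2.2 (uu j)
    rw [t1] at hμ
    obtain ⟨e, hadd⟩ := S.R.add (ll k) (uu j)
    obtain ⟨e₁, hn⟩ := l.n_eq k
    set α := xor (xor e₁ e) μ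
    have cy' : ∀ v s, Commute (pw y s) (S.R.n v) := fun v s =>
      (pw_commute (mem_Dzy.mp (S.R.mem v)).2 s).symm
    have hcN : l.c i * S.R.n (uu j) * (l.c i)⁻¹ = l.n k * pw y α * S.R.n (uu j) := by
      rw [hμ, hn, mul_assoc (S.R.n (ll k)), pw_mul S.F.sing.2.1, mul_assoc (S.R.n (ll k)),
        (cy' _ _).eq, ← mul_assoc, hadd, mul_assoc, pw_mul S.F.sing.2.1]
      simp only [α]
      cases e₁ <;> cases e <;> cases μ <;> rfl
    have hnA := n_inA l d k
    have hcy : Commute (l.c i) (pw y α) := pw_commute ((c_inA l d i).commute d hyA) α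
    have hX : l.n k * pw y α * (l.n k * pw y α) = 1 := by
      rw [(pw_commute (hnA.commute d hyA) α).symm.mul_mul_mul_comm, hnA.sq d, pw_mul S.F.sing.2.1]
      simp
    have hNc := flip_conj hc2 hX (((c_inA l d i).commute d hnA).mul_right hcy) hcN
    -- the exponent
    obtain ⟨e₂, hxN⟩ := x_n_conj d S.R (uu j)
    have hx1 : S.F.x * (S.R.n (uu j) * l.c i * (S.R.n (uu j))⁻¹) * S.F.x⁻¹ =
        S.R.n (uu j) * (S.F.m (uu j) * l.c i * (S.F.m (uu j))⁻¹) * (S.R.n (uu j))⁻¹ := by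
      have hq := (uu_facts j j).1
      have hnm : S.R.n (uu j) * S.F.m (uu j) = S.F.m (uu j) * S.R.n (uu j) := by
        have := S.R.comm (uu j) (uu j)
        rw [B_self, pw_false, pw_false, mul_one, mul_one] at this
        exact mul_inv_eq_iff_eq_mul.mp this
      have hzc : Commute (S.R.kk false e₂) (l.c i) :=
        (S.R.commute_kk d (l.c_pure i).1 false e₂).symm
      rw [show S.F.x * (S.R.n (uu j) * l.c i * (S.R.n (uu j))⁻¹) * S.F.x⁻¹ =
        S.F.x * S.R.n (uu j) * S.F.x⁻¹ * (S.F.x * l.c i * S.F.x⁻¹) *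
          (S.F.x * S.R.n (uu j) * S.F.x⁻¹)⁻¹ by group, hxN, l.c_x, hq, Radical.el, ← hnm]
      calc S.R.n (uu j) * S.F.m (uu j) * S.R.kk false e₂ * l.c i *
            (S.R.n (uu j) * S.F.m (uu j) * S.R.kk false e₂)⁻¹
          = S.R.n (uu j) * S.F.m (uu j) * (S.R.kk false e₂ * l.c i * (S.R.kk false e₂)⁻¹) *
            (S.R.n (uu j) * S.F.m (uu j))⁻¹ := by group
        _ = _ := by rw [conj_of_commute hzc]; group
    rw [P_c l d i j, if_neg hij, hNc] at hx1
    have hjk : decide (j = k) = false := by rw [← (uu_B j k).1, t2]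
    have hNM := N_M l d j k
    rw [hjk, show S.R.kk false false = 1 by simp [Radical.kk], mul_one] at hNM
    set β := decide (j < i)
    have hNz : Commute (S.R.n (uu j)) (pw z β) := pw_commute (mem_Dzy.mp (S.R.mem _)).1 β
    have hl : S.R.n (uu j) * (l.c i * (l.M k * pw z β)) * (S.R.n (uu j))⁻¹ =
        l.c i * (l.n k * pw y α) * (l.M k * pw z β) := by
      rw [show S.R.n (uu j) * (l.c i * (l.M k * pw z β)) * (S.R.n (uu j))⁻¹ =
        S.R.n (uu j) * l.c i * (S.R.n (uu j))⁻¹ * (S.R.n (uu j) * l.M k * (S.R.n (uu j))⁻¹ *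
          (S.R.n (uu j) * pw z β * (S.R.n (uu j))⁻¹)) by group, hNc, hNM, conj_of_commute hNz]
    have hr : S.F.x * (l.c i * (l.n k * pw y α)) * S.F.x⁻¹ =
        l.c i * (l.n k * l.M k * (pw y α * pw z α)) := by
      have := x_kk d S.R α false
      rw [Bool.xor_false, show S.R.kk α false = pw y α by simp [Radical.kk]] at this
      rw [show S.F.x * (l.c i * (l.n k * pw y α)) * S.F.x⁻¹ = S.F.x * l.c i * S.F.x⁻¹ *
        (S.F.x * l.n k * S.F.x⁻¹ * (S.F.x * pw y α * S.F.x⁻¹)) by group, l.c_x, l.n_x, this]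
      rfl
    rw [hl, hr] at hx1
    have hMy : Commute (pw y α) (l.M k) := (pw_commute ((M_inA l d k).commute d hyA) α).symm
    have h2 : pw z α = pw z β := by
      refine mul_left_cancel (a := l.c i * (l.n k * pw y α) * l.M k) ?_
      rw [mul_assoc _ (l.M k) (pw z β), ← hx1]
      calc l.c i * (l.n k * pw y α) * l.M k * pw z α
          = l.c i * l.n k * (pw y α * l.M k) * pw z α := by group
        _ = _ := by rw [hMy.eq]; group
    rw [hNc, pw_inj d.hub.ne_one h2]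
where
  F_sq : y * y = 1 := S.F.sing.2.1

/-- The seven elements. -/
def genEl (S : Setup z y Q) : Fin 7 → G :=
  ![S.F.x, S.F.m (uu 0), S.F.m (uu 1), S.F.m (uu 2), S.R.n (uu 0), S.R.n (uu 1), S.R.n (uu 2)]

theorem genEl_norm (d : Data z Q) (g : Fin 7) :
    genEl S g ∈ normalizer ((AA l d : Subgroup G) : Set G) := by
  have hm : ∀ w, S.F.m w ∈ normalizer ((AA l d : Subgroup G) : Set G) := fun w => by
    rw [S.R.m_eq d]; exact el_norm l d _ _ _ _
  have hn : ∀ v, S.R.n v ∈ normalizer ((AA l d : Subgroup G) : Set G) := fun v => by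
    rw [S.R.n_eq d]; exact el_norm l d _ _ _ _
  fin_cases g
  exacts [x_norm l d, hm _, hm _, hm _, hn _, hn _, hn _]

theorem conj_x_av (d : Data z Q) (a : ℕ) :
    S.F.x * av l a * S.F.x⁻¹ = av l (lmap (imgs.getD 0 []) a) := by
  obtain ⟨hl, h0, h1, hk⟩ := row_x
  refine conj_table l d _ _ hl ?_ ?_ (fun k => ?_) (fun k => ?_) (fun k => ?_) a
  · rw [h0, av_bz]; exact conj_of_commute (d.hub.central _ S.F.hx)
  · rw [h1, av_xor l d, av_by, av_bz, fl_spec d.hub S.F.hx S.F.sing.1, S.F.x_y, pw_true]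
  · rw [(hk k).1, av_M]
    obtain ⟨e, he⟩ := l.M_eq k
    rw [he]
    exact conj_of_commute ((fl_eq_false.mp (S.F.x_m _)).mul_right
      (pw_commute (d.hub.central _ S.F.hx) e))
  · rw [(hk k).2.1, av_xor l d, av_n, av_M]; exact l.n_x k
  · rw [(hk k).2.2, av_c]; exact l.c_x k

theorem conj_P_av (d : Data z Q) (j : Fin 3) (a : ℕ) :
    S.F.m (uu j) * av l a * (S.F.m (uu j))⁻¹ = av l (lmap (imgs.getD (1 + j.val) []) a) := by
  obtain ⟨hl, h0, h1, hk⟩ := row_P j
  refine conj_table l d _ _ hl ?_ ?_ (fun k => ?_) (fun k => ?_) (fun k => ?_) a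
  · rw [h0, av_bz]; exact conj_of_commute (d.hub.central _ (S.F.mem _))
  · rw [h1, av_by]; exact conj_of_commute (S.F.comm_y _)
  · rw [(hk k).1, av_xor l d, av_M, pwz l d, P_M l d]
  · rw [(hk k).2.1, av_xor l d, av_n, pwyz l d, P_n l d]
  · rw [(hk k).2.2, av_xor l d, av_c, P_c l d]
    split_ifs
    · rw [av_bz]
    · rw [av_xor l d, av_M, pwz l d]

theorem conj_N_av (d : Data z Q) (j : Fin 3) (a : ℕ) :
    S.R.n (uu j) * av l a * (S.R.n (uu j))⁻¹ = av l (lmap (imgs.getD (4 + j.val) []) a) := by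
  obtain ⟨hl, h0, h1, hk⟩ := row_N j
  obtain ⟨hz, hy⟩ := mem_Dzy.mp (S.R.mem (uu j))
  refine conj_table l d _ _ hl ?_ ?_ (fun k => ?_) (fun k => ?_) (fun k => ?_) a
  · rw [h0, av_bz]; exact conj_of_commute hz
  · rw [h1, av_by]; exact conj_of_commute hy
  · rw [(hk k).1, av_xor l d, av_M, pwyz l d, N_M l d]
  · rw [(hk k).2.1, av_xor l d, av_n, pwy l, N_n l d]
  · rw [(hk k).2.2, av_xor l d, av_c, N_c l d]
    split_ifs
    · rw [av_by]
    · rw [av_xor l d, av_n, pwy l]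

theorem conj_av (d : Data z Q) (g : Fin 7) (a : ℕ) :
    genEl S g * av l a * (genEl S g)⁻¹ = av l (gimg g.val a) := by
  fin_cases g
  exacts [conj_x_av l d a, conj_P_av l d 0 a, conj_P_av l d 1 a, conj_P_av l d 2 a,
    conj_N_av l d 0 a, conj_N_av l d 1 a, conj_N_av l d 2 a]

end Cfsg.Agent.ConwayType
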