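import Cfsg.Agent.Lib.ConwayType.Classify

/-!
# The central part of pure elements, and a normalised setup

For `π` conjugate to `p4` by an even `κ` the central part on fixed vectors is `B · (κ rE)`, once the
frame is labelled so that it vanishes at `rE` for `p4`. The twist may be taken to fix the labels.
-/

set_option autoImplicit false
set_option maxHeartbeats 800000
set_option synthInstance.maxSize 2048

namespace Cfsg.Agent.ConwayType

open Subgroup

variable {G : Type*} [Group G] [Finite G] {z y : G} {Q : Subgroup G} {F : Frame z y Q}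
  {R : Radical F}

variable {π κ : Equiv.Perm (Fin 8)} {c k : G}

theorem kk_comm (d : Data z Q) (R : Radical F) {g : G} (hg : g ∈ Dzy z y) (a b : Bool) :
    g * R.kk a b * g⁻¹ = R.kk a b :=
  conj_of_commute (R.commute_kk d hg a b)

/-- A pure element commutes with `x` modulo `z`. -/
theorem Pure.conjx (d : Data z Q) (hc : Pure R π c) :
    ∃ e, F.x * c * F.x⁻¹ = R.kk false e * c := by
  obtain ⟨e', hx⟩ := F.conj_x d hc.1
  rw [hc.vof d, F.qc_eq d, show q w0 = false from rfl] at hx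
  have hx : c * F.x * c⁻¹ = F.x * pw z e' := by simpa [Frame.elem, F.zero] using hx
  have hxi : F.x⁻¹ = F.x := inv_eq_of_mul_eq_one_right F.x_sq
  refine ⟨e', ?_⟩
  calc F.x * c * F.x⁻¹ = F.x * (c * F.x⁻¹ * c⁻¹) * c := by group
    _ = _ := by rw [hxi, hx, ← mul_assoc, F.x_sq, one_mul]; simp [Radical.kk]

theorem x_kk (d : Data z Q) (R : Radical F) (a b : Bool) :
    F.x * R.kk a b * F.x⁻¹ = R.kk a (xor a b) := by
  have hy' : F.x * y * F.x⁻¹ = y * z := by
    rw [fl_spec d.hub F.hx F.sing.1, F.x_y, pw_true]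
  rw [Radical.kk, show F.x * (pw y a * pw z b) * F.x⁻¹ =
    F.x * pw y a * F.x⁻¹ * (F.x * pw z b * F.x⁻¹) by group,
    conj_of_commute (pw_commute (d.hub.central _ F.hx) b)]
  cases a
  · simp [Radical.kk]
  · rw [pw_true, hy', mul_assoc, show z * pw z b = pw z true * pw z b from rfl, pw_mul d.hub.sq]
    rfl

theorem x_m_conj (d : Data z Q) (w : W) : F.x * F.m w * F.x⁻¹ = F.m w :=
  conj_of_commute (fl_eq_false.mp (F.x_m w))

theorem x_n_conj (d : Data z Q) (R : Radical F) (v : W) :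
    ∃ e, F.x * R.n v * F.x⁻¹ = R.el v v (q v) e := by
  obtain ⟨a, b, he⟩ := x_conj d R w0 v false false
  rw [← R.n_eq d, (add_zero' v).2] at he
  have hsq : R.el v v a b * R.el v v a b = R.kk (q v) (q v) := by
    rw [R.el_sq d, B_self, Bool.xor_false]
  have h2 : R.el v v a b * R.el v v a b = F.x * (R.n v * R.n v) * F.x⁻¹ := by rw [← he]; group
  refine ⟨b, ?_⟩
  have ha : a = q v := by
    have h3 := congrArg (fun g => fl g F.x) (R.sq v)
    obtain ⟨e, hx⟩ := F.conj_x d (R.mem v)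
    rw [R.vof, F.qc_eq d] at hx
    have hxi : F.x⁻¹ = F.x := inv_eq_of_mul_eq_one_right F.x_sq
    have h4 : F.x * R.n v * F.x⁻¹ = pw y (q v) * F.m v * pw z e * R.n v := by
      calc F.x * R.n v * F.x⁻¹ = F.x * (R.n v * F.x * (R.n v)⁻¹) * R.n v := by rw [hxi]; group
        _ = _ := by
          rw [hx, Frame.elem, pw_true, ← mul_assoc F.x, ← mul_assoc F.x, ← mul_assoc F.x, F.x_sq,
            one_mul]
    have h5 : pw y (q v) * F.m v * pw z e * R.n v = R.el v v (q v) e := by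
      have c1 : pw y (q v) = R.kk (q v) false := by simp [Radical.kk]
      have c2 : pw z e = R.kk false e := by simp [Radical.kk]
      rw [c1, c2, Radical.el]
      calc R.kk (q v) false * F.m v * R.kk false e * R.n v
          = F.m v * (R.kk (q v) false * R.kk false e * R.n v) := by
            rw [← (R.commute_kk d (Radical.m_mem d v) (q v) false).eq]; group
        _ = _ := by
          rw [R.kk_mul d, Bool.xor_false, Bool.false_xor, ← (R.commute_kk d (R.mem v) _ _).eq]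
          group
    rw [he, h5] at h4
    exact (R.el_inj d h4).2.2.1
  rw [he, ha]

/-- The `y`-part on `n` equals the `z`-part on `m`. -/
theorem Pure.lamN (d : Data z Q) (hc : Pure R π c) {v : W} (hv : act π v = v) :
    c * R.n v * c⁻¹ = R.n v * pw y (lam F π c v) := by
  obtain ⟨μ, hμ⟩ := hc.2.2 v
  rw [hv] at hμ
  obtain ⟨e', hx⟩ := hc.conjx d
  obtain ⟨e, hn⟩ := x_n_conj d R v
  have h1 := hc.lam_spec v
  rw [hv] at h1
  set l := lam F π c v
  have hN : c * R.el v v (q v) e * c⁻¹ = R.el v v (xor (q v) μ) (xor e l) := by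
    have c1 : pw y μ = R.kk μ false := by simp [Radical.kk]
    have c2 : pw z l = R.kk false l := by simp [Radical.kk]
    calc c * R.el v v (q v) e * c⁻¹
        = c * F.m v * c⁻¹ * (c * R.n v * c⁻¹) * (c * R.kk (q v) e * c⁻¹) := by
          rw [Radical.el]; group
      _ = F.m v * (R.kk false l * R.n v) * (R.kk μ false * R.kk (q v) e) := by
          rw [h1, hμ, kk_comm d R hc.1, c1, c2]; group
      _ = F.m v * R.n v * (R.kk false l * (R.kk μ false * R.kk (q v) e)) := by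
          rw [← (R.commute_kk d (R.mem v) false l).eq]; group
      _ = _ := by
          rw [R.kk_mul d, R.kk_mul d, Radical.el, Bool.false_xor, Bool.false_xor, Bool.xor_comm μ,
            Bool.xor_comm l]
  have h2 : F.x * (c * R.n v * c⁻¹) * F.x⁻¹ = R.el v v (xor (q v) μ) (xor e l) := by
    have hcK : ∀ g ∈ Dzy z y, R.kk false e' * g * (R.kk false e')⁻¹ = g := fun g hg =>
      conj_of_commute (R.commute_kk d hg _ _).symm
    calc F.x * (c * R.n v * c⁻¹) * F.x⁻¹
        = F.x * c * F.x⁻¹ * (F.x * R.n v * F.x⁻¹) * (F.x * c * F.x⁻¹)⁻¹ := by group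
      _ = R.kk false e' * (c * R.el v v (q v) e * c⁻¹) * (R.kk false e')⁻¹ := by rw [hx, hn]; group
      _ = _ := by rw [hN, hcK _ (R.el_mem d _ _ _ _)]
  rw [hμ, show pw y μ = R.kk μ false by simp [Radical.kk],
    show F.x * (R.n v * R.kk μ false) * F.x⁻¹ =
      F.x * R.n v * F.x⁻¹ * (F.x * R.kk μ false * F.x⁻¹) by group, hn, x_kk d, R.el_kk d,
    Bool.xor_false] at h2
  obtain ⟨-, -, -, h3⟩ := R.el_inj d h2
  rw [hμ]
  revert h3; cases μ <;> cases l <;> simp

/-- The central part under conjugation by a pure element. -/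
theorem Pure.lam_conj (d : Data z Q) (T : Twist R) (hc : Pure R π c) (hk : Pure R κ k)
    (hπ : π * π = 1) {w : W} (hw : act π w = w) {c' : G} (hc' : Pure R (κ * π * κ⁻¹) c') :
    lam F (κ * π * κ⁻¹) c' (act κ w) = lam F π c w := by
  have hp : Pure R (κ * π * κ⁻¹) (k * c * k⁻¹) := (hk.mul d hc).mul d (hk.inv d)
  have h2 : κ * π * κ⁻¹ * (κ * π * κ⁻¹) = 1 := by
    rw [show κ * π * κ⁻¹ * (κ * π * κ⁻¹) = κ * (π * π) * κ⁻¹ by group, hπ]; group
  rw [hc'.lam_indep d T hp h2]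
  refine hp.lam_eq d ?_
  have h1 := hk.lam_spec w
  have hc1 := hc.lam_spec w
  rw [hw] at hc1
  obtain ⟨hkz, -⟩ := mem_Dzy.mp hk.1
  have hkc : Commute (k * c * k⁻¹) z :=
    (hkz.mul_left (mem_Dzy.mp hc.1).1).mul_left hkz.inv_left
  have hfix : act (κ * π * κ⁻¹) (act κ w) = act κ w := by
    rw [← act_mul, inv_mul_cancel_right, act_mul, hw]
  have hm : F.m (act κ w) = k * F.m w * k⁻¹ * pw z (lam F κ k w) := by
    rw [h1, mul_assoc, pw_mul d.hub.sq, Bool.xor_self, pw_false, mul_one]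
  rw [hfix]
  calc k * c * k⁻¹ * F.m (act κ w) * (k * c * k⁻¹)⁻¹
      = k * (c * F.m w * c⁻¹) * k⁻¹ * (k * c * k⁻¹ * pw z (lam F κ k w) * (k * c * k⁻¹)⁻¹) := by
        rw [hm]; group
    _ = k * F.m w * k⁻¹ * (pw z (lam F π c w) * pw z (lam F κ k w)) := by
        rw [hc1, conj_of_commute (pw_commute hkc _),
          show k * (F.m w * pw z (lam F π c w)) * k⁻¹ =
            k * F.m w * k⁻¹ * (k * pw z (lam F π c w) * k⁻¹) by group,
          conj_of_commute (pw_commute hkz _)]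
        group
    _ = _ := by rw [hm, mul_assoc (k * F.m w * k⁻¹), pw_mul d.hub.sq, pw_mul d.hub.sq, Bool.xor_comm]

/-- The central part under the twist. -/
theorem Twist.lam_eq (d : Data z Q) (T : Twist R) (hc : Pure R π c) {v : W} (hv : act π v = v) :
    lam F (T.ρ * π * T.ρ⁻¹) (T.h * c * T.h⁻¹) (act T.ρ v) = lam F π c v := by
  have hp := T.conj_pure d hc
  refine hp.lam_eq d ?_
  have hfix : act (T.ρ * π * T.ρ⁻¹) (act T.ρ v) = act T.ρ v := by
    rw [← act_mul, inv_mul_cancel_right, act_mul, hv]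
  obtain ⟨b, hb⟩ := T.h_n v
  set l := lam F π c v
  have hm : F.m (act T.ρ v) = T.h * R.n v * T.h⁻¹ * pw z b := by
    rw [hb, mul_assoc, pw_mul d.hub.sq, Bool.xor_self, pw_false, mul_one]
  rw [hfix]
  calc T.h * c * T.h⁻¹ * F.m (act T.ρ v) * (T.h * c * T.h⁻¹)⁻¹
      = T.h * (c * R.n v * c⁻¹) * T.h⁻¹ * (T.h * c * T.h⁻¹ * pw z b * (T.h * c * T.h⁻¹)⁻¹) := by
        rw [hm]; group
    _ = T.h * R.n v * T.h⁻¹ * (T.h * pw y l * T.h⁻¹) * pw z b := by
        rw [hc.lamN d hv, conj_of_commute (pw_commute (mem_Dzy.mp hp.1).1 b)]; simp only [l]; group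
    _ = _ := by
        rw [pw_conj T.h_y, hm, mul_assoc (T.h * R.n v * T.h⁻¹),
          mul_assoc (T.h * R.n v * T.h⁻¹), pw_mul d.hub.sq, pw_mul d.hub.sq, Bool.xor_comm]

/-! ### Relabelling by an odd permutation -/

theorem act_back (σ : Equiv.Perm (Fin 8)) (w : W) : act σ⁻¹ (act σ w) = w := by
  rw [← act_mul, inv_mul_cancel, act_one]

theorem act_forth (σ : Equiv.Perm (Fin 8)) (w : W) : act σ (act σ⁻¹ w) = w := by
  rw [← act_mul, mul_inv_cancel, act_one]

/-- The frame with `W` relabelled. -/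
def Frame.relabel (F : Frame z y Q) (d : Data z Q) (σ : Equiv.Perm (Fin 8)) : Frame z y Q where
  c := w0
  hc := Or.inl rfl
  m w := F.m (act σ w)
  x := F.x
  sing := F.sing
  mem w := F.mem _
  zero := by rw [act_zero, F.zero]
  comm_y w := F.comm_y _
  hx := F.hx
  x_sq := F.x_sq
  x_y := F.x_y
  x_m w := F.x_m _
  m_m u v := by rw [F.m_m, B_act]
  m_sq u := by rw [F.m_sq, F.qc_eq d, q_act, qc_zero]
  m_add u v := by rw [act_add]; exact F.m_add _ _

theorem relabel_wof (F : Frame z y Q) (d : Data z Q) (σ : Equiv.Perm (Fin 8)) {p : G} (hp : p ∈ Q) :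
    (F.relabel d σ).wof p = act σ⁻¹ (F.wof p) := by
  obtain ⟨e, he⟩ := F.exists_elem d hp
  have h1 : p = (F.relabel d σ).elem (fl p y) (fl p F.x) (act σ⁻¹ (F.wof p)) e := by
    show p = pw F.x _ * pw y _ * F.m (act σ (act σ⁻¹ (F.wof p))) * pw z e
    rw [act_forth]; exact he
  conv_lhs => rw [h1]
  exact (F.relabel d σ).wof_elem d.hub _ _ _ _

theorem relabel_vof (F : Frame z y Q) (d : Data z Q) (σ : Equiv.Perm (Fin 8)) {k : G}
    (hk : k ∈ Dzy z y) : (F.relabel d σ).vof k = act σ⁻¹ (F.vof k) :=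
  relabel_wof F d σ (d.hub.normalizes k (mem_Dzy.mp hk).1 _ F.hx)

theorem relabel_actW (F : Frame z y Q) (d : Data z Q) (σ : Equiv.Perm (Fin 8)) {k : G}
    (hk : k ∈ Dzy z y) (w : W) :
    (F.relabel d σ).actW k w = act σ⁻¹ (F.actW k (act σ w)) :=
  relabel_wof F d σ (d.hub.normalizes k (mem_Dzy.mp hk).1 _ (F.mem _))

/-- The radical with `W` relabelled. -/
def Radical.relabel (R : Radical F) (d : Data z Q) (σ : Equiv.Perm (Fin 8)) :
    Radical (F.relabel d σ) where
  n v := R.n (ConwayType.act σ v)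
  zero := by rw [act_zero, R.zero]
  mem v := R.mem _
  act v w := by rw [relabel_actW F d σ (R.mem _), R.act, act_back]
  vof v := by rw [relabel_vof F d σ (R.mem _), R.vof, act_back]
  comm v w := by
    show R.n (ConwayType.act σ v) * F.m (ConwayType.act σ w) * (R.n (ConwayType.act σ v))⁻¹ = _
    rw [R.comm, B_act]; rfl
  sq v := by rw [R.sq, q_act]
  add u v := by rw [act_add]; exact R.add _ _
  swap u v := by rw [R.swap, B_act]
  gen k hk hk' := by
    obtain ⟨v, w, a, b, e⟩ := R.gen k hk fun w => by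
      have := congrArg (ConwayType.act σ) (hk' (ConwayType.act σ⁻¹ w))
      rwa [relabel_actW F d σ hk, act_forth, act_forth] at this
    refine ⟨ConwayType.act σ⁻¹ v, ConwayType.act σ⁻¹ w, a, b, ?_⟩
    show k = F.m (ConwayType.act σ (ConwayType.act σ⁻¹ w)) * R.n (ConwayType.act σ (ConwayType.act σ⁻¹ v)) * pw y a * pw z b
    rw [act_forth, act_forth]; exact e
  conj c hc v := by
    obtain ⟨a, b, e⟩ := R.conj c hc (ConwayType.act σ v)
    refine ⟨a, b, ?_⟩
    rw [relabel_actW F d σ hc, act_forth]; exact e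
  sing v hv hq := R.sing _ (fun e => hv (by rw [← act_back σ v, e, act_zero])) (by rw [q_act]; exact hq)
  h := R.h
  h_z := R.h_z
  h_y := R.h_y
  h_m w := by
    obtain ⟨v, a, b, e⟩ := R.h_m (ConwayType.act σ w)
    refine ⟨ConwayType.act σ⁻¹ v, a, b, ?_⟩
    rw [act_forth]; exact e
  h_n v := by
    obtain ⟨w, a, b, e⟩ := R.h_n (ConwayType.act σ v)
    refine ⟨ConwayType.act σ⁻¹ w, a, b, ?_⟩
    show _ = F.m (ConwayType.act σ (ConwayType.act σ⁻¹ w)) * _ * _
    rw [act_forth]; exact e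

theorem Pure.relabel (d : Data z Q) (hc : Pure R π c) (σ : Equiv.Perm (Fin 8)) :
    Pure (R.relabel d σ) (σ⁻¹ * π * σ) c := by
  have e : ∀ w, act σ (act (σ⁻¹ * π * σ) w) = act π (act σ w) := fun w => by
    rw [← act_mul, ← act_mul]; congr 1; group
  refine ⟨hc.1, fun w => ?_, fun v => ?_⟩
  · show ∃ s, c * F.m (act σ w) * c⁻¹ = F.m (act σ (act (σ⁻¹ * π * σ) w)) * pw z s
    rw [e]; exact hc.2.1 _
  · show ∃ s, c * R.n (act σ v) * c⁻¹ = R.n (act σ (act (σ⁻¹ * π * σ) v)) * pw y s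
    rw [e]; exact hc.2.2 _

theorem lam_relabel (d : Data z Q) (σ π : Equiv.Perm (Fin 8)) (c : G) (w : W) :
    lam (F.relabel d σ) (σ⁻¹ * π * σ) c w = lam F π c (act σ w) := by
  have e : act σ (act (σ⁻¹ * π * σ) w) = act π (act σ w) := by
    rw [← act_mul, ← act_mul]; congr 1; group
  unfold lam
  rw [decide_eq_decide]
  show c * F.m (act σ w) * c⁻¹ ≠ F.m (act σ (act (σ⁻¹ * π * σ) w)) ↔ _
  rw [e]

/-! ### The setup -/

/-- Frame, radical and twist, normalised. -/
structure Setup (z y : G) (Q : Subgroup G) where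
  F : Frame z y Q
  R : Radical F
  T : Twist R
  hρ : T.ρ = 1
  hE : ∀ s, Pure R p4 s → lam F p4 s rE = false

/-- `rE + rN`. -/
def rE' : W := (false, true, true, false, true, false)

theorem swap01_facts :
    act (Equiv.swap 0 1) rE = rE' ∧ (Equiv.swap (0 : Fin 8) 1)⁻¹ * p4 * Equiv.swap 0 1 = p4 ∧
      Equiv.swap (0 : Fin 8) 1 * p4 * (Equiv.swap (0 : Fin 8) 1)⁻¹ = p4 ∧ add rE rN = rE' ∧
      Equiv.Perm.sign (Equiv.swap (0 : Fin 8) 1) = -1 ∧ Equiv.Perm.sign p4 = 1 := by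
  decide +kernel

theorem exists_setup (d : Data z Q) {y g : G} (hy : Sing z Q y) (hg : g * z * g⁻¹ = y) :
    Nonempty (Setup z y Q) := by
  obtain ⟨s1, s2, s3, s4, s5, s6⟩ := swap01_facts
  set σ := Equiv.swap (0 : Fin 8) 1
  obtain ⟨F, R, T, hE⟩ : ∃ (F : Frame z y Q) (R : Radical F) (_ : Twist R),
      ∀ s, Pure R p4 s → lam F p4 s rE = false := by
    obtain ⟨F⟩ := exists_frame d hy
    obtain ⟨R⟩ := exists_radical F d hg
    obtain ⟨T⟩ := exists_twist d R
    obtain ⟨c, hc⟩ := exists_pure_of_even d R s6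
    cases hl : lam F p4 c rE
    · exact ⟨F, R, T, fun s hs => (hs.lam_indep d T hc p4_facts.1 rE).trans hl⟩
    · obtain ⟨T'⟩ := exists_twist d (R.relabel d σ)
      refine ⟨_, R.relabel d σ, T', fun s hs => ?_⟩
      have hc' := hc.relabel d σ
      rw [s2] at hc'
      rw [hs.lam_indep d T' hc' p4_facts.1]
      have := lam_relabel (F := F) d σ p4 c rE
      rw [s2, s1, ← s4, hc.lam_add d p4_facts.2.2.1 p4_facts.2.1, hl, lam_p4 d T hc] at this
      exact this
  have hρ : Equiv.Perm.sign T.ρ = 1 := by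
    rcases Int.units_eq_one_or (Equiv.Perm.sign T.ρ) with h | h
    · exact h
    exfalso
    obtain ⟨c, hc⟩ := exists_pure_of_even d R s6
    have hp := T.conj_pure d hc
    set κ := σ * T.ρ⁻¹
    have hκ : Equiv.Perm.sign κ = 1 := by rw [map_mul, map_inv, h, s5]; rfl
    obtain ⟨k, hk⟩ := exists_pure_of_even d R hκ
    have hπ : κ * (T.ρ * p4 * T.ρ⁻¹) * κ⁻¹ = p4 := by
      rw [show κ * (T.ρ * p4 * T.ρ⁻¹) * κ⁻¹ = σ * p4 * σ⁻¹ by simp only [κ]; group, s3]
    have hsq : T.ρ * p4 * T.ρ⁻¹ * (T.ρ * p4 * T.ρ⁻¹) = 1 := by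
      rw [show T.ρ * p4 * T.ρ⁻¹ * (T.ρ * p4 * T.ρ⁻¹) = T.ρ * (p4 * p4) * T.ρ⁻¹ by group,
        p4_facts.1]; group
    have hfix : act (T.ρ * p4 * T.ρ⁻¹) (act T.ρ rE) = act T.ρ rE := by
      rw [← act_mul, inv_mul_cancel_right, act_mul, p4_facts.2.2.1]
    have key : ∀ {π' : Equiv.Perm (Fin 8)} {c' : G}, Pure R π' c' →
        π' = κ * (T.ρ * p4 * T.ρ⁻¹) * κ⁻¹ →
        lam F π' c' (act κ (act T.ρ rE)) = lam F (T.ρ * p4 * T.ρ⁻¹) (T.h * c * T.h⁻¹) (act T.ρ rE) := by
      rintro π' c' hc' rfl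
      exact hp.lam_conj d T hk hsq hfix hc'
    have h1 := key hc hπ.symm
    rw [T.lam_eq d hc p4_facts.2.2.1, hE c hc,
      show act κ (act T.ρ rE) = rE' by rw [← act_mul, inv_mul_cancel_right, s1],
      ← s4, hc.lam_add d p4_facts.2.2.1 p4_facts.2.1, hE c hc, lam_p4 d T hc] at h1
    exact Bool.noConfusion h1
  obtain ⟨k, hk⟩ := exists_pure_of_even d R (π := T.ρ⁻¹) (by rw [map_inv, hρ, inv_one])
  obtain ⟨hkz, hky⟩ := mem_Dzy.mp hk.1
  refine ⟨{ F := F, R := R, hE := hE, hρ := rfl,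
            T := { h := k * T.h, ρ := 1, h_z := ?_, h_y := ?_, h_m := fun w => ?_, h_n := fun v => ?_ } }⟩
  · rw [show k * T.h * z * (k * T.h)⁻¹ = k * (T.h * z * T.h⁻¹) * k⁻¹ by group, T.h_z,
      conj_of_commute hky]
  · rw [show k * T.h * y * (k * T.h)⁻¹ = k * (T.h * y * T.h⁻¹) * k⁻¹ by group, T.h_y,
      conj_of_commute hkz]
  · obtain ⟨a, ha⟩ := T.h_m w
    obtain ⟨e, he⟩ := hk.2.2 (act T.ρ w)
    refine ⟨xor e a, ?_⟩
    rw [show k * T.h * F.m w * (k * T.h)⁻¹ = k * (T.h * F.m w * T.h⁻¹) * k⁻¹ by group, ha,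
      show k * (R.n (act T.ρ w) * pw y a) * k⁻¹ =
        k * R.n (act T.ρ w) * k⁻¹ * (k * pw y a * k⁻¹) by group,
      he, conj_of_commute (pw_commute hky a), act_back, act_one, mul_assoc, pw_mul F.sing.2.1]
  · obtain ⟨b, hb⟩ := T.h_n v
    obtain ⟨e, he⟩ := hk.2.1 (act T.ρ v)
    refine ⟨xor e b, ?_⟩
    rw [show k * T.h * R.n v * (k * T.h)⁻¹ = k * (T.h * R.n v * T.h⁻¹) * k⁻¹ by group, hb,
      show k * (F.m (act T.ρ v) * pw z b) * k⁻¹ =
        k * F.m (act T.ρ v) * k⁻¹ * (k * pw z b * k⁻¹) by group,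
      he, conj_of_commute (pw_commute hkz b), act_back, act_one, mul_assoc, pw_mul d.hub.sq]

/-- The central part over a conjugate of `p4`. -/
theorem Setup.lam_kappa (S : Setup z y Q) (d : Data z Q) {π κ : Equiv.Perm (Fin 8)}
    (hκ : Equiv.Perm.sign κ = 1) (e : κ * p4 * κ⁻¹ = π) {c : G} (hc : Pure S.R π c) {w : W}
    (hw : act π w = w) : lam S.F π c w = B w (act κ rE) := by
  subst e
  obtain ⟨k, hk⟩ := exists_pure_of_even d S.R hκ
  obtain ⟨s, hs⟩ := exists_pure_of_even d S.R swap01_facts.2.2.2.2.2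
  have hu : act p4 (act κ⁻¹ w) = act κ⁻¹ w := by
    conv_rhs => rw [← hw]
    rw [← act_mul, ← act_mul]; congr 1; group
  conv_lhs => rw [← act_forth κ w]
  rw [hs.lam_conj d S.T hk p4_facts.1 hu hc, lam_p4_eq d S.T hs hu, S.hE s hs, Bool.false_and,
    Bool.xor_false]
  conv_rhs => rw [← act_forth κ w, B_act]

end Cfsg.Agent.ConwayType
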