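import Cfsg.Agent.Lib.ConwayType.BigClasses
import Cfsg.Agent.Lib.Mathieu.Groups

/-!
# The normaliser of `2^11` modulo `2^11` is `M₂₄`

The normaliser has at least `759 · 30 · 42 · 32 · 2^14` elements; modulo `2^11` it acts faithfully and
linearly on `2^11` preserving the class of `z`, hence embeds in `M₂₄`, whose order is that bound.
-/

set_option autoImplicit false
set_option maxHeartbeats 1000000
set_option synthInstance.maxSize 4096
set_option maxRecDepth 100000

namespace Cfsg.Agent.ConwayType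

open Subgroup

/-- Permutations fixing `rS'`, `rS` and `L`, up to translations. -/
def fixPair : Fin 4 → Equiv.Perm (Fin 8) :=
  ![1, Equiv.swap 4 5 * Equiv.swap 6 7, Equiv.swap 2 3 * Equiv.swap 6 7,
    Equiv.swap 2 3 * Equiv.swap 4 5]

theorem fixPair_facts : ∀ s : Fin 8 × Fin 4,
    Equiv.Perm.sign (pof s.1.val * fixPair s.2) = 1 ∧
    act (pof s.1.val * fixPair s.2) rS' = rS' ∧ act (pof s.1.val * fixPair s.2) rS = rS ∧
    ∀ k : Fin 8, ∃ k' : Fin 8, act (pof s.1.val * fixPair s.2) (lsp k.val) = lsp k'.val := by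
  decide +kernel
theorem fixPair_inj : ∀ s s' : Fin 8 × Fin 4,
    pof s.1.val * fixPair s.2 = pof s'.1.val * fixPair s'.2 → s = s' := by decide +kernel
theorem count_S : (Finset.univ.filter fun a : Fin 2048 => a.val ≠ 0 ∧ inSN a.val = true).card = 759 := by
  decide +kernel
theorem count_E : (Finset.univ.filter fun a : Fin 2048 =>
    a.val ≠ 0 ∧ a.val ≠ 1 ∧ cI a.val = 0 ∧ vI a.val = 0).card = 30 := by decide +kernel
theorem count_pairs : (Finset.univ.filter fun k : Fin 8 × Fin 8 =>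
    k.1 ≠ 0 ∧ k.2 ≠ 0 ∧ k.1 ≠ k.2).card = 42 := by decide +kernel

variable {G : Type*} [Group G] [Finite G] {z y : G} {Q : Subgroup G} {S : Setup z y Q}
  (l : Lifts S) (d : Data z Q)

/-- The normaliser. -/
abbrev NN : Subgroup G := normalizer ((AA l d : Subgroup G) : Set G)

theorem card_NN_le : 501397585920 ≤ Nat.card (NN l d) := by
  classical
  let XS := {a : Fin 2048 // a.val ≠ 0 ∧ inSN a.val = true}
  let XE := {a : Fin 2048 // a.val ≠ 0 ∧ a.val ≠ 1 ∧ cI a.val = 0 ∧ vI a.val = 0}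
  let XP := {k : Fin 8 × Fin 8 // k.1 ≠ 0 ∧ k.2 ≠ 0 ∧ k.1 ≠ k.2}
  have hn : ∀ a : XS, ∃ n ∈ NN l d, n * z * n⁻¹ = av l a.1.val := fun a => by
    have h := classes l d a.1.isLt a.2.1
    rwa [a.2.2, cond_true] at h
  choose n hnN hn' using hn
  have hc : ∀ t : XE, ∃ c ∈ NN l d, Commute c z ∧ c * y * c⁻¹ = av l t.1.val := by
    rintro ⟨⟨t, ht⟩, h0, h1, hcI, hvI⟩
    obtain ⟨s, u, p, hp, e⟩ := av_form l d ht
    rw [show cI t = 0 from hcI, zero_facts.2] at hp
    obtain ⟨s', u', rfl⟩ := hp.eq_kk d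
    rw [S.R.el_kk d, show vI t = 0 from hvI, zero_facts.1] at e
    have hE : InE S (av l t) := ⟨⟨_, wI_lt t⟩, _, _, e⟩
    exact trans_E l d hE ⟨e ▸ E_sub_Q ⟨_, wI_lt t⟩ _ _ d, (inE_inA d hE).sq d,
      fun e' => h0 (av_eq_one l d ht e'),
      fun e' => h1 (av_inj l d ht (by norm_num) (e'.trans (av_bz l).symm))⟩
  choose c hcN hcz hc' using hc
  have hp : ∀ k : XP, ∃ (κ : Equiv.Perm (Fin 8)) (p : G), Pure S.R κ p ∧ p ∈ NN l d ∧
      act κ rS' = lsp k.1.1.val ∧ act κ rS = lsp k.1.2.val := fun k =>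
    pair_move l d k.2.1 k.2.2.1 k.2.2.2
  choose κ p hpP hpN hw hv using hp
  have hq : ∀ s : Fin 8 × Fin 4, ∃ q, Pure S.R (pof s.1.val * fixPair s.2) q ∧ q ∈ NN l d := fun s => by
    obtain ⟨q, hq⟩ := exists_pure_of_even d S.R (fixPair_facts s).1
    exact ⟨q, hq, pure_norm l d hq (fixPair_facts s).2.2.2⟩
  choose q hqP hqN using hq
  let f : XS × XE × XP × (Fin 8 × Fin 4) × (W × W × Bool × Bool) → NN l d := fun x =>
    ⟨n x.1 * (c x.2.1 * (S.R.el x.2.2.2.2.1 x.2.2.2.2.2.1 x.2.2.2.2.2.2.1 x.2.2.2.2.2.2.2 *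
        (p x.2.2.1 * q x.2.2.2.1))),
      mul_mem (hnN _) (mul_mem (hcN _) (mul_mem (el_norm l d _ _ _ _)
        (mul_mem (hpN _) (hqN _))))⟩
  have key : ∀ (k : XP) (s : Fin 8 × Fin 4) (w v : W) (a b : Bool),
      S.R.el w v a b * (p k * q s) ∈ Dzy z y ∧
      ∀ u, S.F.actW (S.R.el w v a b * (p k * q s)) u =
        act (κ k * (pof s.1.val * fixPair s.2)) u := by
    intro k s w v a b
    have hpq := (hpP k).mul d (hqP s)
    exact ⟨mul_mem (S.R.el_mem d _ _ _ _) hpq.1, fun u => by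
      rw [S.F.actW_mul d (S.R.el_mem d _ _ _ _) hpq.1, S.R.el_act d, hpq.actW d]⟩
  have hinj : Function.Injective f := by
    rintro ⟨a, t, k, s, w, v, i, j⟩ ⟨a', t', k', s', w', v', i', j'⟩ h
    have h : n a * (c t * (S.R.el w v i j * (p k * q s))) =
        n a' * (c t' * (S.R.el w' v' i' j' * (p k' * q s'))) := congrArg Subtype.val h
    set r := S.R.el w v i j * (p k * q s)
    set r' := S.R.el w' v' i' j' * (p k' * q s')
    obtain ⟨hr, hract⟩ := key k s w v i j
    obtain ⟨hr', hract'⟩ := key k' s' w' v' i' j'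
    have imz : ∀ a t r, r ∈ Dzy z y → n a * (c t * r) * z * (n a * (c t * r))⁻¹ = av l a.1.val := by
      intro a t r hr
      rw [show n a * (c t * r) * z * (n a * (c t * r))⁻¹ =
        n a * ((c t * r) * z * (c t * r)⁻¹) * (n a)⁻¹ by group,
        conj_of_commute ((hcz t).mul_left (mem_Dzy.mp hr).1), hn']
    have ea : a = a' := Subtype.ext (Fin.ext (av_inj l d a.1.isLt a'.1.isLt
      ((imz a t r hr).symm.trans ((by rw [h] : _ = _).trans (imz a' t' r' hr')))))
    subst ea
    have h1 := mul_left_cancel h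
    have imy : ∀ t r, r ∈ Dzy z y → c t * r * y * (c t * r)⁻¹ = av l t.1.val := by
      intro t r hr
      rw [show c t * r * y * (c t * r)⁻¹ = c t * (r * y * r⁻¹) * (c t)⁻¹ by group,
        conj_of_commute (mem_Dzy.mp hr).2, hc']
    have et : t = t' := Subtype.ext (Fin.ext (av_inj l d t.1.isLt t'.1.isLt
      ((imy t r hr).symm.trans ((by rw [h1] : _ = _).trans (imy t' r' hr')))))
    subst et
    have h2 : r = r' := mul_left_cancel h1
    have hact : ∀ u, act (κ k * (pof s.1.val * fixPair s.2)) u =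
        act (κ k' * (pof s'.1.val * fixPair s'.2)) u := fun u =>
      ((hract u).symm.trans (congrArg (fun g => S.F.actW g u) h2)).trans (hract' u)
    obtain ⟨-, f1, f2, -⟩ := fixPair_facts s
    obtain ⟨-, f1', f2', -⟩ := fixPair_facts s'
    have ek : k = k' := by
      have e1 := hact rS'
      have e2 := hact rS
      rw [act_mul (κ k), act_mul (κ k'), f1, f1', hw, hw] at e1
      rw [act_mul (κ k), act_mul (κ k'), f2, f2', hv, hv] at e2
      exact Subtype.ext (Prod.ext (lsp_inj _ _ e1) (lsp_inj _ _ e2))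
    subst ek
    have es : s = s' := fixPair_inj _ _ (mul_left_cancel (act_inj hact))
    subst es
    obtain ⟨r1, r2, r3, r4⟩ := S.R.el_inj d (mul_right_cancel h2)
    subst r1 r2 r3 r4
    rfl
  have := Nat.card_le_card_of_injective f hinj
  rw [Nat.card_prod, Nat.card_prod, Nat.card_prod, Nat.card_prod, Nat.card_eq_fintype_card (α := XS),
    Nat.card_eq_fintype_card (α := XE), Nat.card_eq_fintype_card (α := XP),
    Fintype.card_subtype, Fintype.card_subtype, Fintype.card_subtype, count_S, count_E,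
    count_pairs] at this
  simpa using this

theorem conj_mem_AA (n : NN l d) {g : G} (hg : g ∈ AA l d) :
    (n : G) * g * (n : G)⁻¹ ∈ AA l d := (mem_normalizer_iff.mp n.2 g).mp hg

theorem AA_le : AA l d ≤ NN l d := le_normalizer

/-- The action of the normaliser on the coordinates. -/
theorem exists_action : ∃ φ : NN l d →* Equiv.Perm (Fin 2048),
    (∀ n a, av l (φ n a).val = (n : G) * av l a.val * (n : G)⁻¹) ∧
      φ.ker = (AA l d).subgroupOf (NN l d) := by
  have h : ∀ (n : NN l d) (a : Fin 2048), ∃ b : Fin 2048,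
      av l b.val = (n : G) * av l a.val * (n : G)⁻¹ := fun n a => by
    obtain ⟨b, hb, e⟩ := conj_mem_AA l d n ⟨a.val, a.isLt, rfl⟩
    exact ⟨⟨b, hb⟩, e⟩
  choose f hf using h
  have huniq : ∀ n a b, av l b.val = (n : NN l d).1 * av l (a : Fin 2048).val * (n : G)⁻¹ → f n a = b :=
    fun n a b e => Fin.ext (av_inj l d (f n a).isLt b.isLt ((hf n a).trans e.symm))
  let ψ : NN l d → Equiv.Perm (Fin 2048) := fun n =>
    { toFun := f n
      invFun := f n⁻¹
      left_inv := fun a => huniq _ _ _ (by rw [hf, Subgroup.coe_inv]; group)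
      right_inv := fun a => huniq _ _ _ (by rw [hf, Subgroup.coe_inv]; group) }
  refine ⟨MonoidHom.mk' ψ fun n m => Equiv.ext fun a => huniq _ _ _ (by
    rw [Equiv.Perm.mul_apply]
    show av l (f n (f m a)).val = _
    rw [hf, hf, Subgroup.coe_mul]; group), hf, ?_⟩
  ext n
  rw [MonoidHom.mem_ker, mem_subgroupOf]
  constructor
  · intro h
    obtain ⟨-, -, -, hcent⟩ := AA_facts l d
    refine hcent _ fun g hg => ?_
    obtain ⟨a, ha, rfl⟩ := hg
    refine mul_inv_eq_iff_eq_mul.mp ?_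
    have := congrArg (fun σ : Equiv.Perm (Fin 2048) => σ ⟨a, ha⟩) h
    change f n ⟨a, ha⟩ = ⟨a, ha⟩ at this
    rw [← hf n ⟨a, ha⟩, this]
  · intro h
    refine Equiv.ext fun a => huniq _ _ _ ?_
    obtain ⟨-, hcomm, -⟩ := AA_facts l d
    rw [conj_of_commute (hcomm _ h _ ⟨a.val, a.isLt, rfl⟩), Equiv.Perm.one_apply]

theorem fin_xor_val (a b : Fin 2048) : (a ^^^ b).val = a.val ^^^ b.val := by
  rw [Fin.xor_val, Nat.mod_eq_of_lt (Nat.xor_lt_two_pow (n := 11) a.isLt b.isLt)]

/-- The normaliser modulo `2^11` is `M₂₄`, of order as expected. -/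
theorem quot_M24 [((AA l d).subgroupOf (NN l d)).Normal] :
    Nonempty (NN l d ⧸ (AA l d).subgroupOf (NN l d) ≃* Cfsg.M24) ∧
      Nat.card (NN l d) = 501397585920 := by
  obtain ⟨φ, hφ, hker⟩ := exists_action l d
  let e₁ : NN l d ⧸ (AA l d).subgroupOf (NN l d) ≃* φ.range :=
    (QuotientGroup.quotientMulEquivOfEq hker.symm).trans (QuotientGroup.quotientKerEquivRange φ)
  have hH : ∀ (h : φ.range) a b, (h : Equiv.Perm (Fin 2048)) (a ^^^ b) =
      (h : Equiv.Perm (Fin 2048)) a ^^^ (h : Equiv.Perm (Fin 2048)) b := by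
    rintro ⟨_, n, rfl⟩ a b
    refine Fin.ext (av_inj l d (Fin.isLt _) (Fin.isLt _) ?_)
    rw [hφ, fin_xor_val, fin_xor_val, av_xor l d, av_xor l d, hφ, hφ]
    group
  have hS : ∀ (h : φ.range) a, inS ((h : Equiv.Perm (Fin 2048)) a) = inS a := by
    rintro ⟨_, n, rfl⟩ a
    show inSN (φ n a).val = inSN a.val
    by_cases ha : a.val = 0
    · have : (φ n a).val = 0 := av_eq_one l d (Fin.isLt _) (by rw [hφ, ha, av_zero]; group)
      rw [this, ha]
    · have hb : (φ n a).val ≠ 0 := fun e => ha (av_eq_one l d a.isLt (by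
        have := hφ n a
        rw [e, av_zero] at this
        exact conj_eq_one_iff.mp this.symm))
      have hiff : IsConj z (av l a.val) ↔ IsConj z (av l (φ n a).val) := by
        rw [hφ]
        have hc : IsConj (av l a.val) ((n : G) * av l a.val * (n : G)⁻¹) :=
          isConj_iff.mpr ⟨(n : G), rfl⟩
        exact ⟨fun h => h.trans hc, fun h => h.trans hc.symm⟩
      rw [isConj_z_iff l d a.isLt ha, isConj_z_iff l d (Fin.isLt _) hb] at hiff
      exact Bool.eq_iff_iff.mpr hiff.symm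
  obtain ⟨g, hg⟩ := exists_hom_M24 φ.range.subtype φ.range.subtype_injective hH hS
  have hcard := card_eq_card_quotient_mul_card_subgroup ((AA l d).subgroupOf (NN l d))
  rw [Nat.card_congr e₁.toEquiv, Nat.card_congr (subgroupOfEquivOfLe (AA_le l d)).toEquiv,
    card_AA l d] at hcard
  have hle := card_NN_le l d
  have hup := Nat.card_le_card_of_injective g hg
  rw [Mathieu.card_M24] at hup
  have heq : Nat.card φ.range = Nat.card Cfsg.M24 := by
    rw [Mathieu.card_M24]; omega
  exact ⟨⟨e₁.trans (MulEquiv.ofBijective g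
    ((Nat.bijective_iff_injective_and_card g).mpr ⟨hg, heq⟩))⟩, by omega⟩

end Cfsg.Agent.ConwayType
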