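import Cfsg.Agent.Lib.ConwayType.BigM24
import Cfsg.Agent.Lib.Coprime.Gaschutz
import Cfsg.Prelude.Def_Transfer

/-!
# The local subgroup `2^11 : M₂₄`

Given a complement of `2^11` in a Sylow `2`-subgroup of its normaliser, Gaschütz's theorem splits it.
-/

set_option autoImplicit false
set_option maxHeartbeats 1000000

namespace Cfsg.Agent.ConwayType

open Subgroup

variable {G : Type*} [Group G] [Finite G] {z y : G} {Q : Subgroup G} {S : Setup z y Q}

theorem AA_normal (l : Lifts S) (d : Data z Q) : ((AA l d).subgroupOf (NN l d)).Normal :=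
  ⟨fun a ha n => mem_subgroupOf.mpr (conj_mem_AA l d n (mem_subgroupOf.mp ha))⟩

theorem golay_two_local (d : Data z Q) (l : Lifts S)
    (hK : ∃ K : Subgroup G, K ≤ normalizer ((AA l d : Subgroup G) : Set G) ∧ Nat.card K = 1024 ∧
      K ⊓ AA l d = ⊥) :
    ∃ A : Subgroup G, Cfsg.IsElementaryAbelian 2 A ∧ Nat.card A = 2 ^ 11 ∧ z ∈ A ∧
      ∃ _ : (A.subgroupOf (normalizer (A : Set G))).Normal,
        Nonempty (↥(normalizer (A : Set G)) ⧸ A.subgroupOf (normalizer (A : Set G)) ≃* ↥Cfsg.M24) ∧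
        (∃ K : Subgroup ↥(normalizer (A : Set G)),
          (A.subgroupOf (normalizer (A : Set G))).IsComplement' K) ∧
        ∃ a ∈ A, ∃ b ∈ A, a ≠ 1 ∧ b ≠ 1 ∧ (∀ n ∈ normalizer (A : Set G), n * a * n⁻¹ ≠ b) ∧
          ∀ c ∈ A, c ≠ 1 → ∃ n ∈ normalizer (A : Set G), n * c * n⁻¹ = a ∨ n * c * n⁻¹ = b := by
  obtain ⟨hsq, hcomm, hzA, -⟩ := AA_facts l d
  have hN := AA_normal l d
  obtain ⟨hiso, hcard⟩ := quot_M24 l d
  refine ⟨AA l d, ⟨⟨⟨fun a b => Subtype.ext (hcomm _ a.2 _ b.2)⟩⟩, fun a ha => ?_⟩,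
    by rw [card_AA l d]; norm_num, hzA, hN, hiso, ?_, z, hzA, t0 S, ?_, d.hub.ne_one, ?_, ?_, ?_⟩
  · rw [pow_two]; exact hsq a ha
  · obtain ⟨K, hKN, hK1, hK0⟩ := hK
    set N := NN l d
    set A₁ := (AA l d).subgroupOf N
    set K₁ := K.subgroupOf N
    have : IsMulCommutative A₁ := ⟨⟨fun a b => Subtype.ext (Subtype.ext
      (hcomm _ (mem_subgroupOf.mp a.2) _ (mem_subgroupOf.mp b.2)))⟩⟩
    have hdis : K₁ ⊓ A₁ = ⊥ := (Subgroup.eq_bot_iff_forall _).mpr fun x hx => Subtype.ext (by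
      have : (x : G) ∈ K ⊓ AA l d :=
        ⟨mem_subgroupOf.mp hx.1, mem_subgroupOf.mp hx.2⟩
      rw [hK0, mem_bot] at this
      exact this)
    have hcA : Nat.card A₁ = 2048 :=
      (Nat.card_congr (subgroupOfEquivOfLe (AA_le l d)).toEquiv).trans (card_AA l d)
    have hcK : Nat.card K₁ = 1024 :=
      (Nat.card_congr (subgroupOfEquivOfLe hKN).toEquiv).trans hK1
    have hU : Nat.card ↥(A₁ ⊔ K₁) = 2097152 := by
      let f : A₁ × K₁ → ↥(A₁ ⊔ K₁) := fun x =>
        ⟨x.1 * x.2, mul_mem (mem_sup_left x.1.2) (mem_sup_right x.2.2)⟩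
      have hf : Function.Bijective f := by
        constructor
        · rintro ⟨a, k⟩ ⟨a', k'⟩ h
          have h : (a : N) * k = a' * k' := congrArg Subtype.val h
          have h1 : (a' : N)⁻¹ * a = k' * (k : N)⁻¹ := by
            rw [eq_mul_inv_iff_mul_eq, mul_assoc, h, inv_mul_cancel_left]
          have h2 : (a' : N)⁻¹ * a ∈ K₁ ⊓ A₁ := by
            refine Subgroup.mem_inf.mpr ⟨?_, A₁.mul_mem (A₁.inv_mem a'.2) a.2⟩
            rw [h1]
            exact K₁.mul_mem k'.2 (K₁.inv_mem k.2)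
          rw [hdis, mem_bot, inv_mul_eq_one] at h2
          rw [← h2] at h
          exact Prod.ext (Subtype.ext h2.symm) (Subtype.ext (mul_left_cancel h))
        · rintro ⟨x, hx⟩
          obtain ⟨a, ha, k, hk, e⟩ := (Subgroup.mem_sup_of_normal_left (s := A₁) (t := K₁)).mp hx
          exact ⟨(⟨a, ha⟩, ⟨k, hk⟩), Subtype.ext e⟩
      rw [← Nat.card_congr (Equiv.ofBijective f hf), Nat.card_prod, hcA, hcK]
    have hidx : (A₁ ⊔ K₁).index = 239085 := by
      have := (A₁ ⊔ K₁).card_mul_index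
      rw [hU, hcard] at this
      omega
    exact Coprime.exists_complement_of_gaschutz A₁ (A₁ ⊔ K₁) le_sup_left
      (by rw [hcA, hidx]; norm_num) K₁ le_sup_right hdis rfl
  · exact (mem_AA l d).mpr (by
      have h := InA.el (S := S) d ⟨2, by norm_num⟩ ⟨4, by norm_num⟩ false false
      rwa [show lsp 2 = rS' by decide +kernel, show lsp 4 = rS by decide +kernel] at h)
  · intro e
    exact S.R.el_not_mem d (w := rS') (v := rS) (by decide) false false (by
      rw [show S.R.el rS' rS false false = 1 from e]; exact one_mem Q)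
  · intro n _ e
    exact t_not_z d S.T (isConj_iff.mpr ⟨n, e⟩)
  · rintro c ⟨a, ha, rfl⟩ hc
    obtain ⟨n, hn, hn'⟩ := classes l d ha fun e => hc (by rw [e, av_zero])
    refine ⟨n⁻¹, inv_mem hn, ?_⟩
    cases h : inSN a <;> rw [h] at hn'
    · right; rw [← hn', cond_false]; group
    · left; rw [← hn', cond_true]; group

end Cfsg.Agent.ConwayType
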