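import Cfsg.Agent.Lib.ConwayType.BigGens

/-!
# A subgroup of order `2^10` meeting `2^11` trivially

`L* = ⟨ee 0, ee 1, ee 2⟩` is a totally singular complement of `L`; `sd1`, `sd2` generate a dihedral
group of order `8` fixing it. The elements `P(u) N(v) x^e d` with `P`, `N` exact lifts of `L*` form a
subgroup of the normaliser of `2^11`.
-/

set_option autoImplicit false
set_option maxHeartbeats 800000
set_option synthInstance.maxSize 2048

namespace Cfsg.Agent.ConwayType

open Subgroup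

/-- A basis of the totally singular complement. -/
def ee : Fin 3 → W := ![wOf 7, wOf 43, wOf 50]

/-- The complement by bits. -/
def cmb (u : ℕ) : W :=
  add (add (smul (u.testBit 0) (ee 0)) (smul (u.testBit 1) (ee 1))) (smul (u.testBit 2) (ee 2))

/-- The alternating words in `a`, `b`. -/
def dih {M : Type*} [Monoid M] (a b : M) : ℕ → M
  | 0 => 1
  | i + 1 => cond (i.testBit 0) b a * dih a b i

theorem ee_facts : ∀ j k : Fin 3, q (ee j) = false ∧ B (ee j) (ee k) = false := by decide +kernel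

theorem cmb_facts : (∀ u k : Fin 8, cmb u.val = lsp k.val → u = 0) ∧
    ∀ u u' : Fin 8, cmb u.val = cmb u'.val → u = u' := by decide +kernel

theorem sd_facts : (∀ k : Fin 8, ∃ k' : Fin 8, act sd1 (lsp k.val) = lsp k'.val) ∧
    (∀ k : Fin 8, ∃ k' : Fin 8, act sd2 (lsp k.val) = lsp k'.val) ∧
    act sd1 (ee 0) = ee 0 ∧ B (ee 0) (act kd1 rE) = false ∧
    act sd1 (ee 2) = ee 2 ∧ B (ee 2) (act kd1 rE) = false ∧
    act sd1 (ee 1) = add (ee 1) (ee 0) ∧
    act sd2 (ee 0) = ee 0 ∧ B (ee 0) (act kd2 rE) = false ∧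
    act sd2 (ee 1) = ee 1 ∧ B (ee 1) (act kd2 rE) = false ∧
    act sd2 (ee 2) = add (ee 2) (ee 1) ∧
    (∀ i c : Fin 8, dih sd1 sd2 i.val = pof c.val → i = 0) ∧
    (∀ i i' : Fin 8, dih sd1 sd2 i.val = dih sd1 sd2 i'.val → i = i') ∧
    sd2 * sd1 * (sd2 * sd1) * (sd2 * sd1 * (sd2 * sd1)) = 1 := by decide +kernel

/-! ### The abstract closure argument -/

section
variable {G : Type*} [Group G]

/-- The tables of the action of the two involutions. -/
def sTab : Fin 2 → List ℕ := ![[1, 3, 4], [1, 2, 6]]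

theorem tab_lt : ∀ (i : Fin 2) (u : Fin 8), lmap (sTab i) u.val < 8 ∧ lmap [1, 2, 4] u.val = u.val := by
  decide +kernel

theorem dih_left {a b : G} (ha : a * a = 1) (hb : b * b = 1) (h8 : dih a b 8 = 1) :
    ∀ i, i < 8 → (∃ j < 8, a * dih a b i = dih a b j) ∧ ∃ j < 8, b * dih a b i = dih a b j := by
  have ea : ∀ i, i.testBit 0 = false → a * dih a b i = dih a b (i + 1) ∧
      a * dih a b (i + 1) = dih a b i := fun i h => by
    simp [dih, h, ← mul_assoc, ha]
  have eb : ∀ i, i.testBit 0 = true → b * dih a b i = dih a b (i + 1) ∧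
      b * dih a b (i + 1) = dih a b i := fun i h => by
    simp [dih, h, ← mul_assoc, hb]
  intro i hi
  constructor
  · cases h : i.testBit 0
    · refine ⟨i + 1, ?_, (ea i h).1⟩
      have : i % 2 = 0 := by simpa [Nat.testBit_zero] using h
      omega
    · have h2 : i % 2 = 1 := by simpa [Nat.testBit_zero] using h
      have h' : (i - 1).testBit 0 = false := by
        simp only [Nat.testBit_zero, decide_eq_false_iff_not]; omega
      refine ⟨i - 1, by omega, ?_⟩
      have := (ea (i - 1) h').2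
      rwa [show i - 1 + 1 = i by omega] at this
  · cases h : i.testBit 0
    · have h2 : i % 2 = 0 := by simpa [Nat.testBit_zero] using h
      by_cases h0 : i = 0
      · subst h0
        refine ⟨7, by norm_num, ?_⟩
        have h7 : b * dih a b 7 = 1 := h8
        calc b * dih a b 0 = b * (b * dih a b 7) := by rw [h7]; rfl
          _ = dih a b 7 := by rw [← mul_assoc, hb, one_mul]
      · have h' : (i - 1).testBit 0 = true := by
          simp only [Nat.testBit_zero, decide_eq_true_eq]; omega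
        refine ⟨i - 1, by omega, ?_⟩
        have := (eb (i - 1) h').2
        rwa [show i - 1 + 1 = i by omega] at this
    · have h2 : i % 2 = 1 := by simpa [Nat.testBit_zero] using h
      by_cases h7 : i = 7
      · subst h7
        exact ⟨0, by norm_num, h8⟩
      · exact ⟨i + 1, by omega, (eb i h).1⟩

theorem bprod_conj_tab (g : Fin 3 → G) (hc : ∀ j k, Commute (g j) (g k))
    (hs : ∀ k, g k * g k = 1) (s : G) (L : List ℕ) (hl : L.length = 3)
    (h : ∀ k : Fin 3, s * g k * s⁻¹ = bprod g (L.getD k.val 0)) (u : ℕ) :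
    s * bprod g u * s⁻¹ = bprod g (lmap L u) :=
  bprod_map (MulAut.conj s).toMonoidHom (bprod g) (bprod_zero g) (bprod_xor g hc hs) g L hl h u

/-- The products form the generated subgroup. -/
theorem split_closed [Finite G] {P N : Fin 3 → G} {s : Fin 2 → G} {x : G}
    (hPc : ∀ j k, Commute (P j) (P k)) (hP : ∀ k, P k * P k = 1)
    (hNc : ∀ j k, Commute (N j) (N k)) (hN : ∀ k, N k * N k = 1)
    (hPN : ∀ j k, Commute (P j) (N k)) (hx : x * x = 1) (hxP : ∀ k, Commute x (P k))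
    (hxN : ∀ k, x * N k * x⁻¹ = N k * P k) (hs : ∀ i, s i * s i = 1)
    (hxs : ∀ i, Commute x (s i)) (h8 : dih (s 0) (s 1) 8 = 1)
    (hsP : ∀ i, ∀ k : Fin 3, s i * P k * (s i)⁻¹ = bprod P ((sTab i).getD k.val 0))
    (hsN : ∀ i, ∀ k : Fin 3, s i * N k * (s i)⁻¹ = bprod N ((sTab i).getD k.val 0)) :
    ∀ g ∈ closure (Set.range P ∪ Set.range N ∪ Set.range s ∪ {x}),
      ∃ (u v : Fin 8) (e : Bool) (i : Fin 8),
        g = bprod P u.val * bprod N v.val * pw x e * dih (s 0) (s 1) i.val := by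
  intro g hg
  have hPx := bprod_xor P hPc hP
  have hNx := bprod_xor N hNc hN
  have hPNb : ∀ a b, Commute (bprod N b) (bprod P a) := fun a b =>
    bprod_commute P a _ fun k => (bprod_commute N b _ fun j => hPN k j).symm
  let T : G → Prop := fun g => ∃ (u v : Fin 8) (e : Bool) (i : Fin 8),
    g = bprod P u.val * bprod N v.val * pw x e * dih (s 0) (s 1) i.val
  have xb : ∀ (u k : Fin 8), u.val ^^^ k.val < 8 := fun u k =>
    Nat.xor_lt_two_pow (n := 3) u.isLt k.isLt
  have bit : ∀ k : Fin 3, 2 ^ k.val < 8 := fun k =>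
    Nat.pow_lt_pow_right (a := 2) (n := 3) (by norm_num) k.isLt
  have tP : ∀ (k : Fin 3) (g : G), T g → T (P k * g) := by
    rintro k _ ⟨u, v, e, i, rfl⟩
    refine ⟨⟨2 ^ k.val ^^^ u.val, xb ⟨_, bit k⟩ u⟩, v, e, i, ?_⟩
    rw [hPx, bprod_bit]; group
  have tN : ∀ (k : Fin 3) (g : G), T g → T (N k * g) := by
    rintro k _ ⟨u, v, e, i, rfl⟩
    refine ⟨u, ⟨2 ^ k.val ^^^ v.val, xb ⟨_, bit k⟩ v⟩, e, i, ?_⟩
    have hc : N k * bprod P u.val = bprod P u.val * N k := by
      have := hPNb u.val (2 ^ k.val)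
      rwa [bprod_bit] at this
    rw [hNx, bprod_bit]
    simp only [← mul_assoc, hc]
  have tx : ∀ g : G, T g → T (x * g) := by
    rintro _ ⟨u, v, e, i, rfl⟩
    have h1 : x * bprod N v.val * x⁻¹ = bprod N v.val * bprod P v.val := by
      have h := bprod_map (MulAut.conj x).toMonoidHom (fun a => bprod N a * bprod P a)
        (by simp [bprod_zero]) (fun a b => by
          rw [hNx, hPx]; exact (hPNb a b).mul_mul_mul_comm _ _)
        N [1, 2, 4] rfl (fun k => by
          show x * N k * x⁻¹ = _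
          rw [show [1, 2, 4].getD k.val 0 = 2 ^ k.val from
            (by decide : ∀ k : Fin 3, [1, 2, 4].getD k.val 0 = 2 ^ k.val) k]
          simp only [bprod_bit]
          exact hxN k) v.val
      simpa [(tab_lt 0 v).2] using h
    have h2 : Commute x (bprod P u.val) := bprod_commute P _ _ hxP
    refine ⟨⟨u.val ^^^ v.val, xb u v⟩, v, !e, i, ?_⟩
    rw [hPx, show pw x (!e) = x * pw x e by cases e <;> simp [hx]]
    calc x * (bprod P u.val * bprod N v.val * pw x e * dih (s 0) (s 1) i.val)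
        = x * bprod P u.val * bprod N v.val * pw x e * dih (s 0) (s 1) i.val := by group
      _ = bprod P u.val * (x * bprod N v.val * x⁻¹) * (x * pw x e) * dih (s 0) (s 1) i.val := by
          rw [h2.eq]; group
      _ = _ := by rw [h1, (hPNb v.val v.val).eq]; group
  have ts : ∀ (j : Fin 2) (g : G), T g → T (s j * g) := by
    rintro j _ ⟨u, v, e, i, rfl⟩
    have hl : (sTab j).length = 3 := by fin_cases j <;> rfl
    have c1 := bprod_conj_tab P hPc hP (s j) _ hl (hsP j) u.val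
    have c2 := bprod_conj_tab N hNc hN (s j) _ hl (hsN j) v.val
    obtain ⟨i', hi', hd⟩ : ∃ i' < 8, s j * dih (s 0) (s 1) i.val = dih (s 0) (s 1) i' := by
      have := dih_left (hs 0) (hs 1) h8 i.val i.isLt
      fin_cases j
      exacts [this.1, this.2]
    refine ⟨⟨_, (tab_lt j u).1⟩, ⟨_, (tab_lt j v).1⟩, e, ⟨i', hi'⟩, ?_⟩
    rw [← c1, ← c2, ← hd]
    calc s j * (bprod P u.val * bprod N v.val * pw x e * dih (s 0) (s 1) i.val)
        = s j * bprod P u.val * (s j)⁻¹ * (s j * bprod N v.val * (s j)⁻¹) *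
            (s j * pw x e) * dih (s 0) (s 1) i.val := by group
      _ = _ := by rw [(pw_commute (hxs j).symm e).eq]; group
  have gen : ∀ a ∈ Set.range P ∪ Set.range N ∪ Set.range s ∪ {x},
      a * a = 1 ∧ ∀ g : G, T g → T (a * g) := by
    rintro a (((⟨k, rfl⟩ | ⟨k, rfl⟩) | ⟨j, rfl⟩) | rfl)
    exacts [⟨hP k, tP k⟩, ⟨hN k, tN k⟩, ⟨hs j, ts j⟩, ⟨hx, tx⟩]
  refine closure_induction_left (p := fun g _ => T g) ?_ (fun a ha b _ hb => (gen a ha).2 b hb)
    (fun a ha b _ hb => ?_) hg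
  · exact ⟨0, 0, false, 0, by simp [bprod_zero, dih]⟩
  · rw [inv_eq_of_mul_eq_one_right (gen a ha).1]
    exact (gen a ha).2 b hb

end

/-! ### The lifts -/

variable {G : Type*} [Group G] [Finite G] {z y : G} {Q : Subgroup G} {S : Setup z y Q}

theorem exists_inv_lift (d : Data z Q) (S : Setup z y Q) {π : Equiv.Perm (Fin 8)}
    (hs : Equiv.Perm.sign π = 1) (hπ : π * π = 1) :
    ∃ s, Pure S.R π s ∧ Commute S.F.x s ∧ s * s = 1 := by
  obtain ⟨c, hc⟩ := exists_pure_of_even d S.R hs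
  obtain ⟨e, he⟩ := hc.conjx d
  refine ⟨c * S.R.kk e false, hc.mul_kk d e false, mul_inv_eq_iff_eq_mul.mp ?_,
    (hc.mul_kk d e false).sq d S.T hπ⟩
  rw [show S.F.x * (c * S.R.kk e false) * S.F.x⁻¹ =
    S.F.x * c * S.F.x⁻¹ * (S.F.x * S.R.kk e false * S.F.x⁻¹) by group, he, x_kk d,
    ← (S.R.commute_kk d hc.1 false e).eq, mul_assoc, S.R.kk_mul d]
  simp

theorem fix_m (d : Data z Q) (S : Setup z y Q) {π κ : Equiv.Perm (Fin 8)} {s : G}
    (hs : Pure S.R π s) (hκ : Equiv.Perm.sign κ = 1) (e : κ * p4 * κ⁻¹ = π) {w : W}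
    (hw : act π w = w) (hB : B w (act κ rE) = false) :
    s * S.F.m w * s⁻¹ = S.F.m w ∧ s * S.R.n w * s⁻¹ = S.R.n w := by
  have hl : lam S.F π s w = false := by rw [S.lam_kappa d hκ e hs hw, hB]
  have h1 := hs.lam_spec w
  have h2 := hs.lamN d hw
  rw [hw, hl, pw_false, mul_one] at h1
  rw [hl, pw_false, mul_one] at h2
  exact ⟨h1, h2⟩

/-- The `n`-side follows from the `m`-side, conjugating by `x`. -/
theorem moved_n (d : Data z Q) (S : Setup z y Q) {π : Equiv.Perm (Fin 8)} {s : G}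
    (hs : Pure S.R π s) (hxs : Commute S.F.x s) {v v' : W} (hv : act π v = add v v')
    {η η' : Bool} {P P' : G}
    (h1 : S.F.x * (S.R.n v * pw y η) * S.F.x⁻¹ = S.R.n v * pw y η * P)
    (h2 : S.F.x * (S.R.n v' * pw y η') * S.F.x⁻¹ = S.R.n v' * pw y η' * P')
    (hP : s * P * s⁻¹ = P * P') (hc : Commute P (S.R.n v' * pw y η')) :
    s * (S.R.n v * pw y η) * s⁻¹ = S.R.n v * pw y η * (S.R.n v' * pw y η') := by
  obtain ⟨μ, hμ⟩ := hs.2.2 v
  obtain ⟨ν, hν⟩ := S.R.add v v'
  rw [hv] at hμ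
  have hy : ∀ (g : G), g ∈ Dzy z y → ∀ a, Commute g (pw y a) := fun g hg a =>
    pw_commute (mem_Dzy.mp hg).2 a
  set N := S.R.n v * pw y η with hN
  set N' := S.R.n v' * pw y η' with hN'
  have e1 : s * N * s⁻¹ = S.R.n (add v v') * pw y (xor μ η) := by
    rw [hN, show s * (S.R.n v * pw y η) * s⁻¹ =
      s * S.R.n v * s⁻¹ * (s * pw y η * s⁻¹) by group, hμ, conj_of_commute (hy s hs.1 η),
      mul_assoc, pw_mul S.F.sing.2.1]
  have e2 : N * N' = S.R.n (add v v') * pw y (xor ν (xor η η')) := by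
    calc N * N' = S.R.n v * (pw y η * S.R.n v') * pw y η' := by rw [hN, hN']; group
      _ = S.R.n v * S.R.n v' * (pw y η * pw y η') := by
          rw [← (hy _ (S.R.mem v') η).eq]; group
      _ = _ := by rw [hν, mul_assoc, pw_mul S.F.sing.2.1, pw_mul S.F.sing.2.1]
  obtain ⟨a, ha⟩ : ∃ a, s * N * s⁻¹ = N * N' * pw y a := by
    refine ⟨xor (xor μ η) (xor ν (xor η η')), ?_⟩
    rw [e1, e2, mul_assoc, pw_mul S.F.sing.2.1]
    cases μ <;> cases η <;> cases ν <;> cases η' <;> rfl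
  have hl : S.F.x * (s * N * s⁻¹) * S.F.x⁻¹ = N * N' * pw y a * (P * P') := by
    calc S.F.x * (s * N * s⁻¹) * S.F.x⁻¹
        = (S.F.x * s) * N * (S.F.x * s)⁻¹ := by group
      _ = (s * S.F.x) * N * (s * S.F.x)⁻¹ := by rw [hxs.eq]
      _ = s * (S.F.x * N * S.F.x⁻¹) * s⁻¹ := by group
      _ = s * N * s⁻¹ * (s * P * s⁻¹) := by rw [h1]; group
      _ = _ := by rw [hP, ha]
  have hr : S.F.x * (s * N * s⁻¹) * S.F.x⁻¹ = N * N' * (P * P') * S.R.kk a a := by
    have hk := x_kk d S.R a false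
    rw [Bool.xor_false, show S.R.kk a false = pw y a by simp [Radical.kk]] at hk
    rw [ha, show S.F.x * (N * N' * pw y a) * S.F.x⁻¹ =
      S.F.x * N * S.F.x⁻¹ * (S.F.x * N' * S.F.x⁻¹) * (S.F.x * pw y a * S.F.x⁻¹) by group, h1, h2, hk]
    calc N * P * (N' * P') * S.R.kk a a = N * (P * N') * P' * S.R.kk a a := by group
      _ = _ := by rw [hc.eq]; group
  have hPy : Commute (P * P') y := by
    have hN1 : ∀ v η, S.F.x * (S.R.n v * pw y η) * S.F.x⁻¹ ∈ Dzy z y := fun v η => by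
      obtain ⟨e, he⟩ := x_n_conj d S.R v
      rw [show S.F.x * (S.R.n v * pw y η) * S.F.x⁻¹ =
        S.F.x * S.R.n v * S.F.x⁻¹ * (S.F.x * pw y η * S.F.x⁻¹) by group, he,
        show pw y η = S.R.kk η false by simp [Radical.kk], x_kk d]
      exact mul_mem (S.R.el_mem d _ _ _ _) (S.R.kk_mem d _ _)
    have k : ∀ {v η} {p : G}, S.F.x * (S.R.n v * pw y η) * S.F.x⁻¹ = S.R.n v * pw y η * p →
        Commute p y := fun {v η p} h => by
      have hm := hN1 v η
      rw [h] at hm
      exact (mem_Dzy.mp ((mul_mem_cancel_left (mul_mem (S.R.mem v)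
        (pw_mem (Radical.y_mem d S.F) η))).mp hm)).2
    exact (k h1).mul_left (k h2)
  have hza : pw z a = pw z false := by
    rw [hl, Radical.kk, mul_assoc (N * N'), ← (pw_commute hPy a).eq, ← mul_assoc, ← mul_assoc, ← mul_assoc] at hr
    exact (left_eq_mul.mp (mul_left_cancel hr)).trans (pw_false z).symm
  rw [ha, pw_inj d.hub.ne_one hza, pw_false, mul_one]

theorem exists_big_split (d : Data z Q) {S : Setup z y Q} (l : Lifts S) :
    ∃ K : Subgroup G, K ≤ normalizer ((AA l d : Subgroup G) : Set G) ∧ Nat.card K = 1024 ∧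
      K ⊓ AA l d = ⊥ := by
  obtain ⟨sg1, sg2, kg1, kg2, k1, k2, i1, i2, -, -⟩ := split_facts
  obtain ⟨n1, n2, f10, b10, f12, b12, f11, f20, b20, f21, b21, f22, dV, dinj, h4⟩ := sd_facts
  obtain ⟨s1, p1, x1, q1⟩ := exists_inv_lift d S sg1 i1
  obtain ⟨s2, p2, x2, q2⟩ := exists_inv_lift d S sg2 i2
  -- the `m`-side
  have fixz : ∀ {π : Equiv.Perm (Fin 8)} {c : G}, Pure S.R π c → ∀ a, c * pw z a * c⁻¹ = pw z a :=
    fun hc a => conj_of_commute (pw_commute (mem_Dzy.mp hc.1).1 a)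
  have fixy : ∀ {π : Equiv.Perm (Fin 8)} {c : G}, Pure S.R π c → ∀ a, c * pw y a * c⁻¹ = pw y a :=
    fun hc a => conj_of_commute (pw_commute (mem_Dzy.mp hc.1).2 a)
  have mm : ∀ (s : G) {π : Equiv.Perm (Fin 8)}, Pure S.R π s → ∀ {w v : W} (a : Bool),
      act π w = add w v → ∃ b, S.F.m w * pw z a * (s * (S.F.m w * pw z a) * s⁻¹) =
        S.F.m v * pw z b := by
    intro s π hs w v a hw
    obtain ⟨e, he⟩ := hs.2.1 w
    obtain ⟨f, hf⟩ := S.F.m_add w (add w v)
    rw [hw] at he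
    rw [← add_assoc', add_self, (add_zero' v).2] at hf
    refine ⟨xor f e, ?_⟩
    rw [show s * (S.F.m w * pw z a) * s⁻¹ = s * S.F.m w * s⁻¹ * (s * pw z a * s⁻¹) by group, he,
      fixz hs]
    calc S.F.m w * pw z a * (S.F.m (add w v) * pw z e * pw z a)
        = S.F.m w * (pw z a * S.F.m (add w v)) * (pw z e * pw z a) := by group
      _ = S.F.m w * S.F.m (add w v) * (pw z a * (pw z e * pw z a)) := by
          rw [← (pw_commute (d.hub.central _ (S.F.mem (add w v))) a).eq]; group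
      _ = _ := by
          rw [hf, mul_assoc, pw_mul d.hub.sq, pw_mul d.hub.sq, pw_mul d.hub.sq]
          congr 2
          cases f <;> cases e <;> cases a <;> rfl
  obtain ⟨a1, hP1⟩ := mm s2 p2 (w := ee 2) (v := ee 1) false f22
  obtain ⟨a0, hP0⟩ := mm s1 p1 (w := ee 1) (v := ee 0) a1 f11
  set al : Fin 3 → Bool := ![a0, a1, false]
  set P : Fin 3 → G := fun k => S.F.m (ee k) * pw z (al k) with hPdef
  have Pel : ∀ k, P k = S.R.el (ee k) w0 false (al k) := fun k => by
    simp [P, Radical.el, S.R.zero, Radical.kk]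
  have Psq : ∀ k, P k * P k = 1 := fun k => by
    rw [Pel, S.R.el_sq d, (ee_facts k k).1, B_w0, show q w0 = false from rfl]; simp [Radical.kk]
  -- the `n`-side
  have hN : ∀ k, ∃ η, S.F.x * (S.R.n (ee k) * pw y η) * S.F.x⁻¹ =
      S.R.n (ee k) * pw y η * P k := by
    intro k
    obtain ⟨e, he⟩ := x_n_conj d S.R (ee k)
    rw [(ee_facts k k).1] at he
    refine ⟨xor e (al k), ?_⟩
    have hc : Commute (S.R.el w0 (ee k) (xor e (al k)) false) (P k) := by
      rw [Pel, S.R.el_commute d, cy, cz]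
      simp [B_w0, B_symm w0, (ee_facts k k).2]
    have hn : S.R.n (ee k) * pw y (xor e (al k)) = S.R.el w0 (ee k) (xor e (al k)) false := by
      simp [Radical.el, S.F.zero, Radical.kk]
    rw [hn, hc.eq, ← hn, show pw y (xor e (al k)) = S.R.kk (xor e (al k)) false by simp [Radical.kk],
      show S.F.x * (S.R.n (ee k) * S.R.kk (xor e (al k)) false) * S.F.x⁻¹ =
        S.F.x * S.R.n (ee k) * S.F.x⁻¹ * (S.F.x * S.R.kk (xor e (al k)) false * S.F.x⁻¹) by group,
      he, x_kk d, S.R.el_kk d]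
    have hz : pw z (al k) = S.R.kk false (al k) := by simp [Radical.kk]
    calc S.R.el (ee k) (ee k) (xor false (xor e (al k))) (xor e (xor (xor e (al k)) false))
        = S.R.el (ee k) (ee k) (xor e (al k)) (al k) := by cases e <;> cases al k <;> rfl
      _ = S.F.m (ee k) * (S.R.n (ee k) * (S.R.kk false (al k) * S.R.kk (xor e (al k)) false)) := by
          rw [S.R.kk_mul d, Radical.el]; simp [mul_assoc]
      _ = _ := by
          rw [← mul_assoc (S.R.n (ee k)), (S.R.commute_kk d (S.R.mem (ee k)) false (al k)).eq]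
          simp only [P, hz]; group
  choose η hη using hN
  set N : Fin 3 → G := fun k => S.R.n (ee k) * pw y (η k) with hNdef
  have Nel : ∀ k, N k = S.R.el w0 (ee k) (η k) false := fun k => by
    simp [N, Radical.el, S.F.zero, Radical.kk]
  have Nsq : ∀ k, N k * N k = 1 := fun k => by
    rw [Nel, S.R.el_sq d, (ee_facts k k).1, B_symm w0, B_w0, show q w0 = false from rfl]
    simp [Radical.kk]
  have PP : ∀ j k, Commute (P j) (P k) := fun j k => by
    rw [Pel, Pel, S.R.el_commute d, cy, cz]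
    simp [B_w0, (ee_facts j k).2]
  have NN : ∀ j k, Commute (N j) (N k) := fun j k => by
    rw [Nel, Nel, S.R.el_commute d, cy, cz]
    simp [B_w0, B_symm w0, (ee_facts j k).2]
  have PN : ∀ j k, Commute (P j) (N k) := fun j k => by
    rw [Pel, Nel, S.R.el_commute d, cy, cz]
    simp [B_w0, B_symm w0, (ee_facts j k).2]
  have xP : ∀ k, Commute S.F.x (P k) := fun k =>
    (fl_eq_false.mp (S.F.x_m _)).mul_right (pw_commute (d.hub.central _ S.F.hx) _)
  -- the action of the two involutions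
  have fP : ∀ {π κ : Equiv.Perm (Fin 8)} {c : G}, Pure S.R π c → Equiv.Perm.sign κ = 1 →
      κ * p4 * κ⁻¹ = π → ∀ k, act π (ee k) = ee k → B (ee k) (act κ rE) = false →
      c * P k * c⁻¹ = P k ∧ c * N k * c⁻¹ = N k := by
    intro π κ c hc hκ e k hw hB
    obtain ⟨e1, e2⟩ := fix_m d S hc hκ e hw hB
    constructor
    · rw [show c * P k * c⁻¹ = c * S.F.m (ee k) * c⁻¹ * (c * pw z (al k) * c⁻¹) by
        simp only [P]; group, e1, fixz hc]
    · rw [show c * N k * c⁻¹ = c * S.R.n (ee k) * c⁻¹ * (c * pw y (η k) * c⁻¹) by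
        simp only [N]; group, e2, fixy hc]
  have inv2 : ∀ {a b c : G}, a * a = 1 → a * b = c → b = a * c := fun ha h => by
    rw [← h, ← mul_assoc, ha, one_mul]
  have sP2 : s2 * P 2 * s2⁻¹ = P 2 * P 1 := by
    exact inv2 (Psq 2) hP1
  have sP1 : s1 * P 1 * s1⁻¹ = P 1 * P 0 := by
    exact inv2 (Psq 1) hP0
  have sN2 : s2 * N 2 * s2⁻¹ = N 2 * N 1 := moved_n d S p2 x2 f22 (hη 2) (hη 1) sP2 (PN 2 1)
  have sN1 : s1 * N 1 * s1⁻¹ = N 1 * N 0 := moved_n d S p1 x1 f11 (hη 1) (hη 0) sP1 (PN 1 0)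
  have tabs : ∀ (g : Fin 3 → G), (∀ j k, Commute (g j) (g k)) → (∀ k, g k * g k = 1) →
      bprod g 1 = g 0 ∧ bprod g 2 = g 1 ∧ bprod g 4 = g 2 ∧ bprod g 3 = g 1 * g 0 ∧
        bprod g 6 = g 2 * g 1 := fun g hc hs => by
    have b0 : bprod g 1 = g 0 := bprod_bit g 0
    have b1 : bprod g 2 = g 1 := bprod_bit g 1
    have b2 : bprod g 4 = g 2 := bprod_bit g 2
    refine ⟨b0, b1, b2, ?_, ?_⟩
    · show bprod g (2 ^^^ 1) = _
      rw [bprod_xor g hc hs, b1, b0]
    · show bprod g (4 ^^^ 2) = _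
      rw [bprod_xor g hc hs, b2, b1]
  set s : Fin 2 → G := ![s1, s2]
  have hsP : ∀ i, ∀ k : Fin 3, s i * P k * (s i)⁻¹ = bprod P ((sTab i).getD k.val 0) := by
    obtain ⟨b1, b2, b4, b3, b6⟩ := tabs P PP Psq
    intro i k
    fin_cases i <;> fin_cases k
    exacts [(fP p1 kg1 k1 0 f10 b10).1.trans b1.symm, sP1.trans b3.symm,
      (fP p1 kg1 k1 2 f12 b12).1.trans b4.symm, (fP p2 kg2 k2 0 f20 b20).1.trans b1.symm,
      (fP p2 kg2 k2 1 f21 b21).1.trans b2.symm, sP2.trans b6.symm]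
  have hsN : ∀ i, ∀ k : Fin 3, s i * N k * (s i)⁻¹ = bprod N ((sTab i).getD k.val 0) := by
    obtain ⟨b1, b2, b4, b3, b6⟩ := tabs N NN Nsq
    intro i k
    fin_cases i <;> fin_cases k
    exacts [(fP p1 kg1 k1 0 f10 b10).2.trans b1.symm, sN1.trans b3.symm,
      (fP p1 kg1 k1 2 f12 b12).2.trans b4.symm, (fP p2 kg2 k2 0 f20 b20).2.trans b1.symm,
      (fP p2 kg2 k2 1 f21 b21).2.trans b2.symm, sN2.trans b6.symm]
  have h8 : dih s1 s2 8 = 1 := by
    have := (((p2.mul d p1).mul d (p2.mul d p1))).sq d S.T h4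
    rw [← this]
    simp [dih, mul_assoc]
  set K := closure (Set.range P ∪ Set.range N ∪ Set.range s ∪ {S.F.x})
  let f : Fin 8 × Fin 8 × Bool × Fin 8 → G := fun t =>
    bprod P t.1.val * bprod N t.2.1.val * pw S.F.x t.2.2.1 * dih s1 s2 t.2.2.2.val
  have hmem : ∀ t, f t ∈ K := by
    intro t
    have sub : ∀ g ∈ Set.range P ∪ Set.range N ∪ Set.range s ∪ {S.F.x}, g ∈ K :=
      fun g hg => subset_closure hg
    have mP : ∀ k, P k ∈ K := fun k => sub _ (Or.inl (Or.inl (Or.inl ⟨k, rfl⟩)))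
    have mN : ∀ k, N k ∈ K := fun k => sub _ (Or.inl (Or.inl (Or.inr ⟨k, rfl⟩)))
    have ms : ∀ k, s k ∈ K := fun k => sub _ (Or.inl (Or.inr ⟨k, rfl⟩))
    have mb : ∀ (g : Fin 3 → G), (∀ k, g k ∈ K) → ∀ u, bprod g u ∈ K := fun g hg u => by
      simp only [bprod, mul_one]
      exact mul_mem (pw_mem (hg _) _) (mul_mem (pw_mem (hg _) _) (pw_mem (hg _) _))
    have md : ∀ i, dih s1 s2 i ∈ K := fun i => by
      induction i with
      | zero => exact one_mem _
      | succ i ih =>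
        refine mul_mem ?_ ih
        cases i.testBit 0
        exacts [ms 0, ms 1]
    exact mul_mem (mul_mem (mul_mem (mb P mP _) (mb N mN _))
      (pw_mem (sub _ (Or.inr rfl)) _)) (md _)
  have hall : ∀ g ∈ K, ∃ t, g = f t := fun g hg => by
    obtain ⟨u, v, e, i, h⟩ := split_closed PP Psq NN Nsq PN S.F.x_sq xP hη
      (fun i => by fin_cases i; exacts [q1, q2]) (fun i => by fin_cases i; exacts [x1, x2])
      h8 hsP hsN g hg
    exact ⟨(u, v, e, i), h⟩
  have hD : ∀ i, Pure S.R (dih sd1 sd2 i) (dih s1 s2 i) := fun i => by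
    induction i with
    | zero => exact pure_one d S.R
    | succ i ih =>
      have : Pure S.R (cond (i.testBit 0) sd2 sd1) (cond (i.testBit 0) s2 s1) := by
        cases i.testBit 0
        exacts [p1, p2]
      exact this.mul d ih
  have hel : ∀ u v : Fin 8, ∃ a b, bprod P u.val * bprod N v.val =
      S.R.el (cmb u.val) (cmb v.val) a b := by
    intro u v
    let D : W → W → G → Prop := fun w v x => ∃ a b, x = S.R.el w v a b
    have dmul : ∀ {w v x w' v' x'}, D w v x → D w' v' x' → D (add w w') (add v v') (x * x') := by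
      rintro w v x w' v' x' ⟨a, b, rfl⟩ ⟨a', b', rfl⟩
      exact S.R.el_mul d w v w' v' a b a' b'
    have dP : ∀ k e, D (smul e (ee k)) w0 (pw (P k) e) := fun k e => by
      cases e
      · exact ⟨false, false, by simp [smul, S.R.el_zero d]⟩
      · exact ⟨false, al k, by simp [smul, Pel]⟩
    have dN : ∀ k e, D w0 (smul e (ee k)) (pw (N k) e) := fun k e => by
      cases e
      · exact ⟨false, false, by simp [smul, S.R.el_zero d]⟩
      · exact ⟨η k, false, by simp [smul, Nel]⟩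
    have hP := dmul (dmul (dP 0 (u.val.testBit 0)) (dP 1 (u.val.testBit 1)))
      (dP 2 (u.val.testBit 2))
    have hN := dmul (dmul (dN 0 (v.val.testBit 0)) (dN 1 (v.val.testBit 1)))
      (dN 2 (v.val.testBit 2))
    have := dmul hP hN
    simp only [(add_zero' _).1, (add_zero' _).2] at this
    obtain ⟨a, b, e⟩ := this
    refine ⟨a, b, ?_⟩
    rw [show cmb u.val = _ from rfl, show cmb v.val = _ from rfl]
    simp only [cmb] at e ⊢
    rw [← e]
    simp only [bprod, Nat.testBit_div_two, mul_one, mul_assoc]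
    rfl
  have hy : ∀ t, f t * y * (f t)⁻¹ = y * pw z t.2.2.1 := by
    rintro ⟨u, v, e, i⟩
    obtain ⟨a, b, h⟩ := hel u v
    have c1 : Commute (dih s1 s2 i.val) y := (mem_Dzy.mp (hD _).1).2
    obtain ⟨cz1, c2⟩ := mem_Dzy.mp (S.R.el_mem d (cmb u.val) (cmb v.val) a b)
    have hx : pw S.F.x e * y * (pw S.F.x e)⁻¹ = y * pw z e := by
      cases e
      · simp
      · rw [pw_true, fl_spec d.hub S.F.hx S.F.sing.1, S.F.x_y]
    show bprod P u.val * bprod N v.val * pw S.F.x e * dih s1 s2 i.val * y * _ = _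
    simp only [f, h]
    rw [show S.R.el (cmb u.val) (cmb v.val) a b * pw S.F.x e * dih s1 s2 i.val * y *
      (S.R.el (cmb u.val) (cmb v.val) a b * pw S.F.x e * dih s1 s2 i.val)⁻¹ =
      S.R.el (cmb u.val) (cmb v.val) a b * (pw S.F.x e *
        (dih s1 s2 i.val * y * (dih s1 s2 i.val)⁻¹) * (pw S.F.x e)⁻¹) *
          (S.R.el (cmb u.val) (cmb v.val) a b)⁻¹ by group,
      conj_of_commute c1, hx, conj_of_commute (c2.mul_right (pw_commute cz1 e))]
  have hact : ∀ u v : Fin 8, ∀ i w,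
      S.F.actW (bprod P u.val * bprod N v.val * dih s1 s2 i) w = act (dih sd1 sd2 i) w := by
    intro u v i w
    obtain ⟨a, b, h⟩ := hel u v
    rw [h, S.F.actW_mul d (S.R.el_mem d _ _ _ _) (hD i).1, S.R.el_act d, (hD i).actW d]
  have hA : ∀ t, f t ∈ AA l d → f t = 1 := by
    rintro ⟨u, v, e, i⟩ ht
    have hyA : y ∈ AA l d := ⟨2, by norm_num, av_by l⟩
    have he : e = false := by
      have h := hy (u, v, e, i)
      rw [conj_of_commute ((AA_facts l d).2.1 _ ht _ hyA)] at h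
      exact pw_inj d.hub.ne_one ((left_eq_mul.mp h).trans (pw_false z).symm)
    subst he
    have hf : f (u, v, false, i) = bprod P u.val * bprod N v.val * dih s1 s2 i.val := by simp [f]
    obtain ⟨k, k', c, a, b, p, hp, hg⟩ := (mem_AA l d).mp ht
    rw [hf] at hg
    have hi : i = 0 := dV i c (act_inj fun w => by
      rw [← hact u v, hg, S.F.actW_mul d (S.R.el_mem d _ _ _ _) hp.1, S.R.el_act d, hp.actW d])
    subst hi
    have hc : Pure S.R 1 p := by
      have h : pof c.val = 1 := act_inj fun w => by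
        rw [act_one]
        have := hact u v 0 w
        rw [show (0 : ℕ) = (0 : Fin 8).val from rfl, hg, S.F.actW_mul d (S.R.el_mem d _ _ _ _) hp.1,
          S.R.el_act d, hp.actW d] at this
        simpa [dih, act_one] using this
      exact h ▸ hp
    obtain ⟨a', b', rfl⟩ := hc.eq_kk d
    obtain ⟨a'', b'', h⟩ := hel u v
    rw [S.R.el_kk d, show dih s1 s2 (0 : Fin 8).val = 1 from rfl, mul_one, h] at hg
    obtain ⟨e1, e2, -, -⟩ := S.R.el_inj d hg
    rw [cmb_facts.1 u k e1, cmb_facts.1 v k' e2]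
    simp [f, bprod_zero, dih]
  have finj : Function.Injective f := by
    rintro ⟨u, v, e, i⟩ ⟨u', v', e', i'⟩ h
    have he : e = e' := by
      have h1 := hy (u, v, e, i)
      rw [h, hy (u', v', e', i')] at h1
      exact (pw_inj d.hub.ne_one (mul_left_cancel h1)).symm
    subst he
    have hcx : ∀ i, Commute (pw S.F.x e) (dih s1 s2 i) := fun i => by
      induction i with
      | zero => exact Commute.one_right _
      | succ i ih =>
        refine Commute.mul_right ?_ ih
        cases i.testBit 0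
        exacts [(pw_commute x1.symm e).symm, (pw_commute x2.symm e).symm]
    have h' : bprod P u.val * bprod N v.val * dih s1 s2 i.val =
        bprod P u'.val * bprod N v'.val * dih s1 s2 i'.val := by
      refine mul_right_cancel (b := pw S.F.x e) ?_
      simp only [f] at h
      rw [mul_assoc _ _ (pw S.F.x e), mul_assoc _ _ (pw S.F.x e), ← (hcx _).eq, ← (hcx _).eq,
        ← mul_assoc, ← mul_assoc]
      exact h
    have hi : i = i' := dinj i i' (act_inj fun w => by rw [← hact u v, h', hact u' v'])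
    subst hi
    obtain ⟨a, b, h1⟩ := hel u v
    obtain ⟨a', b', h2⟩ := hel u' v'
    have h'' := mul_right_cancel h'
    rw [h1, h2] at h''
    obtain ⟨e1, e2, -, -⟩ := S.R.el_inj d h''
    rw [cmb_facts.2 u u' e1, cmb_facts.2 v v' e2]
  refine ⟨K, ?_, ?_, ?_⟩
  · refine (closure_le _).mpr ?_
    rintro a (((⟨k, rfl⟩ | ⟨k, rfl⟩) | ⟨j, rfl⟩) | rfl)
    · rw [Pel]; exact el_norm l d _ _ _ _
    · rw [Nel]; exact el_norm l d _ _ _ _
    · fin_cases j
      exacts [pure_norm l d p1 n1, pure_norm l d p2 n2]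
    · exact x_norm l d
  · rw [← Nat.card_congr (Equiv.ofBijective (fun t => (⟨f t, hmem t⟩ : K))
      ⟨fun a b h => finj (congrArg Subtype.val h), fun g => by
        obtain ⟨t, ht⟩ := hall g.1 g.2
        exact ⟨t, Subtype.ext ht.symm⟩⟩)]
    simp
  · rw [eq_bot_iff]
    rintro g ⟨hK, hg⟩
    obtain ⟨t, rfl⟩ := hall g hK
    exact mem_bot.mpr (hA t hg)

end Cfsg.Agent.ConwayType
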