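import Cfsg.Agent.Lib.ConwayType.Radical

/-!
# Calculus in the radical

`el w v a b = m(w) n(v) y^a z^b`; an element interchanging `z` and `y` which respects the two
coordinates (`Twist`); elements of `C(z) ∩ C(y)` respecting them (`Pure`).
-/

set_option autoImplicit false
set_option maxHeartbeats 400000
set_option synthInstance.maxSize 2048

namespace Cfsg.Agent.ConwayType

open Subgroup
open Cfsg.Agent.LargeExtraspecial (Hub)

variable {G : Type*} [Group G] {z y : G} {Q : Subgroup G}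

/-- The `y`-part of the commutator. -/
def cy (w v w' v' : W) : Bool := xor (xor (B v v') (B w v')) (B w' v)

/-- The `z`-part of the commutator. -/
def cz (w v w' v' : W) : Bool := xor (xor (B w w') (B w v')) (B w' v)

theorem linear_eq {f : W → Bool} (hf : ∀ u v, f (add u v) = xor (f u) (f v)) (w : W) :
    f w = B w (dual (f f0, f f1, f f2, f f3, f f4, f f5)) := by
  have h0 : f w0 = false := by
    have := hf w0 w0
    rw [add_self] at this
    simpa using this
  have hs : ∀ (e : Bool) (p : W), f (smul e p) = (e && f p) := fun e p => by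
    cases e
    exacts [h0, (Bool.true_and _).symm]
  rw [dual_vec]
  conv_lhs => rw [decomp w]
  obtain ⟨a, b, c, e, g, k⟩ := w
  simp [lin, hf, hs]

namespace Radical

variable [Finite G] {F : Frame z y Q} (R : Radical F)

/-- A central pair. -/
def kk (_R : Radical F) (a b : Bool) : G := pw y a * pw z b

/-- The elements of the radical. -/
def el (w v : W) (a b : Bool) : G := F.m w * R.n v * R.kk a b

variable (d : Data z Q)
include d

theorem commute_kk {c : G} (hc : c ∈ Dzy z y) (a b : Bool) : Commute c (R.kk a b) :=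
  (pw_commute (mem_Dzy.mp hc).2 a).mul_right (pw_commute (mem_Dzy.mp hc).1 b)

theorem y_mem (F : Frame z y Q) : y ∈ Dzy z y := mem_Dzy.mpr ⟨d.hub.central y F.sing.1, Commute.refl y⟩

theorem z_mem (F : Frame z y Q) : z ∈ Dzy z y := mem_Dzy.mpr ⟨Commute.refl z, (d.hub.central y F.sing.1).symm⟩

theorem kk_mem (a b : Bool) : R.kk a b ∈ Dzy z y :=
  mul_mem (pw_mem (y_mem d F) a) (pw_mem (z_mem d F) b)

theorem m_mem (w : W) : F.m w ∈ Dzy z y :=
  mem_Dzy.mpr ⟨d.hub.central _ (F.mem w), F.comm_y w⟩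

theorem el_mem (w v : W) (a b : Bool) : R.el w v a b ∈ Dzy z y :=
  mul_mem (mul_mem (m_mem d w) (R.mem v)) (R.kk_mem d a b)

theorem kk_mul (a b a' b' : Bool) : R.kk a b * R.kk a' b' = R.kk (xor a a') (xor b b') := by
  have e : Commute (pw z b) (pw y a') :=
    pw_commute (pw_commute (mem_Dzy.mp (y_mem d F)).1 b).symm a'
  calc R.kk a b * R.kk a' b' = pw y a * (pw z b * pw y a') * pw z b' := by rw [kk, kk]; group
    _ = pw y a * pw y a' * (pw z b * pw z b') := by rw [e.eq]; group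
    _ = _ := by rw [pw_mul F.sing.2.1, pw_mul d.hub.sq]; rfl

theorem el_vof (w v : W) (a b : Bool) : F.vof (R.el w v a b) = v := by
  obtain ⟨h1, h2, h3⟩ := F.of_mem_Q d (F.mem w) (F.comm_y w)
  obtain ⟨k1, k2, k3⟩ := F.of_mem_Q d
    (p := R.kk a b) (mul_mem (pw_mem F.sing.1 a) (pw_mem d.hub.mem b)) (mem_Dzy.mp (R.kk_mem d a b)).2
  rw [el, F.vof_mul d (mul_mem h1 (R.mem v)) k1, k3, F.vof_mul d h1 (R.mem v), h3, h2, R.vof,
    F.actW_mul d h1 (R.mem v), R.act, h2, (add_zero' _).1]
  exact (add_zero' v).2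

theorem el_act (w v : W) (a b : Bool) (u : W) : F.actW (R.el w v a b) u = u := by
  obtain ⟨h1, h2, -⟩ := F.of_mem_Q d (F.mem w) (F.comm_y w)
  obtain ⟨k1, k2, -⟩ := F.of_mem_Q d
    (p := R.kk a b) (mul_mem (pw_mem F.sing.1 a) (pw_mem d.hub.mem b)) (mem_Dzy.mp (R.kk_mem d a b)).2
  rw [el, F.actW_mul d (mul_mem h1 (R.mem v)) k1, k2, F.actW_mul d h1 (R.mem v), R.act, h2]

theorem el_inj {w v w' v' : W} {a b a' b' : Bool} (e : R.el w v a b = R.el w' v' a' b') :
    w = w' ∧ v = v' ∧ a = a' ∧ b = b' := by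
  have hv : v = v' := by rw [← R.el_vof d w v a b, e, R.el_vof d]
  subst hv
  have e1 : ∀ w a b, R.el w v a b = F.elem false a w b * R.n v := fun w a b => by
    rw [el, kk, Frame.elem, pw_false, one_mul, (pw_commute (F.comm_y w) a).eq.symm,
      mul_assoc (F.m w) (R.n v), show R.n v * (pw y a * pw z b) = pw y a * pw z b * R.n v from
        (R.commute_kk d (R.mem v) a b).eq]
    group
  rw [e1, e1] at e
  obtain ⟨-, h2, h3, h4⟩ := F.elem_inj d.hub (mul_right_cancel e)
  exact ⟨h3, rfl, h2, h4⟩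

theorem el_conj (w v w' v' : W) (a b a' b' : Bool) :
    R.el w v a b * R.el w' v' a' b' * (R.el w v a b)⁻¹ =
      R.el w' v' a' b' * R.kk (cy w v w' v') (cz w v w' v') := by
  have hm : ∀ u u', F.m u * F.m u' * (F.m u)⁻¹ = F.m u' * R.kk false (B u u') := fun u u' => by
    rw [fl_spec d.hub (F.mem u) (F.mem u'), F.m_m, kk, pw_false, one_mul]
  have hn : ∀ u u', R.n u * R.n u' * (R.n u)⁻¹ = R.n u' * R.kk (B u u') false := fun u u' => by
    rw [R.swap, kk, pw_false, mul_one]
  have hnm : ∀ u u', R.n u * F.m u' * (R.n u)⁻¹ = F.m u' * R.kk (B u' u) (B u' u) := fun u u' => by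
    rw [R.comm, kk, mul_assoc]
  have hmn : ∀ u u', F.m u * R.n u' * (F.m u)⁻¹ = R.n u' * R.kk (B u u') (B u u') := fun u u' => by
    have e1 := hnm u' u
    set n := R.n u'
    set m := F.m u
    set K := R.kk (B u u') (B u u')
    have hK : K * K = 1 := by rw [R.kk_mul d]; simp [kk]
    have hnK : Commute n K := R.commute_kk d (R.mem u') _ _
    have e2 : n * m = m * n * K := by
      calc n * m = n * m * n⁻¹ * n := by group
        _ = m * (K * n) := by rw [e1]; group
        _ = _ := by rw [hnK.eq.symm]; group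
    calc m * n * m⁻¹ = m * n * (K * K) * m⁻¹ := by rw [hK, mul_one]
      _ = n * (m * K) * m⁻¹ := by rw [← mul_assoc (m * n), ← e2]; group
      _ = n * K := by rw [show m * K = K * m from (R.commute_kk d (m_mem d u) _ _).eq]; group
  have step : ∀ {o : G} (_ : o ∈ Dzy z y) {p : G} {s t : Bool} {o' : G} (_ : o' ∈ Dzy z y) {s' t' : Bool},
      o' * p * o'⁻¹ = p * R.kk s' t' → o * p * o⁻¹ = p * R.kk s t →
      o * o' * p * (o * o')⁻¹ = p * R.kk (xor s s') (xor t t') := by
    intro o ho p s t o' _ s' t' e' e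
    calc o * o' * p * (o * o')⁻¹ = o * (o' * p * o'⁻¹) * o⁻¹ := by group
      _ = (o * p * o⁻¹) * (o * R.kk s' t' * o⁻¹) := by rw [e']; group
      _ = _ := by rw [e, conj_of_commute (R.commute_kk d ho _ _), mul_assoc, R.kk_mul d]
  have stepK : ∀ {o p : G} {s t : Bool} (u u' : Bool), Commute p (R.kk u u') →
      o * p * o⁻¹ = p * R.kk s t → Commute o (R.kk u u') →
      o * R.kk u u' * p * (o * R.kk u u')⁻¹ = p * R.kk s t := by
    intro o p s t u u' hp e _
    calc o * R.kk u u' * p * (o * R.kk u u')⁻¹ = o * (R.kk u u' * p * (R.kk u u')⁻¹) * o⁻¹ := by group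
      _ = o * p * o⁻¹ := by rw [conj_of_commute hp.symm]
      _ = _ := e
  have ho : F.m w * R.n v ∈ Dzy z y := mul_mem (m_mem d w) (R.mem v)
  have c1 : R.el w v a b * F.m w' * (R.el w v a b)⁻¹ =
      F.m w' * R.kk (B w' v) (xor (B w w') (B w' v)) := by
    have := stepK a b (R.commute_kk d (m_mem d w') a b)
      (step (m_mem d w) (R.mem v) (hnm v w') (hm w w')) (R.commute_kk d ho a b)
    simpa [el] using this
  have c2 : R.el w v a b * R.n v' * (R.el w v a b)⁻¹ =
      R.n v' * R.kk (xor (B w v') (B v v')) (B w v') := by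
    have := stepK a b (R.commute_kk d (R.mem v') a b)
      (step (m_mem d w) (R.mem v) (hn v v') (hmn w v')) (R.commute_kk d ho a b)
    simpa [el] using this
  set o := R.el w v a b with hoe
  have c3 : o * R.kk a' b' * o⁻¹ = R.kk a' b' := conj_of_commute (R.commute_kk d (R.el_mem d w v a b) _ _)
  calc o * R.el w' v' a' b' * o⁻¹ = o * F.m w' * o⁻¹ * (o * R.n v' * o⁻¹) * (o * R.kk a' b' * o⁻¹) := by
        rw [el]; group
    _ = F.m w' * (R.kk (B w' v) (xor (B w w') (B w' v)) * R.n v') *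
          (R.kk (xor (B w v') (B v v')) (B w v') * R.kk a' b') := by rw [c1, c2, c3]; group
    _ = F.m w' * R.n v' * (R.kk (B w' v) (xor (B w w') (B w' v)) *
          (R.kk (xor (B w v') (B v v')) (B w v') * R.kk a' b')) := by
        rw [← (R.commute_kk d (R.mem v') _ _).eq]; group
    _ = _ := by
        rw [el, mul_assoc _ (R.kk a' b'), R.kk_mul d, R.kk_mul d, R.kk_mul d]
        congr 1
        simp only [cy, cz]
        cases B w' v <;> cases B w w' <;> cases B w v' <;> cases B v v' <;> cases a' <;> cases b' <;> rfl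

theorem el_commute {w v w' v' : W} {a b a' b' : Bool} :
    Commute (R.el w v a b) (R.el w' v' a' b') ↔ cy w v w' v' = false ∧ cz w v w' v' = false := by
  have e := R.el_conj d w v w' v' a b a' b'
  constructor
  · intro hc
    rw [conj_of_commute hc] at e
    have e1 : R.kk (cy w v w' v') (cz w v w' v') = R.kk false false := by
      rw [left_eq_mul] at e
      rw [e]; simp [kk]
    exact pw_yz_inj d.hub F.sing e1
  · rintro ⟨h1, h2⟩
    rw [h1, h2] at e
    exact mul_inv_eq_iff_eq_mul.mp (by rw [e]; simp [kk])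

theorem el_sq (w v : W) (a b : Bool) : R.el w v a b * R.el w v a b =
    R.kk (xor (q v) (B w v)) (xor (q w) (B w v)) := by
  have hmn : F.m w * R.n v ∈ Dzy z y := mul_mem (m_mem d w) (R.mem v)
  have h1 : R.kk a b * R.kk a b = 1 := by rw [R.kk_mul d]; simp [kk]
  calc R.el w v a b * R.el w v a b
      = F.m w * R.n v * (R.kk a b * (F.m w * R.n v)) * R.kk a b := by rw [el]; group
    _ = F.m w * R.n v * (F.m w * R.n v) * (R.kk a b * R.kk a b) := by
        rw [← (R.commute_kk d hmn a b).eq]; group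
    _ = F.m w * (R.n v * F.m w * (R.n v)⁻¹) * (R.n v * R.n v) := by rw [h1]; group
    _ = F.m w * F.m w * R.kk (B w v) (B w v) * R.kk (q v) false := by
        rw [R.comm, R.sq, kk, kk, pw_false, mul_one]; group
    _ = _ := by
        rw [F.m_sq, F.qc_eq d, show pw z (q w) = R.kk false (q w) by
          rw [kk, pw_false, one_mul], R.kk_mul d, R.kk_mul d]
        congr 1 <;> cases q v <;> cases q w <;> cases B w v <;> rfl

theorem el_conj_D {c : G} (hc : c ∈ Dzy z y) (w v : W) (a b : Bool) :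
    ∃ a' b', c * R.el w v a b * c⁻¹ = R.el (F.actW c w) (F.actW c v) a' b' := by
  obtain ⟨b₁, e₁, hm⟩ := F.conj_m d hc w
  obtain ⟨a₂, b₂, hn⟩ := R.conj c hc v
  have hm : c * F.m w * c⁻¹ = F.m (F.actW c w) * R.kk b₁ e₁ := by
    rw [hm, Frame.elem, pw_false, one_mul, ← (pw_commute (F.comm_y _) b₁).eq, kk, mul_assoc]
  refine ⟨xor b₁ (xor a₂ a), xor e₁ (xor b₂ b), ?_⟩
  calc c * R.el w v a b * c⁻¹ = c * F.m w * c⁻¹ * (c * R.n v * c⁻¹) * (c * R.kk a b * c⁻¹) := by
        rw [el]; group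
    _ = F.m (F.actW c w) * (R.kk b₁ e₁ * R.n (F.actW c v)) * (R.kk a₂ b₂ * R.kk a b) := by
        rw [hm, hn, conj_of_commute (R.commute_kk d hc _ _), kk, kk, kk]; group
    _ = _ := by
        rw [← (R.commute_kk d (R.mem _) b₁ e₁).eq, el, R.kk_mul d, ← R.kk_mul d b₁ e₁]
        group

theorem el_not_mem {w v : W} (hv : v ≠ w0) (a b : Bool) : R.el w v a b ∉ Q := fun h => hv (by
  rw [← R.el_vof d w v a b]
  exact (F.of_mem_Q d h (mem_Dzy.mp (R.el_mem d w v a b)).2).2.2)

theorem el_kk (w v : W) (a b a' b' : Bool) :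
    R.el w v a b * R.kk a' b' = R.el w v (xor a a') (xor b b') := by
  rw [el, el, mul_assoc, R.kk_mul d]

theorem el_mul (w v w' v' : W) (a b a' b' : Bool) :
    ∃ a'' b'', R.el w v a b * R.el w' v' a' b' = R.el (ConwayType.add w w') (ConwayType.add v v') a'' b'' := by
  obtain ⟨e, he⟩ := F.m_add w w'
  obtain ⟨e', he'⟩ := R.add v v'
  refine ⟨xor e' (xor (B w' v) (xor a a')), xor e (xor (B w' v) (xor b b')), ?_⟩
  have c1 : R.n v * F.m w' = F.m w' * R.n v * R.kk (B w' v) (B w' v) := by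
    calc R.n v * F.m w' = R.n v * F.m w' * (R.n v)⁻¹ * R.n v := by group
      _ = F.m w' * (R.kk (B w' v) (B w' v) * R.n v) := by rw [R.comm, kk]; group
      _ = _ := by rw [← (R.commute_kk d (R.mem v) _ _).eq]; group
  calc R.el w v a b * R.el w' v' a' b'
      = F.m w * R.n v * (R.kk a b * (F.m w' * R.n v')) * R.kk a' b' := by rw [el, el]; group
    _ = F.m w * (R.n v * F.m w') * R.n v' * (R.kk a b * R.kk a' b') := by
        rw [← (R.commute_kk d (mul_mem (m_mem d w') (R.mem v')) a b).eq]; group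
    _ = F.m w * F.m w' * (R.n v * (R.kk (B w' v) (B w' v) * R.n v')) * (R.kk a b * R.kk a' b') := by
        rw [c1]; group
    _ = F.m (ConwayType.add w w') * (R.kk false e * (R.n v * R.n v')) *
          (R.kk (B w' v) (B w' v) * (R.kk a b * R.kk a' b')) := by
        rw [← (R.commute_kk d (R.mem v') _ _).eq, he, kk, kk, kk, kk, pw_false, one_mul]; group
    _ = F.m (ConwayType.add w w') * (R.n v * R.n v') *
          (R.kk false e * (R.kk (B w' v) (B w' v) * (R.kk a b * R.kk a' b'))) := by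
        rw [← (R.commute_kk d (mul_mem (R.mem v) (R.mem v')) false e).eq]; group
    _ = F.m (ConwayType.add w w') * R.n (ConwayType.add v v') * (R.kk e' false *
          (R.kk false e * (R.kk (B w' v) (B w' v) * (R.kk a b * R.kk a' b')))) := by
        rw [he', show pw y e' = R.kk e' false by simp [kk]]; group
    _ = _ := by
        rw [R.kk_mul d, R.kk_mul d, R.kk_mul d, R.kk_mul d, el, Bool.false_xor, Bool.false_xor]

theorem el_zero : R.el w0 w0 false false = 1 := by simp [el, kk, F.zero, R.zero]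

theorem el_w0 (a b : Bool) : R.el w0 w0 a b = R.kk a b := by simp [el, F.zero, R.zero]

theorem m_eq (w : W) : F.m w = R.el w w0 false false := by simp [el, kk, R.zero]

theorem n_eq (v : W) : R.n v = R.el w0 v false false := by simp [el, kk, F.zero]

theorem el_inv (w v : W) (a b : Bool) : ∃ a' b', (R.el w v a b)⁻¹ = R.el w v a' b' := by
  refine ⟨xor a (xor (q v) (B w v)), xor b (xor (q w) (B w v)), inv_eq_of_mul_eq_one_right ?_⟩
  rw [← R.el_kk d, ← mul_assoc, R.el_sq d, R.kk_mul d]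
  simp [kk]

theorem exists_el {k : G} (hk : k ∈ Dzy z y) (h : ∀ w, F.actW k w = w) :
    ∃ w v a b, k = R.el w v a b := by
  obtain ⟨v, w, a, b, e⟩ := R.gen k hk h
  exact ⟨w, v, a, b, by rw [e]; simp only [el, kk, mul_assoc]⟩

end Radical

/-- An element interchanging `z` and `y`, and `m` with `n`. -/
structure Twist {F : Frame z y Q} (R : Radical F) where
  h : G
  ρ : Equiv.Perm (Fin 8)
  h_z : h * z * h⁻¹ = y
  h_y : h * y * h⁻¹ = z
  h_m : ∀ w, ∃ a, h * F.m w * h⁻¹ = R.n (act ρ w) * pw y a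
  h_n : ∀ v, ∃ b, h * R.n v * h⁻¹ = F.m (act ρ v) * pw z b

variable [Finite G] {F : Frame z y Q} {R : Radical F}

theorem kk_twist (d : Data z Q) {h : G} (hz : h * z * h⁻¹ = y) (hy : h * y * h⁻¹ = z) (a b : Bool) :
    h * R.kk a b * h⁻¹ = R.kk b a := by
  rw [Radical.kk, Radical.kk,
    show h * (pw y a * pw z b) * h⁻¹ = (h * pw y a * h⁻¹) * (h * pw z b * h⁻¹) by group,
    pw_conj hy, pw_conj hz]
  exact (pw_commute (pw_commute (d.hub.central y F.sing.1).symm b).symm a).symm.eq

theorem exists_twist (d : Data z Q) (R : Radical F) : Nonempty (Twist R) := by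
  choose α a b hm using R.h_m
  choose α' a' b' hn using R.h_n
  have hm : ∀ w, R.h * F.m w * R.h⁻¹ = R.el w0 (α w) (a w) (b w) := fun w => by
    rw [hm, Radical.el, Radical.kk, F.zero, one_mul]; group
  have hn : ∀ v, R.h * R.n v * R.h⁻¹ = R.el (α' v) w0 (a' v) (b' v) := fun v => by
    rw [hn, Radical.el, Radical.kk, R.zero, mul_one]; group
  have hk := kk_twist (R := R) d R.h_z R.h_y
  have hα : ∀ u v, α (add u v) = add (α u) (α v) ∧ b (add u v) = xor (b u) (b v) := by
    intro u v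
    obtain ⟨e, he⟩ := F.m_add u v
    obtain ⟨e', he'⟩ := R.add (α u) (α v)
    have h1 : R.h * F.m u * R.h⁻¹ * (R.h * F.m v * R.h⁻¹) =
        R.h * F.m (add u v) * R.h⁻¹ * (R.h * R.kk false e * R.h⁻¹) := by
      rw [show R.kk false e = pw z e by simp [Radical.kk],
        show R.h * F.m u * R.h⁻¹ * (R.h * F.m v * R.h⁻¹) = R.h * (F.m u * F.m v) * R.h⁻¹ by group, he]
      group
    rw [hm, hm, hm, hk, R.el_kk d] at h1
    have h2 : R.el w0 (α u) (a u) (b u) * R.el w0 (α v) (a v) (b v) =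
        R.el w0 (add (α u) (α v)) (xor e' (xor (a u) (a v))) (xor (b u) (b v)) := by
      have c := R.commute_kk d (R.mem (α v)) (a u) (b u)
      simp only [Radical.el, F.zero, one_mul]
      calc R.n (α u) * R.kk (a u) (b u) * (R.n (α v) * R.kk (a v) (b v))
          = R.n (α u) * (R.kk (a u) (b u) * R.n (α v)) * R.kk (a v) (b v) := by group
        _ = R.n (α u) * R.n (α v) * (R.kk (a u) (b u) * R.kk (a v) (b v)) := by rw [← c.eq]; group
        _ = _ := by
          rw [he', R.kk_mul d, show pw y e' = R.kk e' false by simp [Radical.kk],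
            mul_assoc, R.kk_mul d, Bool.false_xor]
    rw [h2] at h1
    obtain ⟨-, r1, -, r2⟩ := R.el_inj d h1
    exact ⟨r1.symm, by revert r2; cases b (add u v) <;> simp⟩
  have hα' : ∀ u v, α' (add u v) = add (α' u) (α' v) ∧ a' (add u v) = xor (a' u) (a' v) := by
    intro u v
    obtain ⟨e, he⟩ := R.add u v
    obtain ⟨e', he'⟩ := F.m_add (α' u) (α' v)
    have h1 : R.h * R.n u * R.h⁻¹ * (R.h * R.n v * R.h⁻¹) =
        R.h * R.n (add u v) * R.h⁻¹ * (R.h * R.kk e false * R.h⁻¹) := by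
      rw [show R.kk e false = pw y e by simp [Radical.kk],
        show R.h * R.n u * R.h⁻¹ * (R.h * R.n v * R.h⁻¹) = R.h * (R.n u * R.n v) * R.h⁻¹ by group, he]
      group
    rw [hn, hn, hn, hk, R.el_kk d] at h1
    have h2 : R.el (α' u) w0 (a' u) (b' u) * R.el (α' v) w0 (a' v) (b' v) =
        R.el (add (α' u) (α' v)) w0 (xor (a' u) (a' v)) (xor e' (xor (b' u) (b' v))) := by
      have c := R.commute_kk d (Radical.m_mem d (F := F) (α' v)) (a' u) (b' u)
      simp only [Radical.el, R.zero, mul_one]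
      calc F.m (α' u) * R.kk (a' u) (b' u) * (F.m (α' v) * R.kk (a' v) (b' v))
          = F.m (α' u) * (R.kk (a' u) (b' u) * F.m (α' v)) * R.kk (a' v) (b' v) := by group
        _ = F.m (α' u) * F.m (α' v) * (R.kk (a' u) (b' u) * R.kk (a' v) (b' v)) := by
          rw [← c.eq]; group
        _ = _ := by
          rw [he', R.kk_mul d, show pw z e' = R.kk false e' by simp [Radical.kk],
            mul_assoc, R.kk_mul d, Bool.false_xor]
    rw [h2] at h1
    obtain ⟨r1, -, r2, -⟩ := R.el_inj d h1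
    exact ⟨r1.symm, by revert r2; cases a' (add u v) <;> simp⟩
  obtain ⟨ρ, hρ⟩ := exists_act (fun u v => (hα u v).1) fun w => by
    have h1 : R.h * (F.m w * F.m w) * R.h⁻¹ = R.h * F.m w * R.h⁻¹ * (R.h * F.m w * R.h⁻¹) := by group
    rw [hm, R.el_sq d, F.m_sq, F.qc_eq d, show pw z (q w) = R.kk false (q w) by simp [Radical.kk],
      hk] at h1
    have := (pw_yz_inj d.hub F.sing h1).1
    rw [this, B_symm, B_w0, Bool.xor_false]
  have hα'ρ : ∀ v, α' v = act ρ v := by
    intro v
    have key : ∀ w, B (act ρ w) (α' v) = B w v := by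
      intro w
      have h1 : R.h * R.n v * R.h⁻¹ * (R.h * F.m w * R.h⁻¹) * (R.h * R.n v * R.h⁻¹)⁻¹ =
          R.h * F.m w * R.h⁻¹ * (R.h * R.kk (B w v) (B w v) * R.h⁻¹) := by
        rw [show R.kk (B w v) (B w v) = pw y (B w v) * pw z (B w v) from rfl,
          show R.h * R.n v * R.h⁻¹ * (R.h * F.m w * R.h⁻¹) * (R.h * R.n v * R.h⁻¹)⁻¹ =
            R.h * (R.n v * F.m w * (R.n v)⁻¹) * R.h⁻¹ by group, R.comm]
        group
      rw [hn, hm, hk, R.el_conj d] at h1
      have h2 := (pw_yz_inj d.hub F.sing (mul_left_cancel h1)).1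
      rw [cy, hρ] at h2
      rw [← h2, B_symm, B_symm w0, B_w0, B_symm w0, B_w0]
      simp
    have k2 : ∀ u, B u (α' v) = B u (act ρ v) := fun u => by
      have hu : act ρ (act ρ⁻¹ u) = u := by rw [← act_mul, mul_inv_cancel, act_one]
      rw [← hu, key, B_act]
    exact B_ext _ _ (k2 _) (k2 _) (k2 _) (k2 _) (k2 _) (k2 _)
  have Rb := linear_eq (f := b) fun u v => (hα u v).2
  have Ra := linear_eq (f := a') fun u v => (hα' u v).2
  set β := dual (b f0, b f1, b f2, b f3, b f4, b f5)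
  set γ := dual (a' f0, a' f1, a' f2, a' f3, a' f4, a' f5)
  set o := R.el γ β false false
  have hoD : o ∈ Dzy z y := R.el_mem d _ _ _ _
  have hzy := mem_Dzy.mp hoD
  refine ⟨{ h := R.h * o, ρ := ρ, h_z := ?_, h_y := ?_, h_m := fun w => ?_, h_n := fun v => ?_ }⟩
  · rw [show R.h * o * z * (R.h * o)⁻¹ = R.h * (o * z * o⁻¹) * R.h⁻¹ by group,
      conj_of_commute hzy.1, R.h_z]
  · rw [show R.h * o * y * (R.h * o)⁻¹ = R.h * (o * y * o⁻¹) * R.h⁻¹ by group,
      conj_of_commute hzy.2, R.h_y]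
  · refine ⟨xor (a w) (cz γ β w w0), ?_⟩
    rw [show R.h * o * F.m w * (R.h * o)⁻¹ = R.h * (o * F.m w * o⁻¹) * R.h⁻¹ by group,
      R.m_eq d, R.el_conj d,
      show R.h * (R.el w w0 false false * R.kk (cy γ β w w0) (cz γ β w w0)) * R.h⁻¹ =
        R.h * R.el w w0 false false * R.h⁻¹ * (R.h * R.kk (cy γ β w w0) (cz γ β w w0) * R.h⁻¹) by group,
      ← R.m_eq d, hm, hk, R.el_kk d, hρ]
    have : xor (b w) (cy γ β w w0) = false := by rw [cy, B_w0, B_w0, ← Rb w]; simp
    rw [this, Radical.el, Radical.kk, F.zero, one_mul, pw_false, mul_one]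
  · refine ⟨xor (b' v) (cy γ β w0 v), ?_⟩
    rw [show R.h * o * R.n v * (R.h * o)⁻¹ = R.h * (o * R.n v * o⁻¹) * R.h⁻¹ by group,
      R.n_eq d, R.el_conj d,
      show R.h * (R.el w0 v false false * R.kk (cy γ β w0 v) (cz γ β w0 v)) * R.h⁻¹ =
        R.h * R.el w0 v false false * R.h⁻¹ * (R.h * R.kk (cy γ β w0 v) (cz γ β w0 v) * R.h⁻¹) by group,
      ← R.n_eq d, hn, hk, R.el_kk d, hα'ρ]
    have : xor (a' v) (cz γ β w0 v) = false := by
      rw [cz, B_w0, B_symm γ v, ← Ra v, B_symm w0, B_w0]; simp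
    rw [this, Radical.el, Radical.kk, R.zero, mul_one, pw_false, one_mul]

end Cfsg.Agent.ConwayType
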