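import Cfsg.Agent.Lib.ConwayType.Basic

/-!
# Involutions of `C(z)` have large centralisers in `Q`
-/

set_option autoImplicit false
set_option maxHeartbeats 400000

namespace Cfsg.Agent.ConwayType

open Subgroup
open Cfsg.Agent.LargeExtraspecial (Hub)

variable {G : Type*} [Group G] [Finite G] {z : G} {Q : Subgroup G}

theorem sixteen_le_cQ (d : Data z Q) {c : G} (hc : c * c = 1) (hcz : Commute c z) :
    16 ≤ Nat.card ↥(Q ⊓ centralizer ({c} : Set G)) := by
  classical
  have h := d.hub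
  let f : G → G := fun p => c * p * c⁻¹ * p⁻¹
  have fmem : ∀ {p}, p ∈ Q → f p ∈ Q := fun hp => mul_mem (h.normalizes c hcz _ hp) (inv_mem hp)
  have hzp : ∀ e, Commute c (pw z e) := pw_commute hcz
  let K : Subgroup G :=
    { carrier := {p | p ∈ Q ∧ ∃ e, c * p * c⁻¹ = p * pw z e}
      one_mem' := ⟨one_mem _, false, by simp⟩
      mul_mem' := by
        rintro p r ⟨hp, e, he⟩ ⟨hr, e', he'⟩
        refine ⟨mul_mem hp hr, xor e e', ?_⟩
        have cm : Commute (pw z e) r := (pw_commute (h.central r hr) e).symm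
        calc c * (p * r) * c⁻¹ = c * p * c⁻¹ * (c * r * c⁻¹) := by group
          _ = p * (pw z e * r) * pw z e' := by rw [he, he']; group
          _ = p * r * (pw z e * pw z e') := by rw [cm.eq]; group
          _ = _ := by rw [pw_mul h.sq]
      inv_mem' := by
        rintro p ⟨hp, e, he⟩
        refine ⟨inv_mem hp, e, ?_⟩
        have cm : Commute (pw z e) p := (pw_commute (h.central p hp) e).symm
        have e2 : pw z e * pw z e = 1 := by rw [pw_mul h.sq]; simp
        calc c * p⁻¹ * c⁻¹ = (c * p * c⁻¹)⁻¹ := by group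
          _ = (pw z e)⁻¹ * p⁻¹ := by rw [he]; group
          _ = p⁻¹ * (pw z e)⁻¹ := (cm.inv_inv.eq)
          _ = _ := by rw [inv_eq_of_mul_eq_one_right e2] }
  have hKQ : K ≤ Q := fun p hp => hp.1
  let A : Subgroup G := zpowers z
  have hAK : A ≤ K := zpowers_le.mpr ⟨h.mem, false, by rw [conj_of_commute hcz]; simp⟩
  have hfK : ∀ {p}, p ∈ Q → f p ∈ K := by
    intro p hp
    obtain ⟨i, hi⟩ := exists_sq h (fmem hp)
    have e1 : c * f p * c⁻¹ = (f p)⁻¹ := by
      simp only [f]
      have hci : c⁻¹ = c := inv_eq_of_mul_eq_one_right hc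
      calc c * (c * p * c⁻¹ * p⁻¹) * c⁻¹ = (c * c) * p * c⁻¹ * p⁻¹ * c⁻¹ := by group
        _ = p * c * p⁻¹ * c⁻¹ := by rw [hc, hci, one_mul]
        _ = _ := by group
    refine ⟨fmem hp, i, ?_⟩
    rw [e1, ← hi]
    have e2 : f p * f p * (f p * f p) = 1 := by rw [hi, pw_mul h.sq]; simp
    exact inv_eq_of_mul_eq_one_right (by rw [← e2]; group)
  have key : ∀ {p r}, p ∈ Q → r ∈ Q → (f p)⁻¹ * f r ∈ A → p⁻¹ * r ∈ K := by
    intro p r hp hr hpr
    obtain ⟨e, he⟩ : ∃ e, f r = f p * pw z e := by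
      obtain ⟨n, hn⟩ := mem_zpowers_iff.mp hpr
      rcases Int.even_or_odd n with ⟨k, rfl⟩ | ⟨k, rfl⟩
      · refine ⟨false, ?_⟩
        rw [← two_mul, zpow_mul, zpow_two, h.sq, one_zpow] at hn
        rw [pw_false, mul_one]; exact (inv_mul_eq_one.mp hn.symm).symm
      · refine ⟨true, ?_⟩
        rw [zpow_add, zpow_one, zpow_mul, zpow_two, h.sq, one_zpow, one_mul] at hn
        rw [pw_true, hn, mul_inv_cancel_left]
    obtain ⟨e', he'⟩ : ∃ e', p⁻¹ * r * p * r⁻¹ = pw z e' := by
      refine ⟨fl p⁻¹ r, ?_⟩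
      have := fl_spec h (inv_mem hp) hr
      rw [inv_inv] at this
      rw [this, ← (pw_commute (h.central r hr) _).eq.symm]
      group
    refine ⟨mul_mem (inv_mem hp) hr, e, ?_⟩
    calc c * (p⁻¹ * r) * c⁻¹ = (c * p * c⁻¹)⁻¹ * (c * r * c⁻¹) := by group
      _ = p⁻¹ * ((f p)⁻¹ * f r) * r := by simp only [f]; group
      _ = p⁻¹ * (pw z e * r) := by rw [he]; group
      _ = _ := by rw [← (pw_commute (h.central r hr) e).eq]; group
  have hidx : Nat.card (↥Q ⧸ K.subgroupOf Q) ≤ Nat.card (↥K ⧸ A.subgroupOf K) := by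
    refine Nat.card_le_card_of_injective
      (fun i => QuotientGroup.mk (⟨f (Quotient.out i : Q), hfK (Quotient.out i : Q).2⟩ : K)) fun i j e => ?_
    rw [← Quotient.out_eq' i, ← Quotient.out_eq' j]
    refine QuotientGroup.eq.mpr (mem_subgroupOf.mpr (key (Quotient.out i : Q).2 (Quotient.out j : Q).2 ?_))
    exact mem_subgroupOf.mp (QuotientGroup.eq.mp e)
  have hQ := card_eq_card_quotient_mul_card_subgroup (K.subgroupOf Q)
  rw [Nat.card_congr (subgroupOfEquivOfLe hKQ).toEquiv, d.cardQ] at hQ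
  have hK := card_eq_card_quotient_mul_card_subgroup (A.subgroupOf K)
  rw [Nat.card_congr (subgroupOfEquivOfLe hAK).toEquiv, Nat.card_zpowers,
    orderOf_eq_prime (by rw [pow_two]; exact h.sq) h.ne_one] at hK
  have hK32 : 32 ≤ Nat.card K := by
    by_contra hlt
    have : Nat.card (↥Q ⧸ K.subgroupOf Q) * Nat.card K ≤ 15 * 31 := Nat.mul_le_mul (by omega) (by omega)
    omega
  have h2 := card_le_conj K c {c, c * z} (Set.toFinite _) (fun p hp => by
    obtain ⟨hpQ, e, he⟩ := hp
    have hd : c = p * pw z e * c * p⁻¹ := by rw [← he]; group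
    have e2 : p * c * p⁻¹ = c * pw z e := by
      calc p * c * p⁻¹ = p * (pw z e * pw z e) * c * p⁻¹ := by rw [pw_mul h.sq]; simp
        _ = p * pw z e * (pw z e * c) * p⁻¹ := by group
        _ = p * pw z e * c * (pw z e * p⁻¹) := by rw [← (hzp e).eq]; group
        _ = (p * pw z e * c * p⁻¹) * pw z e := by
          rw [← ((pw_commute (h.central p hpQ) e).inv_left).eq]; group
        _ = _ := by rw [← hd]
    rw [e2]
    cases e <;> simp)
  have hT : Nat.card ↥({c, c * z} : Set G) ≤ 2 := by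
    rw [Nat.card_coe_set_eq]
    exact (Set.ncard_insert_le _ _).trans (by simp)
  have hsub : Nat.card ↥(K ⊓ centralizer ({c} : Set G)) ≤ Nat.card ↥(Q ⊓ centralizer ({c} : Set G)) :=
    Subgroup.card_le_of_le (inf_le_inf_right _ hKQ)
  nlinarith

theorem card_le_eight (d : Data z Q) {H : Subgroup G} (hH : H ≤ Q)
    (hno : ∀ p ∈ H, ¬ Sing z Q p) : Nat.card H ≤ 8 := by
  classical
  have h := d.hub
  let Tz : G → Prop := fun p => p = 1 ∨ p = z
  have hsq : ∀ p ∈ H, ¬ Tz p → p * p = z := fun p hp hT => by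
    rcases h.sq_cases p (hH hp) with e | e
    · exact absurd ⟨hH hp, e, fun e1 => hT (Or.inl e1), fun e2 => hT (Or.inr e2)⟩ (hno p hp)
    · exact e
  have hanti : ∀ p r, p ∈ H → r ∈ H → ¬ Tz p → ¬ Tz r → ¬ Tz (p * r) → fl r p = true := by
    intro p r hp hr hTp hTr hTpr
    have e := sq_mul h (hH hp) (hH hr) (i := true) (j := true) (by rw [hsq p hp hTp]; rfl)
      (by rw [hsq r hr hTr]; rfl)
    rw [hsq _ (mul_mem hp hr) hTpr] at e
    have := pw_inj h.ne_one (show pw z true = pw z (fl r p) by simpa using e)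
    exact this.symm
  have hz1 : ∀ {p}, Tz p → ∀ r, Tz (p * r) → Tz r := by
    rintro p (rfl | rfl) r (e | e)
    · exact Or.inl (by simpa using e)
    · exact Or.inr (by simpa using e)
    · exact Or.inr (mul_left_cancel (e.trans h.sq.symm))
    · exact Or.inl (by simpa using e)
  obtain ⟨p₀, r₀, hall⟩ : ∃ p₀ r₀ : G, ∀ s ∈ H, ∃ i j k, s = pw p₀ i * pw r₀ j * pw z k := by
    by_cases hp : ∀ p ∈ H, Tz p
    · refine ⟨1, 1, fun s hs => ?_⟩
      rcases hp s hs with e | e
      exacts [⟨false, false, false, by simpa using e⟩, ⟨false, false, true, by simpa using e⟩]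
    push Not at hp
    obtain ⟨p, hp, hTp⟩ := hp
    have tzk : ∀ {u}, Tz u → ∃ k, u = pw z k := by
      rintro u (rfl | rfl)
      exacts [⟨false, rfl⟩, ⟨true, rfl⟩]
    by_cases hr : ∀ r ∈ H, Tz r ∨ Tz (p * r)
    · refine ⟨p, 1, fun s hs => ?_⟩
      rcases hr s hs with hT | hT
      · obtain ⟨k, rfl⟩ := tzk hT
        exact ⟨false, false, k, by simp⟩
      · obtain ⟨k, hk⟩ := tzk hT
        refine ⟨true, false, xor k true, ?_⟩
        have hs' : s = p⁻¹ * pw z k := by rw [← hk, inv_mul_cancel_left]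
        have hpi : p⁻¹ = p * z := inv_eq_of_mul_eq_one_right (by rw [← mul_assoc, hsq p hp hTp, h.sq])
        rw [hs', hpi, mul_assoc, show z * pw z k = pw z true * pw z k from rfl, pw_mul h.sq]
        simp [Bool.xor_comm]
    push Not at hr
    obtain ⟨r, hr, hTr, hTpr⟩ := hr
    refine ⟨p, r, fun s hs => ?_⟩
    by_cases hTs : Tz s
    · obtain ⟨k, rfl⟩ := tzk hTs
      exact ⟨false, false, k, by simp⟩
    by_cases h1 : Tz (p * s)
    · obtain ⟨k, hk⟩ := tzk h1
      refine ⟨true, false, xor k true, ?_⟩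
      have hpi : p⁻¹ = p * z := inv_eq_of_mul_eq_one_right (by rw [← mul_assoc, hsq p hp hTp, h.sq])
      rw [show s = p⁻¹ * (p * s) by group, hk, hpi, mul_assoc,
        show z * pw z k = pw z true * pw z k from rfl, pw_mul h.sq]
      simp [Bool.xor_comm]
    by_cases h2 : Tz (r * s)
    · obtain ⟨k, hk⟩ := tzk h2
      refine ⟨false, true, xor k true, ?_⟩
      have hri : r⁻¹ = r * z := inv_eq_of_mul_eq_one_right (by rw [← mul_assoc, hsq r hr hTr, h.sq])
      rw [show s = r⁻¹ * (r * s) by group, hk, hri, mul_assoc,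
        show z * pw z k = pw z true * pw z k from rfl, pw_mul h.sq]
      simp [Bool.xor_comm]
    have h3 : Tz (p * r * s) := by
      by_contra h3
      have a := hanti (p * r) s (mul_mem hp hr) hs hTpr hTs h3
      rw [fl_mul_right h (hH hp) (hH hr) (hH hs), hanti p s hp hs hTp hTs h1,
        hanti r s hr hs hTr hTs h2] at a
      exact Bool.noConfusion a
    obtain ⟨k, hk⟩ := tzk h3
    refine ⟨true, true, xor k true, ?_⟩
    have hpr : (p * r)⁻¹ = p * r * z :=
      inv_eq_of_mul_eq_one_right (by rw [← mul_assoc, hsq _ (mul_mem hp hr) hTpr, h.sq])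
    rw [show s = (p * r)⁻¹ * (p * r * s) by group, hk, hpr, mul_assoc,
      show z * pw z k = pw z true * pw z k from rfl, pw_mul h.sq]
    simp [Bool.xor_comm]
  choose i j k hs using hall
  refine le_of_le_of_eq (Nat.card_le_card_of_injective
    (fun s : H => ((i s s.2, j s s.2, k s s.2) : Bool × Bool × Bool)) fun s s' e => ?_) (by simp)
  simp only [Prod.mk.injEq] at e
  refine Subtype.ext ((hs s s.2).trans ?_)
  rw [e.1, e.2.1, e.2.2]
  exact (hs s' s'.2).symm

theorem exists_sing_commute (d : Data z Q) {c : G} (hc : c * c = 1) (hcz : Commute c z) :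
    ∃ p, Sing z Q p ∧ Commute c p := by
  by_contra hno
  push Not at hno
  have h1 := sixteen_le_cQ d hc hcz
  have h2 := card_le_eight d (H := Q ⊓ centralizer ({c} : Set G)) inf_le_left fun p hp hs =>
    hno p hs (mem_cz.mp (Subgroup.mem_inf.mp hp).2).symm
  omega

end Cfsg.Agent.ConwayType
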