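import Cfsg.Agent.Lib.ConwayType.Pure
import Cfsg.Agent.Lib.ConwayType.Small

/-!
# Every involution is conjugate to `z`, `uu` or `tt`
-/

set_option autoImplicit false
set_option maxHeartbeats 400000
set_option synthInstance.maxSize 2048

namespace Cfsg.Agent.ConwayType

open Subgroup
open Cfsg.Agent.LargeExtraspecial (Hub)

/-- `(0 1)(2 3)`. -/
def p2 : Equiv.Perm (Fin 8) := Equiv.swap 0 1 * Equiv.swap 2 3
/-- `(4 5)(6 7)`. -/
def p2' : Equiv.Perm (Fin 8) := Equiv.swap 4 5 * Equiv.swap 6 7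
/-- `(0 1)(2 3)(4 5)(6 7)`. -/
def p4 : Equiv.Perm (Fin 8) := p2 * p2'
/-- The vector `{0, 2, 4, 6}`. -/
def rE : W := (true, false, true, false, true, false)

/-- The commutators of `p4`. -/
def inR4 (u : W) : Bool :=
  decide (u = w0) || decide (u = rS) || decide (u = rS') || decide (u = add rS rS')

theorem p2_facts : q (add (act p2 (pr 0 4)) (pr 0 4)) = true ∧
    add (pr 0 4) (act p2 (pr 0 4)) = rN ∧ p2 * p2 = 1 ∧ Equiv.Perm.sign p2 = 1 ∧
    add (pr 0 2) (act p2 (pr 0 2)) = rS := by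
  refine ⟨by decide +kernel, by decide +kernel, by decide +kernel, ?_, by decide +kernel⟩
  rw [p2, map_mul, Equiv.Perm.sign_swap (by decide), Equiv.Perm.sign_swap (by decide)]; rfl

theorem p2'_facts : p2' * p2' = 1 ∧ Equiv.Perm.sign p2' = 1 ∧ act p2' rN = rN ∧
    cyc (0, 1, 2) * p2' * (cyc (0, 1, 2))⁻¹ = p2' ∧ Equiv.Perm.sign (cyc (0, 1, 2)) = 1 ∧
    act (cyc (0, 1, 2)) rN = pr 1 2 ∧ act (cyc (0, 1, 2)) (pr 1 2) = pr 0 2 ∧
    act p2' (pr 1 2) = pr 1 2 ∧ add rN (pr 1 2) = pr 0 2 := by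
  refine ⟨by decide +kernel, ?_, by decide +kernel, by decide +kernel, ?_, by decide +kernel,
    by decide +kernel, by decide +kernel, by decide +kernel⟩
  · rw [p2', map_mul, Equiv.Perm.sign_swap (by decide), Equiv.Perm.sign_swap (by decide)]; rfl
  · rw [cyc, map_mul, Equiv.Perm.sign_swap (by decide), Equiv.Perm.sign_swap (by decide)]; rfl

theorem p4_facts : p4 * p4 = 1 ∧ act p4 rN = rN ∧ act p4 rE = rE ∧ act p2 rN = rN ∧
    add (pr 0 2) (act p4 (pr 0 2)) = rS ∧ q rS = false := by decide +kernel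

theorem p4_inR : ∀ u : W, inR4 (add u (act p4 u)) = true := by decide +kernel

theorem inR4_exists : ∀ u : W, inR4 u = true → ∃ a, add a (act p4 a) = u := by decide +kernel

theorem p4_triv : ∀ u : W, B u rS = false → add u (act p4 u) = w0 ∨ add u (act p4 u) = rS := by
  decide +kernel

theorem p2_sq : ∀ u : W, q (add u (act p2 u)) = B u rS := by decide +kernel

theorem p4_mod : ∀ u : W, act p4 u = u →
    inR4 (add u (add (smul (B u rE) rN) (smul (B u rN) rE))) = true := by decide +kernel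

theorem p4_final : ∀ (l : Bool) (w v : W), act p4 w = w → act p4 v = v →
    xor (xor (q w) (B w v)) (xor (B w rE) (l && B w rN)) = false →
    xor (xor (q (add w v)) (B w v)) (xor (B (add w v) rE) (l && B (add w v) rN)) = false →
    inR4 v = true ∨ inR4 w = true ∨ inR4 (add w v) = true := by decide +kernel

theorem kill : ∀ w v : W, v ≠ w0 → xor (q v) (B w v) = false → xor (q w) (B w v) = false →
    ∀ a b : Bool, ∃ w' v', cy w' v' w v = a ∧ cz w' v' w v = b := by decide +kernel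

theorem comm_orth {π : Equiv.Perm (Fin 8)} (a : W) {v : W} (hv : act π v = v) :
    B v (add a (act π a)) = false := by
  rw [B_add_right]
  conv_lhs => arg 2; rw [← hv, B_act]
  exact Bool.xor_self _

/-- An involution of the alternating group is conjugate in it to `p2` or `p4`. -/
theorem even_involution {π : Equiv.Perm (Fin 8)} (hs : Equiv.Perm.sign π = 1) (h2 : π * π = 1)
    (h1 : π ≠ 1) : ∃ η : Equiv.Perm (Fin 8), Equiv.Perm.sign η = 1 ∧
      (η * π * η⁻¹ = p2 ∨ η * π * η⁻¹ = p4) := by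
  have hord : ∀ σ : Equiv.Perm (Fin 8), σ * σ = 1 → σ ≠ 1 →
      ∃ n, σ.cycleType = Multiset.replicate n 2 ∧ σ.support.card = n * 2 := by
    intro σ e ne
    have ho := orderOf_eq_prime (p := 2) (by rw [pow_two]; exact e) ne
    obtain ⟨n, hn⟩ := Equiv.Perm.cycleType_prime_order (σ := σ) (by rw [ho]; exact Nat.prime_two)
    rw [ho] at hn
    refine ⟨n + 1, hn, ?_⟩
    rw [← Equiv.Perm.sum_cycleType, hn, Multiset.sum_replicate, smul_eq_mul]
  obtain ⟨n, hn, hc⟩ := hord π h2 h1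
  have hn8 : n * 2 ≤ 8 := by
    rw [← hc]; exact (Finset.card_le_univ _).trans (by simp)
  have hsig := Equiv.Perm.sign_of_cycleType π
  rw [hs, hn, Multiset.sum_replicate, Multiset.card_replicate, smul_eq_mul] at hsig
  have hn0 : n ≠ 0 := fun e => by
    rw [e, Multiset.replicate_zero, Equiv.Perm.cycleType_eq_zero] at hn
    exact h1 hn
  have hn24 : n = 2 ∨ n = 4 := by
    rcases (by omega : n = 1 ∨ n = 2 ∨ n = 3 ∨ n = 4) with rfl | rfl | rfl | rfl
    · exact absurd hsig (by decide)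
    · exact Or.inl rfl
    · exact absurd hsig (by decide)
    · exact Or.inr rfl
  have conj : ∀ σ : Equiv.Perm (Fin 8), σ * σ = 1 → σ ≠ 1 → σ.support.card = n * 2 →
      Equiv.swap 0 1 * σ * (Equiv.swap (0 : Fin 8) 1)⁻¹ = σ →
      ∃ η : Equiv.Perm (Fin 8), Equiv.Perm.sign η = 1 ∧ η * π * η⁻¹ = σ := by
    intro σ e ne hcard hsw
    obtain ⟨m, hm, hm'⟩ := hord σ e ne
    have hmn : m = n := by omega
    obtain ⟨η, hη⟩ := isConj_iff.mp (Equiv.Perm.isConj_of_cycleType_eq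
      (show π.cycleType = σ.cycleType by rw [hn, hm, hmn]))
    rcases Int.units_eq_one_or (Equiv.Perm.sign η) with hh | hh
    · exact ⟨η, hh, hη⟩
    · refine ⟨Equiv.swap 0 1 * η, ?_, ?_⟩
      · rw [map_mul, hh, Equiv.Perm.sign_swap (by decide)]; rfl
      · rw [show Equiv.swap 0 1 * η * π * (Equiv.swap 0 1 * η)⁻¹ =
          Equiv.swap 0 1 * (η * π * η⁻¹) * (Equiv.swap (0 : Fin 8) 1)⁻¹ by group, hη, hsw]
  rcases hn24 with rfl | rfl
  · obtain ⟨η, a, b⟩ := conj p2 (by decide +kernel) (by decide +kernel) (by decide +kernel)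
      (by decide +kernel)
    exact ⟨η, a, Or.inl b⟩
  · obtain ⟨η, a, b⟩ := conj p4 (by decide +kernel) (by decide +kernel) (by decide +kernel)
      (by decide +kernel)
    exact ⟨η, a, Or.inr b⟩

variable {G : Type*} [Group G] [Finite G] {z y : G} {Q : Subgroup G} {F : Frame z y Q}
  {R : Radical F}

/-- Every involution commutes with a conjugate of `z`. -/
theorem Data.exists_conj_cz (d : Data z Q) {x : G} (hx : x * x = 1) :
    ∃ g : G, Commute (g * x * g⁻¹) z := by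
  have : Fact (Nat.Prime 2) := ⟨Nat.prime_two⟩
  set C := centralizer ({z} : Set G)
  have hQn : (Q.subgroupOf C).Normal := ⟨fun q hq c =>
    mem_subgroupOf.mpr (d.hub.normalizes c (mem_cz.mp c.2) _ (mem_subgroupOf.mp hq))⟩
  have hQ2 : IsPGroup 2 ↥(Q.subgroupOf C) := IsPGroup.of_card (n := 9)
    ((Nat.card_congr (subgroupOfEquivOfLe d.le).toEquiv).trans d.cardQ)
  let P : Sylow 2 ↥C := Classical.arbitrary _
  have hQP : Q.subgroupOf C ≤ P := by
    have := P.is_maximal' (hQ2.to_sup_of_normal_left P.2) le_sup_right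
    exact this ▸ le_sup_left
  set T2 : Subgroup G := (P : Subgroup ↥C).map C.subtype
  have hT2C : T2 ≤ C := map_subtype_le _
  have hQT2 : Q ≤ T2 := fun q hq => ⟨⟨q, d.le hq⟩, hQP (mem_subgroupOf.mpr hq), rfl⟩
  obtain ⟨T, hT⟩ := (P.2.map C.subtype : IsPGroup 2 ↥T2).exists_le_sylow
  have hTC : (T : Subgroup G) ≤ C := by
    by_cases hlt : T2 = T
    · exact hlt ▸ hT2C
    exfalso
    have hlt' : T2.subgroupOf T < ⊤ :=
      lt_top_iff_ne_top.mpr fun e => hlt (le_antisymm hT (subgroupOf_eq_top.mp e))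
    have : Group.IsNilpotent ↥(T : Subgroup G) := T.2.isNilpotent
    obtain ⟨n, hn, hn'⟩ := SetLike.exists_of_lt (Group.normalizerCondition_of_isNilpotent _ hlt')
    have hnN : (n : G) ∈ normalizer (T2 : Set G) := mem_normalizer_iff.mpr fun x => by
      have h := mem_normalizer_iff.mp hn
      constructor
      · exact fun hx => mem_subgroupOf.mp ((h ⟨x, hT hx⟩).mp (mem_subgroupOf.mpr hx))
      · intro hx
        have hxT : x ∈ (T : Subgroup G) := by
          have := mul_mem (mul_mem (inv_mem n.2) (hT hx)) n.2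
          simpa [mul_assoc] using this
        exact mem_subgroupOf.mp ((h ⟨x, hxT⟩).mpr (mem_subgroupOf.mpr hx))
    have hc : Commute (n : G) z := by
      refine mul_inv_eq_iff_eq_mul.mp ((d.hub.self _ fun q hq => ?_).resolve_left
        fun e => d.hub.ne_one (by simpa using e))
      have hq' : (n : G)⁻¹ * q * n ∈ T2 := by
        have := (mem_normalizer_iff.mp (inv_mem hnN) q).mp (hQT2 hq)
        simpa using this
      have hcom : Commute z ((n : G)⁻¹ * q * n) := (mem_cz.mp (hT2C hq')).symm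
      have := hcom.map (MulAut.conj (n : G)).toMonoidHom
      simpa [mul_assoc] using this
    let N : Subgroup G := ((T2.subgroupOf T) ⊔ zpowers n).map (T : Subgroup G).subtype
    have hNC : N ≤ C := by
      rw [map_le_iff_le_comap, sup_le_iff, zpowers_le]
      exact ⟨fun x hx => hT2C (mem_subgroupOf.mp hx), mem_cz.mpr hc⟩
    have hT2N : T2 ≤ N := fun x hx => ⟨⟨x, hT hx⟩, mem_sup_left (mem_subgroupOf.mpr hx), rfl⟩
    have hN2 : IsPGroup 2 ↥(N.subgroupOf C) :=
      (T.2.to_le (map_subtype_le _ : N ≤ T)).of_equiv (subgroupOfEquivOfLe hNC).symm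
    have hPN : (P : Subgroup ↥C) ≤ N.subgroupOf C := fun x hx =>
      mem_subgroupOf.mpr (hT2N ⟨x, hx, rfl⟩)
    have hNP := P.is_maximal' hN2 hPN
    have hnP : (⟨(n : G), mem_cz.mpr hc⟩ : ↥C) ∈ (P : Subgroup ↥C) :=
      hNP ▸ mem_subgroupOf.mpr ⟨n, mem_sup_right (mem_zpowers n), rfl⟩
    exact hn' (mem_subgroupOf.mpr ⟨_, hnP, rfl⟩)
  have h2 : IsPGroup 2 ↥(zpowers x) := by
    rintro ⟨w, hw⟩
    obtain ⟨i, rfl⟩ := mem_zpowers_iff.mp hw
    refine ⟨1, Subtype.ext ?_⟩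
    show (x ^ i) ^ 2 ^ 1 = 1
    rw [pow_one, ← zpow_natCast, ← zpow_mul, mul_comm, zpow_mul, zpow_natCast, pow_two, hx, one_zpow]
  obtain ⟨S, hS⟩ := h2.exists_le_sylow
  obtain ⟨g, hg⟩ := MulAction.exists_smul_eq G S T
  refine ⟨g, mem_cz.mp (hTC ?_)⟩
  rw [← hg]
  exact ⟨x, hS (mem_zpowers x), rfl⟩

/-- The three representatives. -/
def Three (R : Radical F) (x : G) : Prop :=
  IsConj z x ∨ IsConj (R.el rN' rN false false) x ∨ IsConj (R.el rS' rS false false) x

theorem Three.of_conj {x : G} (g : G) (h : Three R (g * x * g⁻¹)) : Three R x := by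
  have e : IsConj (g * x * g⁻¹) x := isConj_iff.mpr ⟨g⁻¹, by group⟩
  exact h.imp (fun a => a.trans e) (Or.imp (fun a => a.trans e) (fun a => a.trans e))

theorem conj_sing (d : Data z Q) (T : Twist R) {p : G} (hp : Sing z Q p) : IsConj z p := by
  obtain ⟨htrans, -⟩ := F.orders d
  obtain ⟨c, -, hc⟩ := htrans p hp
  exact (isConj_iff.mpr ⟨T.h, T.h_z⟩).trans (isConj_iff.mpr ⟨c, hc⟩)

theorem el_normal (d : Data z Q) {w v : W} (hv : v ≠ w0) {a b : Bool}
    (h : R.el w v a b * R.el w v a b = 1) :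
    (xor (q v) (B w v) = false ∧ xor (q w) (B w v) = false) ∧
      ∀ a' b', ∃ c ∈ Dzy z y, c * R.el w v a b * c⁻¹ = R.el w v a' b' := by
  have hs : xor (q v) (B w v) = false ∧ xor (q w) (B w v) = false := by
    rw [R.el_sq d] at h
    exact pw_yz_inj d.hub F.sing (h.trans (by simp))
  refine ⟨hs, fun a' b' => ?_⟩
  obtain ⟨w', v', h1, h2⟩ := kill w v hv hs.1 hs.2 (xor a a') (xor b b')
  refine ⟨R.el w' v' false false, R.el_mem d _ _ _ _, ?_⟩
  rw [R.el_conj d, h1, h2, R.el_kk d]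
  cases a <;> cases a' <;> cases b <;> cases b' <;> rfl

theorem el_class (d : Data z Q) (T : Twist R) {w v : W} {a b : Bool}
    (h : R.el w v a b * R.el w v a b = 1) (h1 : R.el w v a b ≠ 1) : Three R (R.el w v a b) := by
  by_cases hv : v = w0
  · subst hv
    left
    have hm : R.el w w0 a b = F.m w * R.kk a b := by rw [Radical.el, R.zero, mul_one]
    have hQ : R.el w w0 a b ∈ Q :=
      hm ▸ mul_mem (F.mem w) (mul_mem (pw_mem F.sing.1 a) (pw_mem d.hub.mem b))
    by_cases hz : R.el w w0 a b = z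
    · rw [hz]
    · exact conj_sing d T ⟨hQ, h, h1, hz⟩
  obtain ⟨⟨e1, e2⟩, hk⟩ := el_normal d hv h
  have toC : ∀ {w₀ v₀ : W} {π : Equiv.Perm (Fin 8)}, Equiv.Perm.sign π = 1 → act π w₀ = w →
      act π v₀ = v → IsConj (R.el w₀ v₀ false false) (R.el w v a b) := by
    intro w₀ v₀ π hπ hw' hv'
    obtain ⟨-, -, hA, -⟩ := F.orders d
    obtain ⟨c, hc, hact⟩ := hA π hπ
    obtain ⟨a', b', e⟩ := R.el_conj_D d hc w₀ v₀ false false
    rw [hact, hact, hw', hv'] at e
    obtain ⟨c', -, hc'⟩ := hk a' b'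
    exact (isConj_iff.mpr ⟨c, e⟩).trans (isConj_iff.mpr ⟨c', hc'⟩).symm
  cases hB : B w v
  · rw [hB, Bool.xor_false] at e1 e2
    have hn : ∀ a' b', R.el w0 v a' b' * R.el w0 v a' b' = 1 → IsConj z (R.el w0 v a' b') := by
      intro a' b' h'
      obtain ⟨-, hk'⟩ := el_normal d hv h'
      obtain ⟨c, -, hc⟩ := hk' false false
      have := R.sing v hv e1
      rw [R.n_eq d] at this
      exact this.trans (isConj_iff.mpr ⟨c, hc⟩).symm
    by_cases hw : w = w0
    · subst hw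
      exact Or.inl (hn a b h)
    by_cases hwv : w = v
    · left
      subst hwv
      obtain ⟨a', b', e⟩ := x_conj d R w w a b
      rw [add_self] at e
      have := hn a' b' (by rw [← e]; exact conj_sq h)
      rw [← e] at this
      exact this.trans (isConj_iff.mpr ⟨F.x⁻¹, by group⟩)
    obtain ⟨π, hπ, hw', hv'⟩ := even_orbit_SS e1 e2 hB hv hw hwv
    exact Or.inr (Or.inr (toC hπ hw' hv'))
  · rw [hB] at e1 e2
    obtain ⟨π, hπ, hw', hv'⟩ := even_orbit_NN (by simpa using e1) (by simpa using e2) hB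
    exact Or.inr (Or.inl (toC hπ hw' hv'))

/-- Normal form of an involution of `C(z) ∩ C(y)` over a permutation `π`. -/
def Form (R : Radical F) (π : Equiv.Perm (Fin 8)) (w v : W) (t : G) : Prop :=
  ∃ a b s, Pure R π s ∧ act π w = w ∧ act π v = v ∧ t * t = 1 ∧ t = R.el w v a b * s

theorem Form.mem (d : Data z Q) {π : Equiv.Perm (Fin 8)} {w v : W} {t : G} (h : Form R π w v t) :
    t ∈ Dzy z y ∧ (∀ u, F.actW t u = act π u) ∧ F.vof t = v := by
  obtain ⟨a, b, s, hs, -, -, -, rfl⟩ := h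
  refine ⟨mul_mem (R.el_mem d _ _ _ _) hs.1, fun u => ?_, ?_⟩
  · rw [F.actW_mul d (R.el_mem d _ _ _ _) hs.1, R.el_act d, hs.actW d]
  · rw [F.vof_mul d (R.el_mem d _ _ _ _) hs.1, R.el_vof d, hs.vof d, R.el_act d, (add_zero' _).1]

theorem Form.shift (d : Data z Q) {π : Equiv.Perm (Fin 8)} (hπ : π * π = 1) {w v : W} {t : G}
    (h : Form R π w v t) (A A' : W) :
    ∃ g, Form R π (add w (add A (act π A))) (add v (add A' (act π A'))) (g * t * g⁻¹) := by
  obtain ⟨a, b, s, hs, hw, hv, ht, rfl⟩ := h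
  set o := R.el A A' false false
  obtain ⟨a₁, b₁, e₁⟩ := R.el_inv d A A' false false
  obtain ⟨a₂, b₂, e₂⟩ := R.el_conj_D d hs.1 A A' a₁ b₁
  rw [hs.actW d, hs.actW d, ← e₁] at e₂
  have e3 : o * R.el w v a b * o⁻¹ = R.el w v (xor a (cy A A' w v)) (xor b (cz A A' w v)) := by
    rw [R.el_conj d, R.el_kk d]
  obtain ⟨a₃, b₃, e₄⟩ := R.el_mul d A A' (act π A) (act π A') false false a₂ b₂
  obtain ⟨a₄, b₄, e₅⟩ := R.el_mul d w v (add A (act π A)) (add A' (act π A'))
    (xor a (cy A A' w v)) (xor b (cz A A' w v)) a₃ b₃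
  have haa : ∀ u, act π (act π u) = u := fun u => by rw [← act_mul, hπ, act_one]
  refine ⟨o, a₄, b₄, s, hs, ?_, ?_, conj_sq ht, ?_⟩
  · rw [act_add, act_add, hw, haa, add_comm' (act π A)]
  · rw [act_add, act_add, hv, haa, add_comm' (act π A')]
  · calc o * (R.el w v a b * s) * o⁻¹
        = (o * R.el w v a b * o⁻¹) * (o * (s * o⁻¹ * s⁻¹)) * s := by group
      _ = _ := by rw [e3, e₂, e₄, e₅]

theorem Form.commute_m (d : Data z Q) (T : Twist R) {π : Equiv.Perm (Fin 8)} (hπ : π * π = 1)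
    {w v : W} {t : G} (h : Form R π w v t) {a : W} (hr : q (add a (act π a)) = false) :
    Commute t (F.m (add a (act π a))) := by
  obtain ⟨s', s'', s, hs, hw, hv, -, rfl⟩ := h
  set r := add a (act π a)
  have hfix : act π r = r := by rw [act_add, ← act_mul, hπ, act_one, add_comm']
  have h1 := hs.lam_spec r
  rw [hs.lam_comm d T hπ a, hr, pw_false, mul_one, hfix] at h1
  have h2 : Commute (R.el w v s' s'') (F.m r) := by
    rw [R.m_eq d]
    refine (R.el_commute d).mpr ⟨?_, ?_⟩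
    · rw [cy, B_w0, B_w0, B_symm r, comm_orth a hv]; rfl
    · rw [cz, B_w0, comm_orth a hw, B_symm r, comm_orth a hv]; rfl
  exact h2.mul_left (mul_inv_eq_iff_eq_mul.mp h1)

/-- Every element of `C(z) ∩ C(y)` of order two over `π` has normal form. -/
theorem exists_form (d : Data z Q) (T : Twist R) {t : G} (ht : t * t = 1) (htD : t ∈ Dzy z y) :
    (∃ w v a b, t = R.el w v a b) ∨
      ∃ g η π w v, Pure R η g ∧ (π = p2 ∨ π = p4) ∧ Form R π w v (g * t * g⁻¹) := by
  obtain ⟨π, w, v, a, b, s, hπ, hact, hs, rfl⟩ := Pure.el_decomp d R htD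
  have hπ2 : π * π = 1 := by
    refine act_inj fun u => ?_
    rw [act_mul, ← hact, ← hact, ← F.actW_mul d htD htD, ht, F.actW_one d, act_one]
  by_cases h1 : π = 1
  · left
    obtain ⟨a', b', rfl⟩ := (h1 ▸ hs).eq_kk d
    exact ⟨w, v, _, _, R.el_kk d _ _ _ _ _ _⟩
  right
  obtain ⟨η, hη, hcases⟩ := even_involution hπ hπ2 h1
  obtain ⟨c, hc⟩ := exists_pure_of_even d R hη
  obtain ⟨a₁, b₁, e₁⟩ := R.el_conj_D d hc.1 w v a b
  rw [hc.actW d, hc.actW d] at e₁
  set t' := c * (R.el w v a b * s) * c⁻¹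
  set σ := η * π * η⁻¹
  have hs' : Pure R σ (c * s * c⁻¹) := (hc.mul d hs).mul d (hc.inv d)
  have hσ : σ * σ = 1 := by
    rw [show σ * σ = η * (π * π) * η⁻¹ by simp only [σ]; group, hπ2]; group
  have ht' : t' = R.el (act η w) (act η v) a₁ b₁ * (c * s * c⁻¹) := by
    rw [← e₁]; simp only [t']; group
  have htt : t' * t' = 1 := conj_sq ht
  obtain ⟨a₂, b₂, e₂⟩ := R.el_conj_D d hs'.1 (act η w) (act η v) a₁ b₁
  rw [hs'.actW d, hs'.actW d] at e₂
  obtain ⟨a₃, b₃, e₃⟩ := R.el_mul d (act η w) (act η v) (act σ (act η w)) (act σ (act η v)) a₁ b₁ a₂ b₂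
  have e4 : R.el (add (act η w) (act σ (act η w))) (add (act η v) (act σ (act η v))) a₃ b₃ =
      R.el w0 w0 false false := by
    rw [R.el_zero d, ← htt, ht', ← e₃, ← e₂]
    calc _ = R.el (act η w) (act η v) a₁ b₁ * ((c * s * c⁻¹) * R.el (act η w) (act η v) a₁ b₁ *
          ((c * s * c⁻¹))⁻¹) * ((c * s * c⁻¹) * (c * s * c⁻¹)) := by
          rw [hs'.sq d T hσ, mul_one]
      _ = _ := by group
  obtain ⟨r1, r2, -, -⟩ := R.el_inj d e4
  exact ⟨c, η, σ, act η w, act η v, hc, hcases, a₁, b₁, c * s * c⁻¹, hs', (eq_of_add r1).symm,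
    (eq_of_add r2).symm, htt, ht'⟩

theorem wof_inv (d : Data z Q) {p : G} (hp : p ∈ Q) : F.wof p⁻¹ = F.wof p := by
  have h := F.wof_mul d.hub hp (inv_mem hp)
  rw [mul_inv_cancel, ← pw_false z, F.wof_z d.hub] at h
  exact (eq_of_add h.symm).symm

/-- The coordinates of a commutator with an element of `C_Q(z)`. -/
theorem comm_coord (d : Data z Q) {π : Equiv.Perm (Fin 8)} {t p : G} (htD : t ∈ Dzy z y)
    (hact : ∀ u, F.actW t u = act π u) (hp : p ∈ Q) :
    ∃ bx e, t * p * t⁻¹ * p⁻¹ =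
      F.elem false bx (add (add (smul (fl p y) (F.vof t)) (act π (F.wof p))) (F.wof p)) e ∧
        (F.vof t = w0 → bx = false) := by
  obtain ⟨htz, hty⟩ := mem_Dzy.mp htD
  have hq : t * p * t⁻¹ ∈ Q := d.hub.normalizes t htz p hp
  have hk : t * p * t⁻¹ * p⁻¹ ∈ Q := mul_mem hq (inv_mem hp)
  obtain ⟨e, he⟩ := F.exists_elem d hk
  refine ⟨fl (t * p * t⁻¹ * p⁻¹) F.x, e, ?_, fun hv => ?_⟩
  · rwa [fl_mul d.hub hq (inv_mem hp) F.sing.1, fl_conj_of_commute hty,
      fl_inv d.hub hp F.sing.1, Bool.xor_self, F.wof_mul d.hub hq (inv_mem hp),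
      F.wof_conj d htD hp, wof_inv d hp, hact] at he
  · obtain ⟨e', hx⟩ := F.conj_x d htD
    rw [hv, F.qc_eq d, show q w0 = false from rfl] at hx
    have hx' : t * F.x * t⁻¹ = F.x * pw z e' := by simpa [Frame.elem, F.zero] using hx
    have h2 : fl (t * p * t⁻¹) (t * F.x * t⁻¹) = fl p F.x := fl_conj
    rw [hx', fl_mul_right d.hub F.hx (pw_mem d.hub.mem e') hq, fl_pw_right, fl_symm _ z,
      fl_z d.hub hq, Bool.and_false, Bool.xor_false] at h2
    rw [fl_mul d.hub hq (inv_mem hp) F.hx, fl_inv d.hub hp F.hx, h2, Bool.xor_self]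

theorem m_sing (d : Data z Q) {r : W} (hr : q r = false) (h0 : r ≠ w0) : Sing z Q (F.m r) := by
  refine ⟨F.mem r, by rw [F.m_sq, F.qc_eq d, hr]; rfl, fun e => h0 ?_, fun e => h0 ?_⟩
  all_goals
    have := congrArg F.wof e
    rw [F.wof_m d.hub] at this
  · exact this.trans (F.wof_z d.hub false)
  · exact this.trans (F.wof_z d.hub true)

/-- Over `p4`, `v` a commutator: conjugate into the radical. -/
theorem caseA (d : Data z Q) (T : Twist R) {t : G} {w v : W} (h : Form R p4 w v t)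
    (h1 : t ≠ 1) (hv : inR4 v = true) : Three R t := by
  obtain ⟨A, hA⟩ := inR4_exists v hv
  obtain ⟨g, hg⟩ := h.shift d p4_facts.1 w0 A
  rw [hA, add_self, act_zero, add_self, (add_zero' w).1] at hg
  set t₁ := g * t * g⁻¹
  have h1' : t₁ ≠ 1 := fun e => h1 (by simpa [t₁] using e)
  refine Three.of_conj g ?_
  have hcomm : Commute t₁ (F.m rS) := by
    have := hg.commute_m d T p4_facts.1 (a := pr 0 2) (by rw [p4_facts.2.2.2.2.1]; rfl)
    rwa [p4_facts.2.2.2.2.1] at this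
  obtain ⟨htD, hact, hvof⟩ := hg.mem d
  obtain ⟨htrans, -⟩ := F.orders d
  obtain ⟨c, hcz, hc⟩ := htrans _ (m_sing d (F := F) (r := rS) rfl (by decide))
  refine Three.of_conj c⁻¹ ?_
  rw [inv_inv]
  set t₂ := c⁻¹ * t₁ * c
  have ht2D : t₂ ∈ Dzy z y := by
    refine mem_Dzy.mpr ⟨(hcz.inv_left.mul_left (mem_Dzy.mp htD).1).mul_left hcz, ?_⟩
    have := hcomm.map (MulAut.conj c⁻¹).toMonoidHom
    rw [← hc] at this
    simpa [t₂, mul_assoc] using this
  have htriv : ∀ u, F.actW t₂ u = u := by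
    intro u
    set p := c * F.m u * c⁻¹
    have hp : p ∈ Q := d.hub.normalizes c hcz _ (F.mem u)
    have hpc : fl p (F.m rS) = false := by
      rw [← hc, fl_conj, fl_eq_false]; exact F.comm_y u
    obtain ⟨e₀, he₀⟩ := F.exists_elem d hp
    have hB : B (F.wof p) rS = false := by rw [he₀, F.fl_m d.hub] at hpc; exact hpc
    obtain ⟨bx, e, hk, hbx⟩ := comm_coord d htD hact hp
    rw [hvof] at hk hbx
    rw [hbx rfl] at hk
    have hw : add (add (smul (fl p y) w0) (act p4 (F.wof p))) (F.wof p) =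
        add (F.wof p) (act p4 (F.wof p)) := by
      have : smul (fl p y) w0 = w0 := by cases fl p y <;> rfl
      rw [this, (add_zero' _).2, add_comm']
    rw [hw] at hk
    obtain ⟨s, hs⟩ : ∃ s, t₁ * p * t₁⁻¹ * p⁻¹ = pw (F.m rS) s * pw z e := by
      rcases p4_triv _ hB with e' | e' <;> rw [e'] at hk
      · exact ⟨false, by rw [hk]; simp [Frame.elem, F.zero]⟩
      · exact ⟨true, by rw [hk]; simp [Frame.elem]⟩
    have h2 : t₂ * F.m u * t₂⁻¹ = pw y s * pw z e * F.m u := by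
      have e1 : c⁻¹ * (t₁ * p * t₁⁻¹ * p⁻¹) * c * F.m u = t₂ * F.m u * t₂⁻¹ := by
        simp only [p, t₂]; group
      rw [← e1, hs]
      have e3 : c⁻¹ * pw (F.m rS) s * c = pw y s := by
        have := pw_conj (c := c⁻¹) (x := F.m rS) (y := y) (by rw [← hc]; group) s
        simpa using this
      rw [show c⁻¹ * (pw (F.m rS) s * pw z e) * c =
        (c⁻¹ * pw (F.m rS) s * c) * (c⁻¹ * pw z e * c⁻¹⁻¹) by group,
        e3, conj_of_commute (pw_commute hcz.inv_left e)]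
    show F.wof _ = u
    rw [h2, F.wof_mul d.hub (mul_mem (pw_mem F.sing.1 _) (pw_mem d.hub.mem _)) (F.mem u),
      F.wof_mul d.hub (pw_mem F.sing.1 _) (pw_mem d.hub.mem _), F.wof_y d.hub, F.wof_z d.hub,
      add_self, (add_zero' _).2, F.wof_m d.hub]
  obtain ⟨w', v', a', b', e⟩ := R.exists_el d ht2D htriv
  have hsq : t₂ * t₂ = 1 := by
    rw [show t₂ * t₂ = c⁻¹ * (t₁ * t₁) * c by simp only [t₂]; group,
      show t₁ * t₁ = 1 from (let ⟨_, _, _, _, _, _, h2, _⟩ := hg; h2)]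
    group
  rw [e] at hsq ⊢
  refine el_class d T hsq fun e' => h1' ?_
  rw [show t₁ = c * t₂ * c⁻¹ by simp only [t₂]; group, e, e']; group

theorem lam_p4 (d : Data z Q) (T : Twist R) {s : G} (hs : Pure R p4 s) :
    lam F p4 s rN = true := by
  obtain ⟨s₂, hs₂⟩ := exists_pure_of_even d R p2_facts.2.2.2.1
  obtain ⟨s', hs'⟩ := exists_pure_of_even d R p2'_facts.2.1
  obtain ⟨k, hk⟩ := exists_pure_of_even d R p2'_facts.2.2.2.2.1
  rw [hs.lam_indep d T (hs₂.mul d hs') p4_facts.1, show p4 = p2 * p2' from rfl,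
    hs₂.lam_mul d hs' p4_facts.2.2.2.1 p2'_facts.2.2.1]
  have h2 : lam F p2 s₂ rN = true := by
    rw [← p2_facts.2.1, hs₂.lam_comm d T p2_facts.2.2.1, p2_facts.2.1]; rfl
  obtain ⟨-, -, f1, hcomm, -, k1, k2, f2, fsum⟩ := p2'_facts
  have i1 := hs'.lam_invariant d T p2'_facts.1 hk hcomm f1
  have i2 := hs'.lam_invariant d T p2'_facts.1 hk hcomm f2
  rw [k1] at i1
  rw [k2, ← fsum, hs'.lam_add d f1 f2, i1] at i2
  have h' : lam F p2' s' rN = false := by revert i2; cases lam F p2' s' rN <;> simp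
  rw [h2, h']; rfl

theorem lam_p4_eq (d : Data z Q) (T : Twist R) {s : G} (hs : Pure R p4 s) {u : W}
    (hu : act p4 u = u) :
    lam F p4 s u = xor (B u rE) (lam F p4 s rE && B u rN) := by
  set x := add (smul (B u rE) rN) (smul (B u rN) rE) with hx
  have hsm : ∀ (e : Bool) {r : W}, act p4 r = r → act p4 (smul e r) = smul e r ∧
      lam F p4 s (smul e r) = (e && lam F p4 s r) := by
    intro e r hr
    cases e
    · refine ⟨act_zero _, hs.lam_eq d ?_⟩
      show _ * F.m w0 * _ = F.m (act p4 w0) * _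
      rw [act_zero, F.zero]; simp
    · exact ⟨hr, (Bool.true_and _).symm⟩
  obtain ⟨f1, l1⟩ := hsm (B u rE) p4_facts.2.1
  obtain ⟨f2, l2⟩ := hsm (B u rN) p4_facts.2.2.1
  have fx : act p4 x = x := by rw [hx, act_add, f1, f2]
  obtain ⟨a, ha⟩ := inR4_exists _ (p4_mod u hu)
  have h0 : lam F p4 s (add u x) = false := by
    rw [← ha, hs.lam_comm d T p4_facts.1, ha]
    have : ∀ u, inR4 u = true → q u = false := by decide +kernel
    exact this _ (p4_mod u hu)
  rw [hs.lam_add d hu fx, hx, hs.lam_add d f1 f2, l1, l2, lam_p4 d T hs, Bool.and_true,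
    Bool.and_comm (B u rN)] at h0
  revert h0
  cases lam F p4 s u <;> cases B u rE <;> cases (lam F p4 s rE && B u rN) <;> simp

/-- Over `p4`, `w` a commutator. -/
theorem caseW (d : Data z Q) (T : Twist R) {t : G} {w v : W} (h : Form R p4 w v t)
    (h1 : t ≠ 1) (hw : inR4 w = true) : Three R t := by
  obtain ⟨a, b, s, hs, hw', hv', ht, rfl⟩ := h
  obtain ⟨a₁, b₁, e₁⟩ := T.conj_el d w v a b
  have hp := T.conj_pure d hs
  obtain ⟨κ, hκ, hκσ⟩ : ∃ κ : Equiv.Perm (Fin 8), Equiv.Perm.sign κ = 1 ∧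
      κ * T.ρ * p4 * (κ * T.ρ)⁻¹ = p4 := by
    rcases Int.units_eq_one_or (Equiv.Perm.sign T.ρ⁻¹) with hh | hh
    · exact ⟨T.ρ⁻¹, hh, by group⟩
    · refine ⟨Equiv.swap 0 1 * T.ρ⁻¹, ?_, ?_⟩
      · rw [map_mul, hh, Equiv.Perm.sign_swap (by decide)]; rfl
      · rw [inv_mul_cancel_right]; decide +kernel
  obtain ⟨k, hk⟩ := exists_pure_of_even d R hκ
  obtain ⟨a₂, b₂, e₂⟩ := R.el_conj_D d hk.1 (act T.ρ v) (act T.ρ w) a₁ b₁
  rw [hk.actW d, hk.actW d] at e₂
  set S := k * (T.h * s * T.h⁻¹) * k⁻¹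
  have hS : Pure R p4 S := by
    have := (hk.mul d hp).mul d (hk.inv d)
    rwa [show κ * (T.ρ * p4 * T.ρ⁻¹) * κ⁻¹ = κ * T.ρ * p4 * (κ * T.ρ)⁻¹ by group, hκσ] at this
  have hcom : ∀ u, act p4 (act κ (act T.ρ u)) = act κ (act T.ρ (act p4 u)) := fun u => by
    conv_lhs => rw [← hκσ]
    rw [← act_mul, ← act_mul, ← act_mul, ← act_mul]
    congr 1
    group
  have ee : k * T.h * (R.el w v a b * s) * (k * T.h)⁻¹ =
      R.el (act κ (act T.ρ v)) (act κ (act T.ρ w)) a₂ b₂ * S := by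
    rw [← e₂, ← e₁]; simp only [S]; group
  refine Three.of_conj (k * T.h) (caseA d T (w := act κ (act T.ρ v)) (v := act κ (act T.ρ w))
    ⟨a₂, b₂, S, hS, by rw [hcom, hv'], by rw [hcom, hw'], conj_sq ht, ee⟩
    (fun e => h1 (conj_eq_one_iff.mp e)) ?_)
  obtain ⟨A, hA⟩ := inR4_exists w hw
  rw [← hA, act_add, act_add, ← hcom]
  exact p4_inR _

theorem case4 (d : Data z Q) (T : Twist R) {t : G} {w v : W} (h : Form R p4 w v t)
    (h1 : t ≠ 1) : Three R t := by
  by_cases hv : inR4 v = true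
  · exact caseA d T h h1 hv
  by_cases hw : inR4 w = true
  · exact caseW d T h h1 hw
  obtain ⟨a, b, s, hs, hw', hv', ht, rfl⟩ := h
  obtain ⟨e', hx⟩ := F.conj_x d hs.1
  rw [hs.vof d, F.qc_eq d, show q w0 = false from rfl] at hx
  have hx : s * F.x * s⁻¹ = F.x * pw z e' := by simpa [Frame.elem, F.zero] using hx
  have hxs : F.x * s * F.x⁻¹ = R.kk false e' * s := by
    have hxi : F.x⁻¹ = F.x := inv_eq_of_mul_eq_one_right F.x_sq
    calc F.x * s * F.x⁻¹ = F.x * (s * F.x⁻¹ * s⁻¹) * s := by group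
      _ = _ := by rw [hxi, hx, ← mul_assoc, F.x_sq, one_mul]; simp [Radical.kk]
  obtain ⟨a₁, b₁, e₁⟩ := x_conj d R w v a b
  have hwv : act p4 (add w v) = add w v := by rw [act_add, hw', hv']
  have ee : F.x * (R.el w v a b * s) * F.x⁻¹ = R.el (add w v) v a₁ (xor b₁ e') * s := by
    rw [show F.x * (R.el w v a b * s) * F.x⁻¹ = F.x * R.el w v a b * F.x⁻¹ * (F.x * s * F.x⁻¹) by group,
      e₁, hxs, ← mul_assoc, R.el_kk d, Bool.xor_false]
  by_cases hwv' : inR4 (add w v) = true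
  · exact Three.of_conj F.x (caseW d T ⟨a₁, xor b₁ e', s, hs, hwv, hv', conj_sq ht, ee⟩
      (fun e => h1 (by simpa using e)) hwv')
  exfalso
  have eqn : ∀ {w a b}, act p4 w = w → R.el w v a b * s * (R.el w v a b * s) = 1 →
      xor (xor (q w) (B w v)) (xor (B w rE) (lam F p4 s rE && B w rN)) = false := by
    intro w a b hw ht
    obtain ⟨μ, hμ⟩ := hs.2.2 v
    have h2 := hs.lam_spec w
    rw [hv'] at hμ
    rw [hw] at h2
    have hc : s * R.el w v a b * s⁻¹ = R.el w v (xor a μ) (xor b (lam F p4 s w)) := by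
      rw [Radical.el, show s * (F.m w * R.n v * R.kk a b) * s⁻¹ =
        (s * F.m w * s⁻¹) * (s * R.n v * s⁻¹) * (s * R.kk a b * s⁻¹) by group, h2, hμ,
        conj_of_commute (R.commute_kk d hs.1 a b)]
      have c1 : pw z (lam F p4 s w) = R.kk false (lam F p4 s w) := by simp [Radical.kk]
      have c2 : pw y μ = R.kk μ false := by simp [Radical.kk]
      rw [c1, c2]
      calc F.m w * R.kk false (lam F p4 s w) * (R.n v * R.kk μ false) * R.kk a b
          = F.m w * (R.kk false (lam F p4 s w) * R.n v) * (R.kk μ false * R.kk a b) := by group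
        _ = F.m w * R.n v * (R.kk false (lam F p4 s w) * (R.kk μ false * R.kk a b)) := by
          rw [← (R.commute_kk d (R.mem v) _ _).eq]; group
        _ = _ := by
          rw [R.kk_mul d, R.kk_mul d, Radical.el, Bool.false_xor, Bool.false_xor,
            Bool.xor_comm μ, Bool.xor_comm (lam F p4 s w)]
    have h3 : R.el w v a b * R.el w v (xor a μ) (xor b (lam F p4 s w)) = 1 := by
      rw [← hc, ← ht]
      conv_rhs => rw [show R.el w v a b * s * (R.el w v a b * s) =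
        R.el w v a b * (s * R.el w v a b * s⁻¹) * (s * s) by group, hs.sq d T p4_facts.1, mul_one]
    rw [← R.el_kk d w v a b μ (lam F p4 s w), ← mul_assoc, R.el_sq d, R.kk_mul d] at h3
    have h4 := (pw_yz_inj d.hub F.sing (h3.trans (by simp : (1 : G) = pw y false * pw z false))).2
    rwa [lam_p4_eq d T hs hw] at h4
  have q1 := eqn hw' ht
  have q2 := eqn hwv (by rw [← ee]; exact conj_sq ht)
  rw [show B (add w v) v = B w v by rw [B_add, B_self, Bool.xor_false]] at q2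
  rcases p4_final _ w v hw' hv' q1 q2 with e | e | e
  exacts [hv e, hw e, hwv' e]

/-- Over `p2`. -/
theorem case2 (d : Data z Q) (T : Twist R) {t : G} {w v : W} (h : Form R p2 w v t)
    (h1 : t ≠ 1) : Three R t := by
  obtain ⟨g, v', hg, hqv⟩ : ∃ g v', Form R p2 w v' (g * t * g⁻¹) ∧ q v' = true := by
    cases hq : q v
    · obtain ⟨g, hg⟩ := h.shift d p2_facts.2.2.1 w0 (pr 0 4)
      rw [act_zero, add_self, (add_zero' w).1, p2_facts.2.1] at hg
      refine ⟨g, _, hg, ?_⟩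
      obtain ⟨_, _, _, _, -, hv, -, -⟩ := h
      have := comm_orth (π := p2) (pr 0 4) hv
      rw [p2_facts.2.1] at this
      rw [q_add, hq, this]; rfl
    · exact ⟨1, v, by simpa using h, hq⟩
  refine Three.of_conj g ?_
  set t₁ := g * t * g⁻¹
  have h1' : t₁ ≠ 1 := fun e => h1 (by simpa [t₁] using e)
  have hcomm : Commute t₁ (F.m rS) := by
    have := hg.commute_m d T p2_facts.2.2.1 (a := pr 0 2) (by rw [p2_facts.2.2.2.2]; rfl)
    rwa [p2_facts.2.2.2.2] at this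
  obtain ⟨htD, hact, hvof⟩ := hg.mem d
  have hms := m_sing d (F := F) (r := rS) rfl (by decide)
  have hy2 : Sing z Q (y * F.m rS) := by
    refine ⟨mul_mem F.sing.1 (F.mem _), ?_, fun e => ?_, fun e => ?_⟩
    · rw [show y * F.m rS * (y * F.m rS) = y * (F.m rS * y) * F.m rS by group,
        (F.comm_y rS).eq, ← mul_assoc, F.sing.2.1, one_mul, hms.2.1]
    all_goals
      have := congrArg F.wof e
      rw [F.wof_mul d.hub F.sing.1 (F.mem _), show F.wof y = w0 from F.wof_y d.hub true,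
        F.wof_m d.hub, (add_zero' _).2] at this
      first
        | exact absurd (this.trans (F.wof_z d.hub false)) (by decide)
        | exact absurd (this.trans (F.wof_z d.hub true)) (by decide)
  obtain ⟨htrans, -⟩ := F.orders d
  obtain ⟨c, hcz, hc⟩ := htrans _ hy2
  refine Three.of_conj c⁻¹ ?_
  rw [inv_inv]
  set t₂ := c⁻¹ * t₁ * c
  have hsq : t₂ * t₂ = 1 := by
    rw [show t₂ * t₂ = c⁻¹ * (t₁ * t₁) * c by simp only [t₂]; group,
      show t₁ * t₁ = 1 from (let ⟨_, _, _, _, _, _, h2, _⟩ := hg; h2)]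
    group
  have h2' : t₂ ≠ 1 := fun e => h1' (by
    rw [show t₁ = c * t₂ * c⁻¹ by simp only [t₂]; group, e]; group)
  have ht2D : t₂ ∈ Dzy z y := by
    refine mem_Dzy.mpr ⟨(hcz.inv_left.mul_left (mem_Dzy.mp htD).1).mul_left hcz, ?_⟩
    have := ((mem_Dzy.mp htD).2.mul_right hcomm).map (MulAut.conj c⁻¹).toMonoidHom
    rw [← hc] at this
    simpa [t₂, mul_assoc] using this
  have key : ∀ p ∈ Q, Commute p (y * F.m rS) → t₁ * p * t₁⁻¹ * p⁻¹ * (t₁ * p * t₁⁻¹ * p⁻¹) = 1 := by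
    intro p hp hc'
    obtain ⟨e₀, he₀⟩ := F.exists_elem d hp
    have hfl := fl_eq_false.mpr hc'
    rw [fl_mul_right d.hub F.sing.1 (F.mem _) hp, show fl p (F.m rS) = B (F.wof p) rS by
      conv_lhs => rw [he₀, F.fl_m d.hub]] at hfl
    have ha : fl p y = B (F.wof p) rS := by
      revert hfl; cases fl p y <;> cases B (F.wof p) rS <;> simp
    obtain ⟨bx, e, hk, -⟩ := comm_coord d htD hact hp
    rw [hk, F.elem_sq d.hub, F.qc_eq d, hvof, Bool.false_and, Bool.false_xor, add_assoc', q_add,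
      add_comm' (act p2 (F.wof p)), p2_sq, ← ha]
    obtain ⟨_, _, _, _, -, hv, -, -⟩ := hg
    have hB : B v' (add (F.wof p) (act p2 (F.wof p))) = false := comm_orth _ hv
    cases fl p y
    · show pw z (xor (xor (q w0) false) (B w0 _)) = 1
      rw [B_symm w0, B_w0]; rfl
    · show pw z (xor (xor (q v') true) (B v' _)) = 1
      rw [hB, hqv]; rfl
  rcases exists_form d T hsq ht2D with ⟨w', v'', a', b', e⟩ | ⟨g', η, π', w', v'', hg', hπ', hf⟩
  · rw [e] at hsq h2' ⊢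
    exact el_class d T hsq h2'
  obtain ⟨-, hact2, -⟩ := hf.mem d
  rcases hπ' with rfl | rfl
  swap
  · exact Three.of_conj g' (case4 d T hf (fun e => h2' (by simpa using e)))
  exfalso
  have hq0 : ∀ u, q (add u (F.actW t₂ u)) = false := by
    intro u
    set p := c * F.m u * c⁻¹
    have hp : p ∈ Q := d.hub.normalizes c hcz _ (F.mem u)
    have hpc : Commute p (y * F.m rS) := by
      rw [← hc]; exact (F.comm_y u).map (MulAut.conj c).toMonoidHom
    have k := key p hp hpc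
    obtain ⟨b₁, e₁, hm⟩ := F.conj_m d ht2D u
    have h2 : t₂ * F.m u * t₂⁻¹ * (F.m u)⁻¹ * (t₂ * F.m u * t₂⁻¹ * (F.m u)⁻¹) = 1 := by
      have e2 : t₂ * F.m u * t₂⁻¹ * (F.m u)⁻¹ = c⁻¹ * (t₁ * p * t₁⁻¹ * p⁻¹) * c := by
        simp only [p, t₂]; group
      rw [e2, show c⁻¹ * (t₁ * p * t₁⁻¹ * p⁻¹) * c * (c⁻¹ * (t₁ * p * t₁⁻¹ * p⁻¹) * c) =
        c⁻¹ * (t₁ * p * t₁⁻¹ * p⁻¹ * (t₁ * p * t₁⁻¹ * p⁻¹)) * c by group, k]
      group
    have hwof : F.wof (t₂ * F.m u * t₂⁻¹ * (F.m u)⁻¹) = add u (F.actW t₂ u) := by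
      rw [F.wof_mul d.hub (d.hub.normalizes t₂ (mem_Dzy.mp ht2D).1 _ (F.mem u)) (inv_mem (F.mem u)),
        wof_inv d (F.mem u), F.wof_m d.hub, add_comm']
      rfl
    have hkQ : t₂ * F.m u * t₂⁻¹ * (F.m u)⁻¹ ∈ Q :=
      mul_mem (d.hub.normalizes t₂ (mem_Dzy.mp ht2D).1 _ (F.mem u)) (inv_mem (F.mem u))
    obtain ⟨e₂, he₂⟩ := F.exists_elem d hkQ
    have hfy : fl (t₂ * F.m u * t₂⁻¹ * (F.m u)⁻¹) y = false := by
      rw [fl_mul d.hub (d.hub.normalizes t₂ (mem_Dzy.mp ht2D).1 _ (F.mem u)) (inv_mem (F.mem u))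
        F.sing.1, fl_conj_of_commute (mem_Dzy.mp ht2D).2, fl_inv d.hub (F.mem u) F.sing.1,
        Bool.xor_self]
    rw [hfy, hwof] at he₂
    rw [he₂, F.elem_sq d.hub, F.qc_eq d, ← pw_false z] at h2
    simpa using pw_inj d.hub.ne_one h2
  have hu : act η (F.actW t₂ (act η⁻¹ (pr 0 4))) = act p2 (pr 0 4) := by
    rw [← hact2, ← hg'.actW d, F.actW_mul d (mul_mem hg'.1 ht2D) (inv_mem hg'.1),
      F.actW_mul d hg'.1 ht2D, (hg'.inv d).actW d]
  have h0 := hq0 (act η⁻¹ (pr 0 4))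
  rw [← q_act η, act_add, hu, ← act_mul, mul_inv_cancel, act_one, add_comm', p2_facts.1] at h0
  exact Bool.noConfusion h0

/-- Every involution of `G` is conjugate to one of three. -/
theorem three_all (d : Data z Q) (T : Twist R) {t : G} (ht : t * t = 1) (h1 : t ≠ 1) :
    Three R t := by
  obtain ⟨k, hk⟩ := d.exists_conj_cz ht
  refine Three.of_conj k ?_
  have ht' : k * t * k⁻¹ * (k * t * k⁻¹) = 1 := conj_sq ht
  obtain ⟨p, hp, hpc⟩ := exists_sing_commute d ht' hk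
  obtain ⟨htrans, -⟩ := F.orders d
  obtain ⟨c, hcz, hc⟩ := htrans p hp
  refine Three.of_conj c⁻¹ ?_
  rw [inv_inv]
  have hD : c⁻¹ * (k * t * k⁻¹) * c ∈ Dzy z y := by
    refine mem_Dzy.mpr ⟨(hcz.inv_left.mul_left hk).mul_left hcz, ?_⟩
    have := hpc.map (MulAut.conj c⁻¹).toMonoidHom
    rw [← hc] at this
    simpa [mul_assoc] using this
  have hsq : c⁻¹ * (k * t * k⁻¹) * c * (c⁻¹ * (k * t * k⁻¹) * c) = 1 := by
    simpa using conj_sq (c := c⁻¹) ht'
  have hne : c⁻¹ * (k * t * k⁻¹) * c ≠ 1 := fun e => h1 (conj_eq_one_iff.mp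
    (conj_eq_one_iff.mp (show c⁻¹ * (k * t * k⁻¹) * c⁻¹⁻¹ = 1 by rwa [inv_inv])))
  rcases exists_form d T hsq hD with ⟨w, v, a, b, e⟩ | ⟨g, η, π, w, v, -, hπ, hf⟩
  · rw [e] at hsq hne ⊢
    exact el_class d T hsq hne
  refine Three.of_conj g ?_
  have hne' : g * (c⁻¹ * (k * t * k⁻¹) * c) * g⁻¹ ≠ 1 := fun e => hne (conj_eq_one_iff.mp e)
  rcases hπ with rfl | rfl
  exacts [case2 d T hf hne', case4 d T hf hne']

end Cfsg.Agent.ConwayType
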