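import Cfsg.Agent.Lib.ConwayType.Classify

/-!
# Centralisers in `C(z) ∩ C(y)` and the points seen by an involution
-/

set_option autoImplicit false
set_option maxHeartbeats 400000
set_option synthInstance.maxSize 2048
set_option linter.constructorNameAsVariable false
set_option maxRecDepth 4000

namespace Cfsg.Agent.ConwayType

open Subgroup
open Cfsg.Agent.LargeExtraspecial (Hub)

/-- Pairs like `(rN', rN)`. -/
def setU : Finset (W × W) :=
  Finset.univ.filter fun p => q p.1 = true ∧ q p.2 = true ∧ B p.1 p.2 = true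

/-- Pairs like `(rS', rS)`. -/
def setT : Finset (W × W) :=
  Finset.univ.filter fun p => q p.1 = false ∧ q p.2 = false ∧ B p.1 p.2 = false ∧
    p.1 ≠ w0 ∧ p.2 ≠ w0 ∧ p.1 ≠ p.2

theorem card_setU : setU.card = 336 := by decide +kernel
theorem card_setT : setT.card = 630 := by decide +kernel

theorem card_zero_set : (Finset.univ.filter fun v : W => v ≠ w0 ∧ q v = false).card = 35 := by
  decide +kernel

theorem act_injective (π : Equiv.Perm (Fin 8)) : Function.Injective (act π) := fun u v e => by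
  rw [← act_inv_act π u, e, act_inv_act]

theorem setU_act {π : Equiv.Perm (Fin 8)} {p : W × W} (h : p ∈ setU) :
    (act π p.1, act π p.2) ∈ setU := by
  simp only [setU, Finset.mem_filter, Finset.mem_univ, true_and] at h ⊢
  exact ⟨by rw [q_act, h.1], by rw [q_act, h.2.1], by rw [B_act, h.2.2]⟩

theorem setT_act {π : Equiv.Perm (Fin 8)} {p : W × W} (h : p ∈ setT) :
    (act π p.1, act π p.2) ∈ setT := by
  simp only [setT, Finset.mem_filter, Finset.mem_univ, true_and] at h ⊢
  obtain ⟨h1, h2, h3, h4, h5, h6⟩ := h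
  exact ⟨by rw [q_act, h1], by rw [q_act, h2], by rw [B_act, h3],
    fun e => h4 (act_injective π (e.trans (act_zero π).symm)),
    fun e => h5 (act_injective π (e.trans (act_zero π).symm)), (act_injective π).ne h6⟩

variable {G : Type*} [Group G] [Finite G] {z y : G} {Q : Subgroup G} {F : Frame z y Q}
  {R : Radical F}

theorem invol_set (d : Data z Q) {w v : W} (a b : Bool) (h1 : xor (q v) (B w v) = false)
    (h2 : xor (q w) (B w v) = false) : R.el w v a b * R.el w v a b = 1 := by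
  rw [R.el_sq d, h1, h2]; simp [Radical.kk]

theorem cd_card (d : Data z Q) (S : Finset (W × W)) {w₀ v₀ : W} (h0 : (w₀, v₀) ∈ S)
    (hinv : ∀ p ∈ S, p.2 ≠ w0 ∧ xor (q p.2) (B p.1 p.2) = false ∧ xor (q p.1) (B p.1 p.2) = false)
    (hact : ∀ (π : Equiv.Perm (Fin 8)) p, p ∈ S → (act π p.1, act π p.2) ∈ S)
    (htrans : ∀ p ∈ S, ∃ π, Equiv.Perm.sign π = 1 ∧ act π w₀ = p.1 ∧ act π v₀ = p.2) :
    (∀ p ∈ S, ∀ a b, ∃ c ∈ Dzy z y, c * R.el w₀ v₀ false false * c⁻¹ = R.el p.1 p.2 a b) ∧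
      Nat.card ↥(Dzy z y ⊓ centralizer ({R.el w₀ v₀ false false} : Set G)) * (4 * S.card) =
        330301440 := by
  classical
  obtain ⟨-, hD, hA, hP⟩ := F.orders d
  set o := R.el w₀ v₀ false false
  have reach : ∀ p ∈ S, ∀ a b, ∃ c ∈ Dzy z y, c * o * c⁻¹ = R.el p.1 p.2 a b := by
    intro p hp a b
    obtain ⟨π, hπ, e1, e2⟩ := htrans p hp
    obtain ⟨c, hc, hcact⟩ := hA π hπ
    obtain ⟨a', b', e⟩ := R.el_conj_D d hc w₀ v₀ false false
    rw [hcact, hcact, e1, e2] at e
    obtain ⟨hv, k1, k2⟩ := hinv p hp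
    obtain ⟨-, hk⟩ := el_normal d hv (invol_set (R := R) d a' b' k1 k2)
    obtain ⟨c', hc', e'⟩ := hk a b
    exact ⟨c' * c, mul_mem hc' hc, by
      rw [show c' * c * o * (c' * c)⁻¹ = c' * (c * o * c⁻¹) * c'⁻¹ by group, e, e']⟩
  refine ⟨reach, le_antisymm ?_ ?_⟩
  · choose k hk hk' using fun i : S × Bool × Bool => reach i.1.1 i.1.2 i.2.1 i.2.2
    let f : ↥(Dzy z y ⊓ centralizer ({o} : Set G)) × (S × Bool × Bool) → ↥(Dzy z y) := fun x =>
      ⟨k x.2 * (x.1 : G), mul_mem (hk x.2) (Subgroup.mem_inf.mp x.1.2).1⟩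
    have hf : Function.Injective f := by
      rintro ⟨c, i⟩ ⟨c', i'⟩ e
      have e' : k i * (c : G) = k i' * (c' : G) := congrArg Subtype.val e
      have h1 : ∀ (c : ↥(Dzy z y ⊓ centralizer ({o} : Set G))) (i : S × Bool × Bool),
          k i * (c : G) * o * (k i * (c : G))⁻¹ = R.el i.1.1.1 i.1.1.2 i.2.1 i.2.2 := fun c i => by
        rw [show k i * (c : G) * o * (k i * (c : G))⁻¹ = k i * ((c : G) * o * (c : G)⁻¹) * (k i)⁻¹ by group,
          conj_of_commute (mem_cz.mp (Subgroup.mem_inf.mp c.2).2), hk']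
      have h2 := (h1 c i).symm.trans ((by rw [e']) : _ = k i' * (c' : G) * o * (k i' * (c' : G))⁻¹)
      rw [h1] at h2
      obtain ⟨r1, r2, r3, r4⟩ := R.el_inj d h2
      have hi : i = i' := Prod.ext (Subtype.ext (Prod.ext r1 r2)) (Prod.ext r3 r4)
      subst hi
      rw [Subtype.ext (mul_left_cancel e')]
    have := Nat.card_le_card_of_injective f hf
    rw [hD] at this
    simp only [Nat.card_prod, Nat.card_eq_finsetCard, Nat.card_eq_fintype_card (α := Bool),
      Fintype.card_bool] at this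
    linarith
  · let T : Set G := Set.range fun i : S × Bool × Bool => R.el i.1.1.1 i.1.1.2 i.2.1 i.2.2
    have h := card_le_conj (Dzy z y) o T (Set.finite_range _) (fun c hc => by
      obtain ⟨π, -, hcact⟩ := hP c hc
      obtain ⟨a, b, e⟩ := R.el_conj_D d hc w₀ v₀ false false
      rw [hcact, hcact] at e
      exact ⟨(⟨(act π w₀, act π v₀), hact π (w₀, v₀) h0⟩, a, b), e.symm⟩)
    have hT : Nat.card T ≤ 4 * S.card := by
      refine (Finite.card_range_le _).trans ?_
      simp only [Nat.card_prod, Nat.card_eq_finsetCard, Nat.card_eq_fintype_card (α := Bool),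
        Fintype.card_bool]
      linarith
    rw [hD] at h
    exact h.trans (by rw [mul_comm]; exact Nat.mul_le_mul_left _ hT)

theorem cd_u (d : Data z Q) (R : Radical F) :
    (∀ p ∈ setU, ∀ a b, ∃ c ∈ Dzy z y, c * R.el rN' rN false false * c⁻¹ = R.el p.1 p.2 a b) ∧
      Nat.card ↥(Dzy z y ⊓ centralizer ({R.el rN' rN false false} : Set G)) = 245760 := by
  obtain ⟨h1, h2⟩ := cd_card (R := R) d setU (w₀ := rN') (v₀ := rN) (by decide +kernel)
    (fun p hp => by
      simp only [setU, Finset.mem_filter, Finset.mem_univ, true_and] at hp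
      refine ⟨fun e => ?_, by rw [hp.2.1, hp.2.2]; rfl, by rw [hp.1, hp.2.2]; rfl⟩
      rw [e] at hp; exact Bool.noConfusion hp.2.1)
    (fun π p hp => setU_act hp) fun p hp => by
      simp only [setU, Finset.mem_filter, Finset.mem_univ, true_and] at hp
      exact even_orbit_NN hp.2.1 hp.1 hp.2.2
  rw [card_setU] at h2
  exact ⟨h1, by omega⟩

theorem cd_t (d : Data z Q) (R : Radical F) :
    Nat.card ↥(Dzy z y ⊓ centralizer ({R.el rS' rS false false} : Set G)) = 131072 := by
  obtain ⟨-, h2⟩ := cd_card (R := R) d setT (w₀ := rS') (v₀ := rS) (by decide +kernel)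
    (fun p hp => by
      simp only [setT, Finset.mem_filter, Finset.mem_univ, true_and] at hp
      exact ⟨hp.2.2.2.2.1, by rw [hp.2.1, hp.2.2.1]; rfl, by rw [hp.1, hp.2.2.1]; rfl⟩)
    (fun π p hp => setT_act hp) fun p hp => by
      simp only [setT, Finset.mem_filter, Finset.mem_univ, true_and] at hp
      exact even_orbit_SS hp.2.1 hp.1 hp.2.2.1 hp.2.2.2.2.1 hp.2.2.2.1 hp.2.2.2.2.2
  rw [card_setT] at h2
  omega

theorem card_n (d : Data z Q) (R : Radical F) {v : W} (hv : v ≠ w0) (hq : q v = false) :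
    2359296 ≤ Nat.card ↥(Dzy z (R.n v)) := by
  classical
  obtain ⟨-, hD, -, hP⟩ := F.orders d
  set S := Finset.univ.filter fun v : W => v ≠ w0 ∧ q v = false with hS
  let T : Set G := Set.range fun i : S × Bool × Bool => R.el w0 i.1.1 i.2.1 i.2.2
  have h := card_le_conj (Dzy z y) (R.n v) T (Set.finite_range _) (fun c hc => by
    obtain ⟨π, -, hcact⟩ := hP c hc
    obtain ⟨a, b, e⟩ := R.el_conj_D d hc w0 v false false
    rw [hcact, hcact, act_zero, ← R.n_eq d] at e
    exact ⟨(⟨act π v, Finset.mem_filter.mpr ⟨Finset.mem_univ _,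
      fun e => hv (act_injective π (e.trans (act_zero π).symm)), by rw [q_act, hq]⟩⟩, a, b), e.symm⟩)
  have hT : Nat.card T ≤ 140 := by
    refine (Finite.card_range_le _).trans ?_
    simp only [Nat.card_prod, Nat.card_eq_finsetCard, Nat.card_eq_fintype_card (α := Bool),
      Fintype.card_bool, hS, card_zero_set]
    norm_num
  have hle : Dzy z y ⊓ centralizer ({R.n v} : Set G) ≤ Dzy z (R.n v) := fun c hc =>
    mem_Dzy.mpr ⟨(mem_Dzy.mp (Subgroup.mem_inf.mp hc).1).1, mem_cz.mp (Subgroup.mem_inf.mp hc).2⟩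
  have h2 := Subgroup.card_le_of_le hle
  rw [hD] at h
  have h3 := h.trans (Nat.mul_le_mul hT h2)
  omega

/-- `o` fixes `C_Q(p)` modulo `⟨p, z⟩`. -/
def Sees (z : G) (Q : Subgroup G) (o p : G) : Prop :=
  Sing z Q p ∧ Commute o p ∧
    ∀ r ∈ Q, Commute r p → ∃ i j, o * r * o⁻¹ * r⁻¹ = pw p i * pw z j

theorem sees_y (d : Data z Q) (R : Radical F) (w v : W) (a b : Bool) :
    Sees z Q (R.el w v a b) y := by
  refine ⟨F.sing, (mem_Dzy.mp (R.el_mem d _ _ _ _)).2, fun r hr hry => ?_⟩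
  obtain ⟨bx, e, hk, -⟩ := comm_coord d (π := 1) (R.el_mem d w v a b)
    (fun u => by rw [R.el_act d, act_one]) hr
  rw [fl_eq_false.mpr hry, act_one, show smul false (F.vof (R.el w v a b)) = w0 from rfl,
    (add_zero' _).2, add_self] at hk
  exact ⟨bx, e, by rw [hk]; simp [Frame.elem, F.zero]⟩

theorem Sees.conj (d : Data z Q) {o p : G} (h : Sees z Q o p) {c : G} (hcz : Commute c z)
    (hco : Commute c o) : Sees z Q o (c * p * c⁻¹) := by
  obtain ⟨h1, h2, h3⟩ := h
  have hc' : c * o * c⁻¹ = o := conj_of_commute hco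
  refine ⟨SuzType.Sing.conj d.hub hcz h1, ?_, fun r hr hrp => ?_⟩
  · have := h2.map (MulAut.conj c).toMonoidHom
    simpa [hc'] using this
  have hr' : c⁻¹ * r * c ∈ Q := by simpa using d.hub.normalizes c⁻¹ hcz.inv_left r hr
  have hrp' : Commute (c⁻¹ * r * c) p := by
    have := hrp.map (MulAut.conj c⁻¹).toMonoidHom
    simpa [mul_assoc] using this
  obtain ⟨i, j, e⟩ := h3 _ hr' hrp'
  refine ⟨i, j, ?_⟩
  calc o * r * o⁻¹ * r⁻¹
      = (c * o * c⁻¹) * r * (c * o * c⁻¹)⁻¹ * r⁻¹ := by rw [hc']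
    _ = c * (o * (c⁻¹ * r * c) * o⁻¹ * (c⁻¹ * r * c)⁻¹) * c⁻¹ := by group
    _ = _ := by
      rw [e, show c * (pw p i * pw z j) * c⁻¹ = (c * pw p i * c⁻¹) * (c * pw z j * c⁻¹) by group,
        conj_of_commute (pw_commute hcz j), pw_conj (show c * p * c⁻¹ = c * p * c⁻¹ from rfl)]

theorem sees_pts (d : Data z Q) (R : Radical F) {w v : W} {a b : Bool} (hv : v ≠ w0) {p : G}
    (hp : Sees z Q (R.el w v a b) p) :
    ∃ i j k, p = pw y i * F.m (smul j v) * pw z k := by
  obtain ⟨⟨hpQ, -, hp1, hpz⟩, -, h3⟩ := hp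
  obtain ⟨e₀, he₀⟩ := F.exists_elem d hpQ
  set α := fl p y
  set bx := fl p F.x
  set u := F.wof p
  have test : ∀ (u' : W) (β : Bool),
      fl (F.elem true β u' false) p = false → ∃ i j, smul i u = v ∧ (i && α) = false ∧
        pw p i * pw z j ∈ Q := by
    intro u' β hc
    obtain ⟨i, j, e⟩ := h3 _ (F.elem_mem d.hub true β u' false) (fl_eq_false.mp hc)
    obtain ⟨bx', e', hk, -⟩ := comm_coord d (π := 1) (R.el_mem d w v a b)
      (fun u => by rw [R.el_act d, act_one]) (F.elem_mem d.hub true β u' false)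
    rw [F.fl_y d.hub, F.wof_elem d.hub, R.el_vof d, act_one, add_assoc', add_self,
      (add_zero' _).1] at hk
    rw [e] at hk
    have hwof := congrArg F.wof hk
    have hfl := congrArg (fun t => fl t y) hk
    rw [F.wof_mul d.hub (pw_mem hpQ i) (pw_mem d.hub.mem j), F.wof_z d.hub, (add_zero' _).1,
      F.wof_elem d.hub] at hwof
    rw [F.fl_y d.hub, fl_mul d.hub (pw_mem hpQ i) (pw_mem d.hub.mem j) F.sing.1, fl_pw, fl_pw,
      fl_z d.hub F.sing.1, Bool.and_false, Bool.xor_false] at hfl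
    have hw' : F.wof (pw p i) = smul i u := by
      cases i
      · exact F.wof_z d.hub false
      · rfl
    exact ⟨i, j, hw' ▸ hwof, hfl, mul_mem (pw_mem hpQ i) (pw_mem d.hub.mem j)⟩
  cases hα : α
  · rw [hα] at he₀
    by_cases hu : u = w0
    · exact ⟨bx, false, e₀, by rw [he₀, hu]; simp [Frame.elem, smul, F.zero]⟩
    obtain ⟨u', hu'⟩ : ∃ u', B u' u = bx := by
      cases bx
      · exact ⟨w0, by rw [B_symm, B_w0]⟩
      · exact B_exists u hu
    have hc : fl (F.elem true false u' false) p = false := by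
      rw [he₀, F.fl_elem_elem d.hub, B_symm, hu']
      cases bx <;> rfl
    obtain ⟨i, -, hi, -, -⟩ := test u' false hc
    cases i
    · exact absurd hi.symm hv
    · exact ⟨bx, true, e₀, by
        rw [he₀, show u = v from hi]; simp [Frame.elem, smul]⟩
  · exfalso
    rw [hα] at he₀
    have hc : fl (F.elem true bx w0 false) p = false := by
      rw [he₀, F.fl_elem_elem d.hub, B_w0]
      cases bx <;> rfl
    obtain ⟨i, -, hi, hiα, -⟩ := test w0 bx hc
    rw [hα, Bool.and_true] at hiα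
    rw [hiα] at hi
    exact hv hi.symm

theorem card_C_le (d : Data z Q) (R : Radical F) {w v : W} {a b : Bool} (hv : v ≠ w0) :
    Nat.card ↥(Dzy z (R.el w v a b)) ≤
      8 * Nat.card ↥(Dzy z y ⊓ centralizer ({R.el w v a b} : Set G)) := by
  set o := R.el w v a b
  let T : Set G := Set.range fun i : Bool × Bool × Bool => pw y i.1 * F.m (smul i.2.1 v) * pw z i.2.2
  have h := card_le_conj (Dzy z o) y T (Set.finite_range _) (fun c hc => by
    obtain ⟨hcz, hco⟩ := mem_Dzy.mp hc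
    obtain ⟨i, j, k, e⟩ := sees_pts d R hv ((sees_y d R w v a b).conj d hcz hco)
    exact ⟨(i, j, k), e.symm⟩)
  have hT : Nat.card T ≤ 8 := (Finite.card_range_le _).trans (by simp)
  refine h.trans (Nat.mul_le_mul hT (Subgroup.card_le_of_le fun c hc => ?_))
  obtain ⟨hc1, hc2⟩ := Subgroup.mem_inf.mp hc
  exact Subgroup.mem_inf.mpr ⟨mem_Dzy.mpr ⟨(mem_Dzy.mp hc1).1, mem_cz.mp hc2⟩,
    mem_cz.mpr (mem_Dzy.mp hc1).2⟩

end Cfsg.Agent.ConwayType
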