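import Cfsg.Agent.Lib.ConwayType.FiveClasses

/-!
# The alternating group of degree five centralising the derived subgroup of `C(z) ∩ C(p)`

`A` is the derived subgroup of the pure lifts of the even permutations fixing `5, 6, 7`.
-/

set_option autoImplicit false
set_option maxHeartbeats 400000
set_option synthInstance.maxSize 2048

namespace Cfsg.Agent.ConwayType.Five

open Subgroup
open scoped commutatorElement
open Cfsg.Agent.LargeExtraspecial (Hub)

/-- A commutator centralises what both elements centralise modulo central elements. -/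
theorem comm_fix {G : Type*} [Group G] {g h a c e : G} (hg : g * a * g⁻¹ = a * c)
    (hh : h * a * h⁻¹ = a * e) (hgc : Commute g c) (hge : Commute g e) (hhc : Commute h c)
    (hhe : Commute h e) (hce : Commute c e) : Commute ⁅g, h⁆ a := by
  have e1 : g * h * a * (g * h)⁻¹ = a * (c * e) := by
    rw [show g * h * a * (g * h)⁻¹ = g * (h * a * h⁻¹) * g⁻¹ by group, hh,
      show g * (a * e) * g⁻¹ = g * a * g⁻¹ * (g * e * g⁻¹) by group, hg, conj_of_commute hge, mul_assoc]
  have e2 : h * g * a * (h * g)⁻¹ = a * (c * e) := by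
    rw [show h * g * a * (h * g)⁻¹ = h * (g * a * g⁻¹) * h⁻¹ by group, hg,
      show h * (a * c) * h⁻¹ = h * a * h⁻¹ * (h * c * h⁻¹) by group, hh, conj_of_commute hhc, hce.eq,
      mul_assoc]
  have hgk : Commute (g * h) (c * e) := (hgc.mul_left hhc).mul_right (hge.mul_left hhe)
  have hhk : Commute (h * g) (c * e) := (hhc.mul_left hgc).mul_right (hhe.mul_left hge)
  have e3 : (h * g)⁻¹ * a * (h * g) = a * (c * e)⁻¹ := by
    calc (h * g)⁻¹ * a * (h * g)
        = (h * g)⁻¹ * (h * g * a * (h * g)⁻¹ * (c * e)⁻¹) * (h * g) := by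
          rw [e2, mul_inv_cancel_right]
      _ = a * ((h * g)⁻¹ * (c * e)⁻¹ * (h * g)⁻¹⁻¹) := by group
      _ = _ := by rw [conj_of_commute hhk.inv_left.inv_right]
  refine mul_inv_eq_iff_eq_mul.mp ?_
  calc ⁅g, h⁆ * a * ⁅g, h⁆⁻¹ = g * h * ((h * g)⁻¹ * a * (h * g)) * (g * h)⁻¹ := by
        rw [commutatorElement_def]; group
    _ = g * h * a * (g * h)⁻¹ * (g * h * (c * e)⁻¹ * (g * h)⁻¹) := by rw [e3]; group
    _ = a := by rw [e1, conj_of_commute hgk.inv_right, mul_inv_cancel_right]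

variable {G : Type*} [Group G] [Finite G] {z y : G} {Q : Subgroup G} {F : Frame z y Q}
  {R : Radical F} {p : G}

/-- Pure lifts of the even permutations fixing `5, 6, 7`. -/
def HA (d : Data z Q) (R : Radical F) : Subgroup G where
  carrier := {c | ∃ π ∈ A58, Pure R π c}
  one_mem' := ⟨1, one_mem _, pure_one d R⟩
  mul_mem' := fun ⟨π, h1, h2⟩ ⟨π', h1', h2'⟩ => ⟨π * π', mul_mem h1 h1', h2.mul d h2'⟩
  inv_mem' := fun ⟨π, h1, h2⟩ => ⟨π⁻¹, inv_mem h1, h2.inv d⟩

/-- The derived subgroup. -/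
def A (d : Data z Q) (R : Radical F) : Subgroup G := ⁅HA d R, HA d R⁆

theorem A_le (d : Data z Q) (R : Radical F) : A d R ≤ HA d R := commutator_le_self _

theorem HA_le (d : Data z Q) (R : Radical F) : HA d R ≤ Dzy z y := fun _ ⟨_, _, h⟩ => h.1

theorem A58_fix {π : Equiv.Perm (Fin 8)} (hπ : π ∈ A58) :
    act π w1 = w1 ∧ act π w2 = w2 ∧ act π w3 = w3 := by
  obtain ⟨-, h5, h6, h7⟩ := mem_A58.mp hπ
  exact ⟨by rw [w1, act_pr π (by decide), h5, h6], by rw [w2, act_pr π (by decide), h5, h7],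
    by rw [w3, act_pr π (by decide), h6, h7]⟩

theorem A58_act {π : Equiv.Perm (Fin 8)} (hπ : π ∈ A58) {w : W} (hw : act sg w = w) :
    act π w = w := by
  obtain ⟨h1, h2, h3⟩ := A58_fix hπ
  rcases fix_cases w hw with rfl | rfl | rfl | rfl
  exacts [act_zero π, h1, h2, h3]

theorem A58_perp {π : Equiv.Perm (Fin 8)} (hπ : π ∈ A58) {w : W} (hw : Perp w) : Perp (act π w) := by
  obtain ⟨h1, h2, -⟩ := A58_fix hπ
  constructor
  · conv_lhs => rw [← h1]
    rw [B_act]; exact hw.1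
  · conv_lhs => rw [← h2]
    rw [B_act]; exact hw.2

/-- The lifts reach every such permutation. -/
theorem A_lift (d : Data z Q) (R : Radical F) {π : Equiv.Perm (Fin 8)} (hπ : π ∈ A58) :
    ∃ a ∈ A d R, Pure R π a := by
  let S : Subgroup (Equiv.Perm (Fin 8)) :=
    { carrier := {π | ∃ a ∈ A d R, Pure R π a}
      one_mem' := ⟨1, one_mem _, pure_one d R⟩
      mul_mem' := fun ⟨a, h1, h2⟩ ⟨a', h1', h2'⟩ => ⟨a * a', mul_mem h1 h1', h2.mul d h2'⟩
      inv_mem' := fun ⟨a, h1, h2⟩ => ⟨a⁻¹, inv_mem h1, h2.inv d⟩ }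
  have h : ⁅A58, A58⁆ ≤ S := commutator_le.mpr fun g hg g' hg' => by
    obtain ⟨c, hc⟩ := exists_pure_of_even d R (mem_A58.mp hg).1
    obtain ⟨c', hc'⟩ := exists_pure_of_even d R (mem_A58.mp hg').1
    refine ⟨⁅c, c'⁆, commutator_mem_commutator ⟨g, hg, hc⟩ ⟨g', hg', hc'⟩, ?_⟩
    rw [commutatorElement_def, commutatorElement_def]
    exact ((hc.mul d hc').mul d (hc.inv d)).mul d (hc'.inv d)
  rw [A58_commutator] at h
  exact h hπ

theorem A_comm_x (d : Data z Q) (R : Radical F) {a : G} (ha : a ∈ A d R) : Commute a F.x := by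
  have key : ∀ c ∈ HA d R, ∃ e, c * F.x * c⁻¹ = F.x * pw z e := by
    rintro c ⟨π, -, hc⟩
    obtain ⟨e, he⟩ := F.conj_x d hc.1
    rw [hc.vof d, F.qc_eq d, show q w0 = false from rfl] at he
    exact ⟨e, by simpa [Frame.elem, F.zero] using he⟩
  have h : A d R ≤ centralizer ({F.x} : Set G) := commutator_le.mpr fun g hg g' hg' => by
    obtain ⟨e, he⟩ := key g hg
    obtain ⟨e', he'⟩ := key g' hg'
    have gz := (mem_Dzy.mp (HA_le d R hg)).1
    have gz' := (mem_Dzy.mp (HA_le d R hg')).1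
    exact mem_cz.mpr (comm_fix he he' (pw_commute gz e) (pw_commute gz e') (pw_commute gz' e)
      (pw_commute gz' e') (pw_commute (pw_commute (Commute.refl z) e).symm e'))
  exact mem_cz.mp (h ha)

theorem A_comm_m (d : Data z Q) (R : Radical F) {a : G} (ha : a ∈ A d R) {w : W}
    (hw : act sg w = w) : Commute a (F.m w) := by
  have key : ∀ c ∈ HA d R, ∃ e, c * F.m w * c⁻¹ = F.m w * pw z e := by
    rintro c ⟨π, hπ, hc⟩
    obtain ⟨e, he⟩ := hc.2.1 w
    rw [A58_act hπ hw] at he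
    exact ⟨e, he⟩
  have h : A d R ≤ centralizer ({F.m w} : Set G) := commutator_le.mpr fun g hg g' hg' => by
    obtain ⟨e, he⟩ := key g hg
    obtain ⟨e', he'⟩ := key g' hg'
    have gz := (mem_Dzy.mp (HA_le d R hg)).1
    have gz' := (mem_Dzy.mp (HA_le d R hg')).1
    exact mem_cz.mpr (comm_fix he he' (pw_commute gz e) (pw_commute gz e') (pw_commute gz' e)
      (pw_commute gz' e') (pw_commute (pw_commute (Commute.refl z) e).symm e'))
  exact mem_cz.mp (h ha)

theorem A_comm_n (d : Data z Q) (R : Radical F) {a : G} (ha : a ∈ A d R) {v : W}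
    (hv : act sg v = v) : Commute a (R.n v) := by
  have key : ∀ c ∈ HA d R, ∃ e, c * R.n v * c⁻¹ = R.n v * pw y e := by
    rintro c ⟨π, hπ, hc⟩
    obtain ⟨e, he⟩ := hc.2.2 v
    rw [A58_act hπ hv] at he
    exact ⟨e, he⟩
  have h : A d R ≤ centralizer ({R.n v} : Set G) := commutator_le.mpr fun g hg g' hg' => by
    obtain ⟨e, he⟩ := key g hg
    obtain ⟨e', he'⟩ := key g' hg'
    have gz := (mem_Dzy.mp (HA_le d R hg)).2
    have gz' := (mem_Dzy.mp (HA_le d R hg')).2
    exact mem_cz.mpr (comm_fix he he' (pw_commute gz e) (pw_commute gz e') (pw_commute gz' e)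
      (pw_commute gz' e') (pw_commute (pw_commute (Commute.refl y) e).symm e'))
  exact mem_cz.mp (h ha)

theorem A_comm_Q (d : Data z Q) (hs : Std R p) {a : G} (ha : a ∈ A d R) {r : G} (hr : r ∈ Q)
    (hc : Commute p r) : Commute a r := by
  obtain ⟨e, he⟩ := F.exists_elem d hr
  obtain ⟨haz, hay⟩ := mem_Dzy.mp (HA_le d R (A_le d R ha))
  rw [he]
  exact (((pw_commute (A_comm_x d R ha) _).mul_right (pw_commute hay _)).mul_right
    (A_comm_m d R ha (hs.wof_fix d hr hc))).mul_right (pw_commute haz e)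

/-- Conjugation by `c` commuting with `z` on the `W`-coordinate is additive. -/
theorem actW_add' (d : Data z Q) {c : G} (hcz : Commute c z) (u v : W) :
    F.actW c (add u v) = add (F.actW c u) (F.actW c v) := by
  have h := d.hub
  obtain ⟨e, he⟩ := F.m_add u v
  have key : c * F.m u * c⁻¹ * (c * F.m v * c⁻¹) = c * F.m (add u v) * c⁻¹ * pw z e := by
    rw [show c * F.m u * c⁻¹ * (c * F.m v * c⁻¹) = c * (F.m u * F.m v) * c⁻¹ by group, he,
      show c * (F.m (add u v) * pw z e) * c⁻¹ = c * F.m (add u v) * c⁻¹ * (c * pw z e * c⁻¹) by group,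
      conj_of_commute (pw_commute hcz _)]
  have := congrArg F.wof key
  rw [F.wof_mul h (h.normalizes c hcz _ (F.mem u)) (h.normalizes c hcz _ (F.mem v)),
    F.wof_mul h (h.normalizes c hcz _ (F.mem _)) (pw_mem h.mem e), F.wof_z h, (add_zero' _).1] at this
  exact this.symm

theorem Std.actW_sg (d : Data z Q) (hs : Std R p) {c : G} (hc : c ∈ Cp z p) (w : W) :
    F.actW c (act sg w) = act sg (F.actW c w) := by
  obtain ⟨hcz, hcp⟩ := mem_Cp.mp hc
  obtain ⟨e, he⟩ := hs.lift.2.1 w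
  have hmem := d.hub.normalizes c hcz _ (F.mem w)
  have h1 : p * (c * F.m w * c⁻¹) * p⁻¹ = c * F.m (act sg w) * c⁻¹ * pw z e := by
    calc p * (c * F.m w * c⁻¹) * p⁻¹ = p * c * F.m w * (p * c)⁻¹ := by group
      _ = c * (p * F.m w * p⁻¹) * c⁻¹ := by rw [hcp.symm.eq]; group
      _ = c * F.m (act sg w) * c⁻¹ * (c * pw z e * c⁻¹) := by rw [he]; group
      _ = _ := by rw [conj_of_commute (pw_commute hcz e)]
  have h2 := congrArg F.wof h1
  rw [F.wof_conj d hs.mem hmem, hs.lift.vof d, hs.lift.actW d,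
    F.wof_mul d.hub (d.hub.normalizes c hcz _ (F.mem _)) (pw_mem d.hub.mem e), F.wof_z d.hub,
    (add_zero' _).1] at h2
  have hz : smul (fl (c * F.m w * c⁻¹) y) w0 = w0 := by cases fl (c * F.m w * c⁻¹) y <;> rfl
  rw [hz, (add_zero' _).2] at h2
  exact h2.symm

/-- `C(z) ∩ C(p)` permutes the vectors orthogonal to the fixed ones. -/
theorem Std.U_conj (d : Data z Q) (hs : Std R p) {c : G} (hc : c ∈ Cp z p) {w : W} (hw : Perp w) :
    Perp (F.actW c w) ∧ ∃ e, c * F.m w * c⁻¹ = F.m (F.actW c w) * pw z e := by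
  obtain ⟨hcz, hcp⟩ := mem_Cp.mp hc
  set r := c * F.m w * c⁻¹ with hr
  have hmem : r ∈ Q := d.hub.normalizes c hcz _ (F.mem w)
  have orth : ∀ q₀ ∈ Q, Commute p q₀ → fl r q₀ = false := by
    intro q₀ hq₀ hc₀
    have hq₁ : c⁻¹ * q₀ * c ∈ Q := by
      have := d.hub.normalizes c⁻¹ hcz.inv_left q₀ hq₀
      rwa [inv_inv] at this
    have hc₁ : Commute p (c⁻¹ * q₀ * c) := (hcp.symm.inv_right.mul_right hc₀).mul_right hcp.symm
    obtain ⟨e, he⟩ := F.exists_elem d hq₁
    have hB : B (F.wof (c⁻¹ * q₀ * c)) w = false := by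
      rcases fix_cases _ (hs.wof_fix d hq₁ hc₁) with e' | e' | e' | e' <;> rw [e', B_symm]
      exacts [B_w0 w, hw.1, hw.2, perp_fix w hw]
    have : q₀ = c * (c⁻¹ * q₀ * c) * c⁻¹ := by group
    rw [this, hr, fl_conj, he, fl_symm, F.fl_m d.hub, hB]
  obtain ⟨⟨f1', f2', -⟩, -⟩ := w_facts
  have hy0 := orth y F.sing.1 hs.comm_y
  have hx0 := orth F.x F.hx (hs.comm_x d)
  obtain ⟨e, he⟩ := F.exists_elem d hmem
  refine ⟨?_, e, ?_⟩
  · have hm : ∀ u, act sg u = u → B (F.wof r) u = false := fun u hu => by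
      have := orth (F.m u) (F.mem u) (hs.comm_m d hu)
      rwa [he, F.fl_m d.hub] at this
    exact ⟨hm w1 f1', hm w2 f2'⟩
  · rw [hy0, hx0] at he
    refine he.trans ?_
    simp [Frame.elem, Frame.actW, hr]

theorem Std.actW_comp (d : Data z Q) (hs : Std R p) {c c' : G} (hc : c ∈ Cp z p) (hc' : c' ∈ Cp z p)
    {w : W} (hw : Perp w) : F.actW (c * c') w = F.actW c (F.actW c' w) := by
  obtain ⟨-, e, he⟩ := hs.U_conj d hc' hw
  obtain ⟨hcz, -⟩ := mem_Cp.mp hc
  show F.wof (c * c' * F.m w * (c * c')⁻¹) = F.wof (c * F.m (F.actW c' w) * c⁻¹)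
  rw [show c * c' * F.m w * (c * c')⁻¹ = c * (c' * F.m w * c'⁻¹) * c⁻¹ by group, he,
    show c * (F.m (F.actW c' w) * pw z e) * c⁻¹ =
      c * F.m (F.actW c' w) * c⁻¹ * (c * pw z e * c⁻¹) by group,
    conj_of_commute (pw_commute hcz e),
    F.wof_mul d.hub (d.hub.normalizes c hcz _ (F.mem _)) (pw_mem d.hub.mem e), F.wof_z d.hub,
    (add_zero' _).1]

/-- The derived subgroup centralises `m(Perp)`. -/
theorem Std.N0_comm_m (d : Data z Q) (hs : Std R p) {n : G} (hn : n ∈ N0 z p) {w : W} (hw : Perp w) :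
    Commute n (F.m w) := by
  have h1 : ∀ n ∈ N0 z p, ∀ u, Perp u → F.actW n u = u := by
    let S : Subgroup G :=
      { carrier := {c | c ∈ Cp z p ∧ ∀ u, Perp u → F.actW c u = u}
        one_mem' := ⟨one_mem _, fun u _ => F.actW_one d u⟩
        mul_mem' := fun {a b} ha hb => ⟨mul_mem ha.1 hb.1, fun u hu => by
          rw [hs.actW_comp d ha.1 hb.1 hu, hb.2 u hu, ha.2 u hu]⟩
        inv_mem' := fun {a} ha => ⟨inv_mem ha.1, fun u hu => by
          conv_lhs => rw [← ha.2 u hu]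
          rw [← hs.actW_comp d (inv_mem ha.1) ha.1 hu, inv_mul_cancel, F.actW_one d]⟩ }
    have hle : N0 z p ≤ S := commutator_le.mpr fun a ha b hb => by
      have hba : b * a ∈ Cp z p := mul_mem hb ha
      have hco : ⁅a, b⁆ = a * b * (b * a)⁻¹ := by rw [commutatorElement_def]; group
      refine ⟨N0_le p (commutator_mem_commutator ha hb), fun u hu => ?_⟩
      have hv := (hs.U_conj d (inv_mem hba) hu).1
      rw [hco, hs.actW_comp d (mul_mem ha hb) (inv_mem hba) hu, hs.actW_comp d ha hb hv,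
        comm_on_perp (g := F.actW a) (g' := F.actW b)
          (actW_add' d (mem_Cp.mp ha).1) (actW_add' d (mem_Cp.mp hb).1) (hs.actW_sg d ha)
          (hs.actW_sg d hb) (fun w hw => (hs.U_conj d ha hw).1) (fun w hw => (hs.U_conj d hb hw).1) hv,
        ← hs.actW_comp d hb ha hv, ← hs.actW_comp d hba (inv_mem hba) hu, mul_inv_cancel,
        F.actW_one d]
    exact fun n hn => (hle hn).2
  have key : ∀ c ∈ N0 z p, ∃ e, c * F.m w * c⁻¹ = F.m w * pw z e := fun c hc => by
    obtain ⟨-, e, he⟩ := hs.U_conj d (N0_le p hc) hw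
    rw [h1 c hc w hw] at he
    exact ⟨e, he⟩
  rw [← hs.N0_perfect d] at hn
  have h : ⁅N0 z p, N0 z p⁆ ≤ centralizer ({F.m w} : Set G) := commutator_le.mpr fun g hg g' hg' => by
    obtain ⟨e, he⟩ := key g hg
    obtain ⟨e', he'⟩ := key g' hg'
    have gz := (mem_Cp.mp (N0_le p hg)).1
    have gz' := (mem_Cp.mp (N0_le p hg')).1
    exact mem_cz.mpr (comm_fix he he' (pw_commute gz e) (pw_commute gz e') (pw_commute gz' e)
      (pw_commute gz' e') (pw_commute (pw_commute (Commute.refl z) e).symm e'))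
  exact mem_cz.mp (h hn)

/-- `A` centralises the derived subgroup. -/
theorem Std.A_comm_N0 (d : Data z Q) (hs : Std R p) {a : G} (ha : a ∈ A d R) {n : G}
    (hn : n ∈ N0 z p) : Commute a n := by
  have h := d.hub
  obtain ⟨haz, -⟩ := mem_Dzy.mp (HA_le d R (A_le d R ha))
  have key : ∀ c ∈ N0 z p, ∃ e, c * a * c⁻¹ = a * pw z e := by
    intro c hc
    obtain ⟨hcz, hcp⟩ := mem_Cp.mp (N0_le p hc)
    set k := c * a * c⁻¹ * a⁻¹ with hk
    have hkz : Commute k z := (((hcz.mul_left haz).mul_left hcz.inv_left)).mul_left haz.inv_left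
    have hQp : ∀ r ∈ Q, Commute p r → Commute k r := by
      intro r hr hpr
      have hr' : c⁻¹ * r * c ∈ Q := by
        have := h.normalizes c⁻¹ hcz.inv_left r hr
        rwa [inv_inv] at this
      have hpr' : Commute p (c⁻¹ * r * c) := (hcp.symm.inv_right.mul_right hpr).mul_right hcp.symm
      refine mul_inv_eq_iff_eq_mul.mp ?_
      calc k * r * k⁻¹ = c * (a * (c⁻¹ * (a⁻¹ * r * a⁻¹⁻¹) * c) * a⁻¹) * c⁻¹ := by rw [hk]; group
        _ = c * (a * (c⁻¹ * r * c) * a⁻¹) * c⁻¹ := by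
          rw [conj_of_commute (A_comm_Q d hs ha hr hpr).inv_left]
        _ = c * (c⁻¹ * r * c) * c⁻¹ := by rw [conj_of_commute (A_comm_Q d hs ha hr' hpr')]
        _ = r := by group
    have hP : ∀ u, Perp u → Commute k (F.m u) := by
      intro u hu
      obtain ⟨π, hπ, hP⟩ := A_le d R ha
      obtain ⟨e, he⟩ := (hP.inv d).2.1 u
      have hu' := A58_perp (inv_mem hπ) hu
      have hc1 : Commute c (F.m (act π⁻¹ u) * pw z e) :=
        (hs.N0_comm_m d hc hu').mul_right (pw_commute hcz e)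
      refine mul_inv_eq_iff_eq_mul.mp ?_
      calc k * F.m u * k⁻¹ = c * (a * (c⁻¹ * (a⁻¹ * F.m u * a⁻¹⁻¹) * c) * a⁻¹) * c⁻¹ := by
            rw [hk]; group
        _ = c * (a * (a⁻¹ * F.m u * a⁻¹⁻¹) * a⁻¹) * c⁻¹ := by
          rw [he, show c⁻¹ * (F.m (act π⁻¹ u) * pw z e) * c = F.m (act π⁻¹ u) * pw z e by
            rw [mul_assoc, ← hc1.eq, inv_mul_cancel_left]]
        _ = c * F.m u * c⁻¹ := by group
        _ = F.m u := conj_of_commute (hs.N0_comm_m d hc hu)
    have hall : ∀ r ∈ Q, Commute k r := by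
      intro r hr
      obtain ⟨e, he⟩ := F.exists_elem d hr
      obtain ⟨f, hf, hfp⟩ := split (F.wof r)
      obtain ⟨e', he'⟩ := F.m_add (add (F.wof r) f) f
      rw [add_assoc', add_self, (add_zero' _).1] at he'
      have hw : F.m (F.wof r) = F.m (add (F.wof r) f) * F.m f * (pw z e')⁻¹ := by
        rw [he', mul_inv_cancel_right]
      rw [he, Frame.elem, hw]
      exact (((pw_commute (hQp _ F.hx (hs.comm_x d)) _).mul_right
        (pw_commute (hQp _ F.sing.1 hs.comm_y) _)).mul_right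
          (((hP _ hfp).mul_right (hQp _ (F.mem f) (hs.comm_m d hf))).mul_right
            (pw_commute hkz e').inv_right)).mul_right (pw_commute hkz e)
    have hka : c * a * c⁻¹ = k * a := by rw [hk, inv_mul_cancel_right]
    rcases h.self k hall with e | e
    · exact ⟨false, by rw [hka, e, one_mul, pw_false, mul_one]⟩
    · exact ⟨true, by rw [hka, e, ← haz.eq, pw_true]⟩
  rw [← hs.N0_perfect d] at hn
  have hle : ⁅N0 z p, N0 z p⁆ ≤ centralizer ({a} : Set G) := commutator_le.mpr fun g hg g' hg' => by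
    obtain ⟨e, he⟩ := key g hg
    obtain ⟨e', he'⟩ := key g' hg'
    have gz := (mem_Cp.mp (N0_le p hg)).1
    have gz' := (mem_Cp.mp (N0_le p hg')).1
    exact mem_cz.mpr (comm_fix he he' (pw_commute gz e) (pw_commute gz e') (pw_commute gz' e)
      (pw_commute gz' e') (pw_commute (pw_commute (Commute.refl z) e).symm e'))
  exact (mem_cz.mp (hle hn)).symm

end Cfsg.Agent.ConwayType.Five
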