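import Cfsg.Agent.Lib.ConwayType.FiveStd

/-!
# `C(z) ∩ C(p)` on the five singular classes of `C_Q(p)`

The classes are those of `y`, `x` and `x y m(w)` for the three nonzero fixed vectors `w`, modulo `z`.
-/

set_option autoImplicit false
set_option maxHeartbeats 400000
set_option synthInstance.maxSize 2048
set_option maxRecDepth 8000

namespace Cfsg.Agent.ConwayType.Five

open Subgroup Equiv
open scoped commutatorElement
open Cfsg.Agent.LargeExtraspecial (Hub)

/-- The class of a singular fixed element, from two of its coordinates. -/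
def idx (a : Bool) (w : W) : Fin 5 :=
  cond a (cond (decide (w = w0)) 1 (cond (decide (w = w1)) 2 (cond (decide (w = w2)) 3 4))) 0

/-- Coordinates of the representatives: the `x` part. -/
def ca (i : Fin 5) : Bool := decide (i ≠ 0)

/-- Coordinates of the representatives: the `y` part. -/
def cb (i : Fin 5) : Bool := decide (i ≠ 1)

/-- Coordinates of the representatives: the `W` part. -/
def cw (i : Fin 5) : W := ![w0, w0, w1, w2, w3] i

theorem cl_spec : ∀ i : Fin 5, xor (ca i && cb i) (q (cw i)) = false ∧ act sg (cw i) = cw i ∧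
    idx (ca i) (cw i) = i ∧ (ca i, cb i, cw i) ≠ (false, false, w0) := by decide +kernel

theorem cl_cover : ∀ a b : Bool, ∀ w : W, act sg w = w → xor (a && b) (q w) = false →
    (a, b, w) ≠ (false, false, w0) →
    ca (idx a w) = a ∧ cb (idx a w) = b ∧ cw (idx a w) = w := by decide +kernel

/-- The permutation of the classes induced by `n(v)` and the `j`-th power of a lift of `tu`. -/
def dzf (v : W) (j : Fin 3) (i : Fin 5) : Fin 5 :=
  idx (ca i) (add (smul (ca i) v) (act (tu ^ j.val) (cw i)))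

theorem dzf_even : ∀ v : W, act sg v = v → ∀ j : Fin 3,
    ∃ g : Perm (Fin 5), Perm.sign g = 1 ∧ ∀ i, g i = dzf v j i := by decide +kernel

theorem dzf_id : ∀ v : W, act sg v = v → ∀ j : Fin 3, (∀ i, dzf v j i = i) → v = w0 ∧ j = 0 := by
  decide +kernel

theorem dzf_all : ∀ g : Perm (Fin 5), Perm.sign g = 1 → g 0 = 0 →
    ∃ v : W, act sg v = v ∧ ∃ j : Fin 3, ∀ i, g i = dzf v j i := by decide +kernel

theorem card_stab : Fintype.card {g : Perm (Fin 5) // Perm.sign g = 1 ∧ g 0 = 0} = 12 := by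
  decide +kernel

variable {G : Type*} [Group G] [Finite G] {z y : G} {Q : Subgroup G}

/-- `C(z) ∩ C(p)`. -/
def Cp (z p : G) : Subgroup G := centralizer ({z} : Set G) ⊓ centralizer ({p} : Set G)

omit [Finite G] in
theorem mem_Cp {p c : G} : c ∈ Cp z p ↔ Commute c z ∧ Commute c p := by
  rw [Cp, mem_inf, mem_cz, mem_cz]

/-- The derived subgroup of `C(z) ∩ C(p)`. -/
def N0 (z p : G) : Subgroup G := ⁅Cp z p, Cp z p⁆

omit [Finite G] in
theorem N0_le (p : G) : N0 z p ≤ Cp z p := commutator_le_self _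

variable (F : Frame z y Q)

/-- The representatives. -/
def rp (i : Fin 5) : G := F.elem (ca i) (cb i) (cw i) false

/-- The class permutation as a function. -/
noncomputable def pmf (c : G) (i : Fin 5) : Fin 5 :=
  idx (fl (c * rp F i * c⁻¹) y) (F.wof (c * rp F i * c⁻¹))

variable {F} {R : Radical F} {p : G}

theorem Std.elem_comm (d : Data z Q) (hs : Std R p) {a b e : Bool} {w : W} (hw : act sg w = w) :
    Commute p (F.elem a b w e) :=
  (((pw_commute (hs.comm_x d) a).mul_right (pw_commute hs.comm_y b)).mul_right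
    (hs.comm_m d hw)).mul_right (pw_commute hs.comm_z e)

theorem Std.wof_fix (d : Data z Q) (hs : Std R p) {r : G} (hr : r ∈ Q) (hc : Commute p r) :
    act sg (F.wof r) = F.wof r := by
  have := F.wof_conj d hs.mem hr
  rw [conj_of_commute hc, hs.lift.vof d, hs.lift.actW d] at this
  have hz : smul (fl r y) w0 = w0 := by cases fl r y <;> rfl
  rw [hz, (add_zero' _).2] at this
  exact this.symm

theorem rp_sing (d : Data z Q) (i : Fin 5) : Sing z Q (rp F i) := by
  obtain ⟨h1, -, -, h4⟩ := cl_spec i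
  refine ⟨F.elem_mem d.hub _ _ _ _, by rw [rp, F.elem_sq d.hub, F.qc_eq d, h1]; rfl,
    fun e => h4 ?_, fun e => h4 ?_⟩
  · obtain ⟨r1, r2, r3, -⟩ := F.elem_inj d.hub (e.trans (show (1 : G) = F.elem false false w0 false by
      simp [Frame.elem, F.zero]))
    exact Prod.ext r1 (Prod.ext r2 r3)
  · obtain ⟨r1, r2, r3, -⟩ := F.elem_inj d.hub (e.trans (show z = F.elem false false w0 true by
      simp [Frame.elem, F.zero]))
    exact Prod.ext r1 (Prod.ext r2 r3)

theorem rp_zero : rp F 0 = y := by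
  show pw F.x false * pw y true * F.m w0 * pw z false = y
  simp [F.zero]

theorem Std.classify (d : Data z Q) (hs : Std R p) {r : G} (hr : Sing z Q r) (hc : Commute p r) :
    ∃ e, r = rp F (idx (fl r y) (F.wof r)) * pw z e := by
  have hw := hs.wof_fix d hr.1 hc
  obtain ⟨e, he⟩ := F.exists_elem d hr.1
  have h2 := hr.2.1
  rw [he, F.elem_sq d.hub, F.qc_eq d, ← pw_false z] at h2
  have hq := pw_inj d.hub.ne_one h2
  have hne : (fl r y, fl r F.x, F.wof r) ≠ (false, false, w0) := by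
    intro e'
    simp only [Prod.mk.injEq] at e'
    rw [e'.1, e'.2.1, e'.2.2] at he
    cases e
    exacts [hr.2.2.1 (by simpa [Frame.elem, F.zero] using he), hr.2.2.2 (by simpa [Frame.elem, F.zero] using he)]
  obtain ⟨k1, k2, k3⟩ := cl_cover _ _ _ hw hq hne
  refine ⟨e, he.trans ?_⟩
  rw [rp, k1, k2, k3]
  simp [Frame.elem]

theorem Std.pmf_spec (d : Data z Q) (hs : Std R p) {c : G} (hc : c ∈ Cp z p) (i : Fin 5) :
    ∃ e, c * rp F i * c⁻¹ = rp F (pmf F c i) * pw z e := by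
  obtain ⟨hcz, hcp⟩ := mem_Cp.mp hc
  obtain ⟨hQ, h2, h1, hz⟩ := rp_sing (F := F) d i
  refine hs.classify d ⟨d.hub.normalizes c hcz _ hQ, conj_sq h2, fun e => h1 (by simpa using e),
    fun e => hz ?_⟩ ?_
  · have := congrArg (fun t => c⁻¹ * t * c) e
    have hz' : c⁻¹ * z * c = z := by rw [mul_assoc, ← hcz.eq, inv_mul_cancel_left]
    simpa [mul_assoc, hz'] using this.trans hz'
  · exact (hcp.symm.mul_right (hs.elem_comm d (cl_spec i).2.1)).mul_right hcp.symm.inv_right

theorem rp_inj (d : Data z Q) {i j : Fin 5} {e : Bool} (h : rp F i = rp F j * pw z e) : i = j := by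
  have : rp F j * pw z e = F.elem (ca j) (cb j) (cw j) e := by simp [rp, Frame.elem]
  rw [this] at h
  obtain ⟨r1, -, r3, -⟩ := F.elem_inj d.hub h
  rw [← (cl_spec i).2.2.1, ← (cl_spec j).2.2.1, r1, r3]

theorem Std.pmf_eq (d : Data z Q) (hs : Std R p) {c : G} (hc : c ∈ Cp z p) {i j : Fin 5} {e : Bool}
    (h : c * rp F i * c⁻¹ = rp F j * pw z e) : pmf F c i = j := by
  obtain ⟨e', he'⟩ := hs.pmf_spec d hc i
  rw [he'] at h
  refine rp_inj (F := F) d (e := xor e e') ?_
  rw [← pw_mul d.hub.sq, ← mul_assoc, ← h, mul_assoc, pw_mul d.hub.sq, Bool.xor_self, pw_false, mul_one]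

theorem Std.pmf_mul (d : Data z Q) (hs : Std R p) {c c' : G} (hc : c ∈ Cp z p) (hc' : c' ∈ Cp z p)
    (i : Fin 5) : pmf F (c * c') i = pmf F c (pmf F c' i) := by
  obtain ⟨e, he⟩ := hs.pmf_spec d hc' i
  obtain ⟨e', he'⟩ := hs.pmf_spec d hc (pmf F c' i)
  refine hs.pmf_eq d (mul_mem hc hc') (e := xor e' e) ?_
  rw [show c * c' * rp F i * (c * c')⁻¹ = c * (c' * rp F i * c'⁻¹) * c⁻¹ by group, he,
    show c * (rp F (pmf F c' i) * pw z e) * c⁻¹ =
      c * rp F (pmf F c' i) * c⁻¹ * (c * pw z e * c⁻¹) by group, he',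
    conj_of_commute (pw_commute (mem_Cp.mp hc).1 e), mul_assoc, pw_mul d.hub.sq]

theorem Std.pmf_one (d : Data z Q) (hs : Std R p) (i : Fin 5) : pmf F 1 i = i :=
  hs.pmf_eq d (one_mem _) (e := false) (by simp)

/-- The action on the five classes. -/
noncomputable def Std.pm (d : Data z Q) (hs : Std R p) : ↥(Cp z p) →* Perm (Fin 5) where
  toFun c :=
    { toFun := pmf F (c : G)
      invFun := pmf F (c : G)⁻¹
      left_inv := fun i => by rw [← hs.pmf_mul d (inv_mem c.2) c.2, inv_mul_cancel, hs.pmf_one d]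
      right_inv := fun i => by rw [← hs.pmf_mul d c.2 (inv_mem c.2), mul_inv_cancel, hs.pmf_one d] }
  map_one' := Equiv.ext (hs.pmf_one d)
  map_mul' c c' := Equiv.ext (hs.pmf_mul d c.2 c'.2)

theorem Std.pm_apply (d : Data z Q) (hs : Std R p) (c : ↥(Cp z p)) (i : Fin 5) :
    hs.pm d c i = pmf F (c : G) i := rfl

theorem Std.x_mem (d : Data z Q) (hs : Std R p) : F.x ∈ Cp z p :=
  mem_Cp.mpr ⟨d.hub.central _ F.hx, (hs.comm_x d).symm⟩

theorem Std.pmf_Q (d : Data z Q) (hs : Std R p) {r : G} (hr : r ∈ Q) (hc : Commute r p) (i : Fin 5) :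
    pmf F r i = i :=
  hs.pmf_eq d (mem_Cp.mpr ⟨d.hub.central r hr, hc⟩) (fl_spec d.hub hr (rp_sing (F := F) d i).1)

theorem Std.pmf_Dzy (d : Data z Q) (hs : Std R p) {c : G} (hc : c ∈ Dzy z y) (hcp : Commute c p)
    (i : Fin 5) : pmf F c i = idx (ca i) (add (smul (ca i) (F.vof c)) (F.actW c (cw i))) := by
  have hr := (rp_sing (F := F) d i).1
  rw [pmf, fl_conj_of_commute (mem_Dzy.mp hc).2, F.wof_conj d hc hr, rp, F.fl_y d.hub, F.wof_elem d.hub]

theorem exists_tl (d : Data z Q) (hs : Std R p) : ∃ t, Pure R tu t ∧ Commute p t := by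
  obtain ⟨t, ht⟩ := exists_pure_of_even d R sign_tu
  exact ⟨t, ht, hs.comm_pure d ht tu_comm⟩

/-- The elements of `C(z) ∩ C(y) ∩ C(p)`. -/
theorem Std.decomp (d : Data z Q) (hs : Std R p) {t : G} (ht : Pure R tu t) {c : G}
    (hc : c ∈ Dzy z y) (hcp : Commute c p) :
    ∃ w v a b, ∃ j : Fin 3, ∃ k : ℕ, act sg w = w ∧ act sg v = v ∧
      c = R.el w v a b * t ^ j.val * p ^ k := by
  obtain ⟨π, w, v, a, b, P, hπs, hact, hP, hce⟩ := Pure.el_decomp d R hc
  have hπ : π * sg = sg * π := act_inj fun u => by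
    rw [act_mul, act_mul, ← hact, ← hs.lift.actW d, ← F.actW_mul d hc hs.mem, hcp.eq,
      F.actW_mul d hs.mem hc, hact, hs.lift.actW d]
  obtain ⟨j, k, hjk⟩ := centr_sg hπ hπs
  have hj : tu ^ j = tu ^ (j % 3) := by
    conv_lhs => rw [← Nat.mod_add_div j 3, pow_add, pow_mul, tu_cube, one_pow, mul_one]
  rw [hj] at hjk
  have hlift : Pure R π (t ^ (j % 3) * p ^ k) := hjk ▸ (pure_pow d ht _).mul d (pure_pow d hs.lift k)
  obtain ⟨a', b', e⟩ := pure_eq d hlift hP
  have hkk : Commute (t ^ (j % 3) * p ^ k) (R.kk a' b') := R.commute_kk d hlift.1 a' b'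
  have he : c = R.el w v (xor a a') (xor b b') * (t ^ (j % 3) * p ^ k) := by
    rw [hce, e, hkk.eq, ← mul_assoc, R.el_kk d]
  have hpl : Commute (R.el w v (xor a a') (xor b b')) p := by
    have h1 : Commute (t ^ (j % 3) * p ^ k) p :=
      ((hs.comm_pure d ht tu_comm).symm.pow_left _).mul_left ((Commute.refl p).pow_left k)
    have h2 := hcp.mul_left h1.inv_left
    rwa [he, mul_inv_cancel_right] at h2
  obtain ⟨a'', b'', e'⟩ := R.el_conj_D d hs.mem w v (xor a a') (xor b b')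
  rw [conj_of_commute hpl.symm, hs.lift.actW d, hs.lift.actW d] at e'
  obtain ⟨r1, r2, -, -⟩ := R.el_inj d e'
  exact ⟨w, v, xor a a', xor b b', ⟨j % 3, Nat.mod_lt _ (by norm_num)⟩, k, r1.symm, r2.symm,
    by rw [he, mul_assoc]⟩

theorem Std.pmf_form (d : Data z Q) (hs : Std R p) {t : G} (ht : Pure R tu t) {w v : W}
    (hw : act sg w = w) (hv : act sg v = v) (a b : Bool) (j : Fin 3) (k : ℕ) (i : Fin 5) :
    pmf F (R.el w v a b * t ^ j.val * p ^ k) i = dzf v j i := by
  have htj := pure_pow d ht j.val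
  have hpk := pure_pow d hs.lift k
  have hel := R.el_mem d w v a b
  have hlift := htj.mul d hpk
  have hv' : F.vof (R.el w v a b * t ^ j.val * p ^ k) = v := by
    rw [mul_assoc, F.vof_mul d hel hlift.1, hlift.vof d, R.el_vof d, R.el_act d, (add_zero' v).1]
  have hfix : ∀ u, act sg u = u → ∀ k : ℕ, act (sg ^ k) u = u := fun u hu k => by
    induction k with
    | zero => rw [pow_zero, act_one]
    | succ k ih => rw [pow_succ, act_mul, hu, ih]
  rw [hs.pmf_Dzy d (mul_mem (mul_mem hel htj.1) hpk.1)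
    (((hs.comm_el d hw hv a b).symm.mul_left ((hs.comm_pure d ht tu_comm).symm.pow_left _)).mul_left
      ((Commute.refl p).pow_left k)), hv', mul_assoc, F.actW_mul d hel hlift.1, R.el_act d,
    hlift.actW d, act_mul, hfix _ (cl_spec i).2.1 k, dzf]

theorem Std.move_mem (d : Data z Q) (hs : Std R p) (i : Fin 5) :
    ∃ e ∈ Cp z p, pmf F e 0 = i := by
  obtain ⟨e, hez, hep, he⟩ := hs.exists_move d (rp_sing (F := F) d i)
    (hs.elem_comm d (cl_spec i).2.1)
  refine ⟨e, mem_Cp.mpr ⟨hez, hep⟩, hs.pmf_eq d (mem_Cp.mpr ⟨hez, hep⟩) (e := false) ?_⟩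
  rw [rp_zero, he, pw_false, mul_one]

/-- An element fixing the first class is, up to `x`, in `C(z) ∩ C(y)`. -/
theorem Std.to_Dzy (d : Data z Q) (hs : Std R p) {c : G} (hc : c ∈ Cp z p) (h0 : pmf F c 0 = 0) :
    ∃ e, pw F.x e * c ∈ Dzy z y ∧ Commute (pw F.x e * c) p ∧ ∀ i, pmf F (pw F.x e * c) i = pmf F c i := by
  obtain ⟨e, he⟩ := hs.pmf_spec d hc 0
  rw [h0, rp_zero] at he
  have hx : pw F.x e ∈ Cp z p := pw_mem (hs.x_mem d) e
  refine ⟨e, mem_Dzy.mpr ⟨(mem_Cp.mp (mul_mem hx hc)).1, ?_⟩, (mem_Cp.mp (mul_mem hx hc)).2, fun i => ?_⟩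
  · refine mul_inv_eq_iff_eq_mul.mp ?_
    rw [show pw F.x e * c * y * (pw F.x e * c)⁻¹ = pw F.x e * (c * y * c⁻¹) * (pw F.x e)⁻¹ by group, he,
      show pw F.x e * (y * pw z e) * (pw F.x e)⁻¹ =
        pw F.x e * y * (pw F.x e)⁻¹ * (pw F.x e * pw z e * (pw F.x e)⁻¹) by group,
      conj_of_commute (pw_commute (mem_Cp.mp hx).1 e), fl_spec d.hub (pw_mem F.hx e) F.sing.1, fl_pw,
      F.x_y, Bool.and_true, mul_assoc, pw_mul d.hub.sq, Bool.xor_self, pw_false, mul_one]
  · rw [hs.pmf_mul d hx hc, hs.pmf_Q d (pw_mem F.hx e) (mem_Cp.mp hx).2]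

theorem Std.range_pm (d : Data z Q) (hs : Std R p) :
    (hs.pm d).range = alternatingGroup (Fin 5) := by
  classical
  obtain ⟨t, ht, htp⟩ := exists_tl d hs
  set H := (hs.pm d).range
  have stab : ∀ h ∈ H, h 0 = 0 → Perm.sign h = 1 := by
    rintro _ ⟨⟨c, hc⟩, rfl⟩ h0
    obtain ⟨e, hD, hDp, hsame⟩ := hs.to_Dzy d hc h0
    obtain ⟨w, v, a, b, j, k, hw, hv, hce⟩ := hs.decomp d ht hD hDp
    obtain ⟨g, hg, hgi⟩ := dzf_even v hv j
    have : hs.pm d ⟨c, hc⟩ = g := Equiv.ext fun i => by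
      rw [hgi, hs.pm_apply d, ← hsame, hce, hs.pmf_form d ht hw hv]
    rw [this, hg]
  have real : ∀ g : Perm (Fin 5), Perm.sign g = 1 → g 0 = 0 → g ∈ H := by
    intro g hg hg0
    obtain ⟨v, hv, j, hgi⟩ := dzf_all g hg hg0
    have hw : act sg w0 = w0 := act_zero sg
    refine ⟨⟨R.el w0 v false false * t ^ j.val * p ^ 0, mem_Cp.mpr ⟨?_, ?_⟩⟩, Equiv.ext fun i => ?_⟩
    · exact (mem_Dzy.mp (mul_mem (mul_mem (R.el_mem d _ _ _ _) (pow_mem ht.1 _)) (pow_mem hs.mem 0))).1
    · exact ((hs.comm_el d hw hv _ _).symm.mul_left (htp.symm.pow_left _)).mul_left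
        ((Commute.refl p).pow_left 0)
    · rw [hs.pm_apply d, hgi]
      exact hs.pmf_form d ht hw hv false false j 0 i
  choose e he he0 using fun i => hs.move_mem (F := F) d i
  let f : Fin 5 × {g : Perm (Fin 5) // Perm.sign g = 1 ∧ g 0 = 0} → H := fun s =>
    ⟨hs.pm d ⟨e s.1, he s.1⟩ * s.2.1, mul_mem ⟨_, rfl⟩ (real _ s.2.2.1 s.2.2.2)⟩
  have hf : Function.Bijective f := by
    constructor
    · rintro ⟨i, g, hg⟩ ⟨i', g', hg'⟩ he'
      have h := congrArg Subtype.val he'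
      simp only [f] at h
      have hi : i = i' := by
        have h' := congrArg (fun π : Perm (Fin 5) => π 0) h
        simpa [hg.2, hg'.2, hs.pm_apply d, he0] using h'
      subst hi
      exact Prod.ext rfl (Subtype.ext (mul_left_cancel h))
    · rintro ⟨h, hh⟩
      set u := hs.pm d ⟨e (h 0), he (h 0)⟩ with hu
      have hu0 : u 0 = h 0 := by rw [hu, hs.pm_apply d]; exact he0 _
      have h0 : (u⁻¹ * h) 0 = 0 := by
        rw [Perm.mul_apply, ← hu0]; simp
      exact ⟨⟨h 0, u⁻¹ * h, stab _ (mul_mem (inv_mem ⟨_, rfl⟩) hh) h0, h0⟩,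
        Subtype.ext (mul_inv_cancel_left u h)⟩
  have hcard : Nat.card H = 60 := by
    rw [← Nat.card_eq_of_bijective f hf, Nat.card_prod, Nat.card_eq_fintype_card,
      Nat.card_eq_fintype_card, card_stab, Fintype.card_fin]
  have hidx : H.index ≤ 2 := by
    have := H.card_mul_index
    rw [hcard, Nat.card_eq_fintype_card, Fintype.card_perm, Fintype.card_fin] at this
    simp [Nat.factorial] at this
    omega
  refine (Subgroup.eq_of_le_of_card_ge (Perm.alternatingGroup_le_of_index_le_two hidx) ?_).symm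
  have := two_mul_nat_card_alternatingGroup (α := Fin 5)
  rw [Nat.card_eq_fintype_card (α := Perm (Fin 5)), Fintype.card_perm, Fintype.card_fin] at this
  rw [show Nat.factorial 5 = 120 from rfl] at this
  rw [hcard]
  omega

/-- The kernel. -/
theorem Std.pm_ker (d : Data z Q) (hs : Std R p) {c : ↥(Cp z p)} (h : hs.pm d c = 1) :
    ∃ r ∈ Q, Commute r p ∧ ∃ k : ℕ, (c : G) = r * p ^ k := by
  obtain ⟨t, ht, htp⟩ := exists_tl d hs
  have hfix : ∀ i, pmf F (c : G) i = i := fun i => by rw [← hs.pm_apply d, h]; rfl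
  obtain ⟨e, hD, hDp, hsame⟩ := hs.to_Dzy d c.2 (hfix 0)
  obtain ⟨w, v, a, b, j, k, hw, hv, hce⟩ := hs.decomp d ht hD hDp
  obtain ⟨rfl, rfl⟩ := dzf_id v hv j fun i => by
    rw [← hs.pmf_form d ht hw hv a b j k i, ← hce, hsame, hfix]
  rw [show ((0 : Fin 3) : ℕ) = 0 from rfl, pow_zero, mul_one] at hce
  have hel : R.el w w0 a b ∈ Q := by
    rw [Radical.el, R.zero, mul_one]
    exact mul_mem (F.mem w) (mul_mem (pw_mem F.sing.1 a) (pw_mem d.hub.mem b))
  refine ⟨(pw F.x e)⁻¹ * R.el w w0 a b, mul_mem (inv_mem (pw_mem F.hx e)) hel,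
    (mem_Cp.mp (inv_mem (pw_mem (hs.x_mem d) e))).2.mul_left (hs.comm_el d hw hv a b).symm, k, ?_⟩
  rw [mul_assoc, ← hce, inv_mul_cancel_left]

theorem Std.conj_n_x (d : Data z Q) (hs : Std R p) {v : W} (hv : act sg v = v) (hq : q v = true) :
    ∃ e, y * F.m v * pw z e ∈ N0 z p := by
  obtain ⟨e, he⟩ := F.conj_x d (R.mem v)
  rw [R.vof, F.qc_eq d, hq] at he
  refine ⟨xor true e, ?_⟩
  have hn : R.n v ∈ Cp z p := mem_Cp.mpr ⟨(mem_Dzy.mp (R.mem v)).1, (hs.comm_n d hv).symm⟩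
  have := commutator_mem_commutator hn (hs.x_mem d)
  rw [commutatorElement_def, he, inv_eq_of_mul_eq_one_right F.x_sq, Frame.elem, pw_true, pw_true] at this
  have hxy : F.x * y * F.x = y * z := by
    have := fl_spec d.hub F.hx F.sing.1
    rwa [inv_eq_of_mul_eq_one_right F.x_sq, F.x_y, pw_true] at this
  have c1 : Commute F.x (F.m v) := fl_eq_false.mp (F.x_m v)
  have c2 : Commute F.x (pw z e) := pw_commute (d.hub.central _ F.hx) e
  rw [show F.x * y * F.m v * pw z e * F.x = F.x * y * (F.m v * pw z e * F.x) by group,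
    ← (c1.mul_right c2).eq, show F.x * y * (F.x * (F.m v * pw z e)) = F.x * y * F.x * (F.m v * pw z e) by group,
    hxy, show y * z * (F.m v * pw z e) = y * (z * F.m v) * pw z e by group,
    (d.hub.central _ (F.mem v)).symm.eq, show y * (F.m v * z) * pw z e = y * F.m v * (pw z true * pw z e) by
      rw [pw_true]; group, pw_mul d.hub.sq] at this
  exact this

/-- `C_Q(p)` lies in the derived subgroup. -/
theorem Std.Q_le_N0 (d : Data z Q) (hs : Std R p) {r : G} (hr : r ∈ Q) (hc : Commute r p) :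
    r ∈ N0 z p := by
  have hy : y ∈ Cp z p := mem_Cp.mpr ⟨d.hub.central _ F.sing.1, hs.comm_y.symm⟩
  have hzN : z ∈ N0 z p := by
    have := commutator_mem_commutator (hs.x_mem d) hy
    rwa [commutatorElement_def, fl_spec d.hub F.hx F.sing.1, F.x_y, pw_true,
      show y * z * y⁻¹ = z by rw [(d.hub.central y F.sing.1).eq, mul_inv_cancel_right]] at this
  obtain ⟨⟨f1', f2', f3'⟩, ⟨q1, q2, q3⟩, -, hadd⟩ := w_facts
  have strip : ∀ {g : G} {e : Bool}, g * pw z e ∈ N0 z p → g ∈ N0 z p := fun {g e} h => by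
    simpa using mul_mem h (inv_mem (pw_mem hzN e))
  have ym : ∀ {v : W}, act sg v = v → q v = true → y * F.m v ∈ N0 z p := fun {v} hv hq => by
    obtain ⟨e, he⟩ := hs.conj_n_x d hv hq
    exact strip he
  have m3 : F.m w3 ∈ N0 z p := by
    obtain ⟨e, he⟩ := F.m_add w1 w2
    rw [hadd] at he
    refine strip (e := e) ?_
    rw [← he]
    have := mul_mem (ym f1' q1) (ym f2' q2)
    rwa [(F.comm_y w1).symm.eq, show F.m w1 * y * (y * F.m w2) = F.m w1 * (y * y) * F.m w2 by group,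
      F.sing.2.1, mul_one] at this
  have hyN : y ∈ N0 z p := by simpa using mul_mem (ym f3' q3) (inv_mem m3)
  have hxN : F.x ∈ N0 z p := by
    obtain ⟨e, he, he0⟩ := hs.move_mem (F := F) d 1
    obtain ⟨s, hs'⟩ := hs.pmf_spec d he 0
    rw [he0, rp_zero, show rp F 1 = F.x by
      show pw F.x true * pw y false * F.m w0 * pw z false = F.x
      simp [F.zero]] at hs'
    refine strip (e := s) ?_
    rw [← hs']
    have h1 : ⁅e, y⁆ ∈ N0 z p := commutator_mem_commutator he hy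
    rw [commutatorElement_def] at h1
    simpa using mul_mem h1 hyN
  have hm : ∀ w, act sg w = w → F.m w ∈ N0 z p := by
    intro w hw
    rcases fix_cases w hw with rfl | rfl | rfl | rfl
    · rw [F.zero]; exact one_mem _
    · simpa using mul_mem (inv_mem hyN) (ym f1' q1)
    · simpa using mul_mem (inv_mem hyN) (ym f2' q2)
    · exact m3
  obtain ⟨e, he⟩ := F.exists_elem d hr
  rw [he]
  exact mul_mem (mul_mem (mul_mem (pw_mem hxN _) (pw_mem hyN _)) (hm _ (hs.wof_fix d hr hc.symm)))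
    (pw_mem hzN e)

/-- The map onto the alternating group of five points. -/
noncomputable def Std.psi (d : Data z Q) (hs : Std R p) : ↥(Cp z p) →* alternatingGroup (Fin 5) :=
  (hs.pm d).codRestrict _ fun c => hs.range_pm d ▸ ⟨c, rfl⟩

theorem Std.psi_surj (d : Data z Q) (hs : Std R p) : Function.Surjective (hs.psi d) := fun g => by
  obtain ⟨c, hc⟩ : (g : Perm (Fin 5)) ∈ (hs.pm d).range := (hs.range_pm d).symm ▸ g.2
  exact ⟨c, Subtype.ext hc⟩

theorem Std.psi_ker (d : Data z Q) (hs : Std R p) {c : ↥(Cp z p)} (h : hs.psi d c = 1) :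
    ∃ r ∈ Q, Commute r p ∧ ∃ k : ℕ, (c : G) = r * p ^ k :=
  hs.pm_ker d (congrArg Subtype.val h)

theorem Std.psi_Q (d : Data z Q) (hs : Std R p) {c : ↥(Cp z p)} (h : (c : G) ∈ Q) :
    hs.psi d c = 1 :=
  Subtype.ext (Equiv.ext fun i => hs.pmf_Q d h (mem_Cp.mp c.2).2 i)

/-- `C(z) ∩ C(p)` is the product of its derived subgroup and `⟨p⟩`. -/
theorem Std.Cp_decomp (d : Data z Q) (hs : Std R p) {c : G} (hc : c ∈ Cp z p) :
    ∃ n ∈ N0 z p, ∃ k : ℕ, c = n * p ^ k := by
  have hmap : (commutator ↥(Cp z p)).map (hs.psi d) = ⊤ := by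
    rw [commutator_def, map_commutator, map_top_of_surjective _ (hs.psi_surj d)]
    exact commutator_alternatingGroup_eq_top (by simp)
  obtain ⟨n, hn, hn'⟩ : hs.psi d ⟨c, hc⟩ ∈ (commutator ↥(Cp z p)).map (hs.psi d) := hmap ▸ mem_top _
  have hnN : (n : G) ∈ N0 z p := by
    have := mem_map_of_mem (Cp z p).subtype hn
    rwa [commutator_def, map_commutator, ← MonoidHom.range_eq_map, Subgroup.range_subtype] at this
  obtain ⟨r, hr, hrp, k, e⟩ := hs.psi_ker d (c := n⁻¹ * ⟨c, hc⟩) (by rw [map_mul, map_inv, hn', inv_mul_cancel])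
  refine ⟨(n : G) * r, mul_mem hnN (hs.Q_le_N0 d hr hrp), k, ?_⟩
  have e' : (n : G)⁻¹ * c = r * p ^ k := e
  rw [mul_assoc, ← e', mul_inv_cancel_left]

/-- The derived subgroup is perfect. -/
theorem Std.N0_perfect (d : Data z Q) (hs : Std R p) : ⁅N0 z p, N0 z p⁆ = N0 z p := by
  refine le_antisymm (commutator_le_self _) (commutator_le.mpr ?_)
  intro a ha b hb
  obtain ⟨n, hn, k, rfl⟩ := hs.Cp_decomp d ha
  obtain ⟨n', hn', l, rfl⟩ := hs.Cp_decomp d hb
  have c1 : Commute (p ^ k) (n' * p ^ l) := ((mem_Cp.mp hb).2.symm).pow_left k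
  have c2 : Commute (p ^ l) n := ((mem_Cp.mp (N0_le p hn)).2.symm).pow_left l
  have : ⁅n * p ^ k, n' * p ^ l⁆ = ⁅n, n'⁆ := by
    simp only [commutatorElement_def]
    rw [show n * p ^ k * (n' * p ^ l) * (n * p ^ k)⁻¹ * (n' * p ^ l)⁻¹ =
      n * (p ^ k * (n' * p ^ l) * (p ^ k)⁻¹) * n⁻¹ * (n' * p ^ l)⁻¹ by group, conj_of_commute c1,
      show n * (n' * p ^ l) * n⁻¹ * (n' * p ^ l)⁻¹ = n * n' * (p ^ l * n⁻¹ * (p ^ l)⁻¹) * n'⁻¹ by group,
      conj_of_commute c2.inv_right]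
  rw [this]
  exact commutator_mem_commutator hn hn'

end Cfsg.Agent.ConwayType.Five
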