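import Cfsg.Agent.Lib.ConwayType.FiveAlt
import Cfsg.Agent.Lib.ConwayType.Noncon
import Cfsg.Agent.Lib.HallJankoType.Main
import Cfsg.Agent.Lib.HallJanko.Simple
import Cfsg.Agent.Lib.Components.Layer
import Cfsg.Agent.Lib.TI.Extraspecial
import Cfsg.Prelude.Def_Spor_J2

/-!
# The centraliser of the standard element of order five

`M₀ = C(A) ∩ C(p)` and `C(p)/⟨p⟩` both satisfy the Hall–Janko type hypotheses; hence
`C(p) = M₀ × ⟨p⟩`, `M₀` is the layer and `C(M₀) ≅ A₅`.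
-/

set_option autoImplicit false
set_option maxHeartbeats 400000
set_option synthInstance.maxSize 2048

namespace Cfsg.Agent.ConwayType.Five

open Subgroup
open scoped commutatorElement
open Cfsg.Agent.LargeExtraspecial (Hub)

universe u

local notation "A5" => alternatingGroup (Fin 5)

theorem inv_conj {G : Type*} [Group G] {g a b : G} (h : g * a * g⁻¹ = b) : g⁻¹ * b * g = a := by
  rw [← h]; group

variable {G : Type u} [Group G] [Finite G] {z y : G} {Q : Subgroup G} {F : Frame z y Q}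
  {R : Radical F} {p : G}

theorem sg_fixed : ∀ i : Fin 8, sg i = i → i = 5 ∨ i = 6 ∨ i = 7 := by decide +kernel

theorem Std.orderOf_p (d : Data z Q) (hs : Std R p) : orderOf p = 5 :=
  haveI : Fact (Nat.Prime 5) := ⟨Nat.prime_five⟩
  orderOf_eq_prime hs.pow (hs.ne_one d)

/-- Only the identity among the powers of `p` centralises `A`. -/
theorem Std.pow_comm_A (d : Data z Q) (hs : Std R p) {k : ℕ}
    (h : ∀ a ∈ A d R, Commute (p ^ k) a) : p ^ k = 1 := by
  by_contra hk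
  have h5 : ¬ 5 ∣ k := by
    rintro ⟨l, rfl⟩
    exact hk (by rw [pow_mul, hs.pow, one_pow])
  obtain ⟨a, ha, hlift⟩ := A_lift d R (π := io (Equiv.swap 0 1 * Equiv.swap 1 2))
    (mem_A58.mpr ⟨by decide +kernel, io_fix _⟩)
  have hpk := pure_pow d hs.lift k
  have e : sg ^ k * io (Equiv.swap 0 1 * Equiv.swap 1 2) = io (Equiv.swap 0 1 * Equiv.swap 1 2) * sg ^ k :=
    pure_unique d (hpk.mul d hlift) ((h a ha).eq ▸ hlift.mul d hpk)
  have hk5 : sg ^ k = sg ^ (k % 5) := by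
    conv_lhs => rw [← Nat.mod_add_div k 5, pow_add, pow_mul, sg_pow_five, one_pow, mul_one]
  rw [hk5] at e
  exact (by decide +kernel : ∀ j : Fin 5, j ≠ 0 → sg ^ j.val * io (Equiv.swap 0 1 * Equiv.swap 1 2) ≠
    io (Equiv.swap 0 1 * Equiv.swap 1 2) * sg ^ j.val) ⟨k % 5, Nat.mod_lt _ (by norm_num)⟩
    (fun e0 => h5 (Nat.dvd_of_mod_eq_zero (congrArg Fin.val e0))) e

theorem Std.N0_pow (d : Data z Q) (hs : Std R p) {k : ℕ} (h : p ^ k ∈ N0 z p) : p ^ k = 1 :=
  hs.pow_comm_A d fun _ ha => (hs.A_comm_N0 d ha h).symm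

theorem Std.mem_N0_of_pow (d : Data z Q) (hs : Std R p) {c : G} (hc : c ∈ Cp z p) (h : c ^ 4 = 1) :
    c ∈ N0 z p := by
  obtain ⟨n, hn, k, rfl⟩ := hs.Cp_decomp d hc
  have hnp : Commute n (p ^ k) := (mem_Cp.mp (N0_le p hn)).2.pow_right k
  rw [hnp.mul_pow] at h
  have h4 : (p ^ k) ^ 4 ∈ N0 z p := by
    rw [← inv_eq_of_mul_eq_one_right h]
    exact inv_mem (pow_mem hn 4)
  have hk : p ^ k = ((p ^ k) ^ 4) ^ 4 := by
    rw [← pow_mul, ← pow_mul, show k * (4 * 4) = k + 5 * (3 * k) by ring, pow_add, pow_mul p 5,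
      hs.pow, one_pow, mul_one]
  rw [hk]
  exact mul_mem hn (pow_mem h4 4)

theorem Std.Qp_le (d : Data z Q) (hs : Std R p) : Q ⊓ centralizer ({p} : Set G) ≤ N0 z p :=
  fun _ hr => hs.Q_le_N0 d hr.1 (mem_cz.mp hr.2)

theorem Std.z_mem_N0 (d : Data z Q) (hs : Std R p) : z ∈ N0 z p :=
  hs.Q_le_N0 d d.hub.mem hs.comm_z.symm

theorem Std.y_mem_N0 (d : Data z Q) (hs : Std R p) : y ∈ N0 z p :=
  hs.Q_le_N0 d F.sing.1 hs.comm_y.symm

theorem Std.x_mem_N0 (d : Data z Q) (hs : Std R p) : F.x ∈ N0 z p :=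
  hs.Q_le_N0 d F.hx (hs.comm_x d).symm

/-- The involution of the class of `u`. -/
def ua (R : Radical F) : G := R.el w1 w2 false false

theorem ua_sq (d : Data z Q) (R : Radical F) : ua R * ua R = 1 := by
  obtain ⟨-, ⟨q1, q2, -⟩, ⟨b12, -, -⟩, -⟩ := w_facts
  rw [ua, R.el_sq d, q1, q2, b12]
  simp [Radical.kk]

theorem Std.ua_mem (d : Data z Q) (hs : Std R p) : ua R ∈ N0 z p := by
  obtain ⟨⟨f1', f2', -⟩, -⟩ := w_facts
  exact hs.mem_N0_of_pow d
    (mem_Cp.mpr ⟨(mem_Dzy.mp (R.el_mem d _ _ _ _)).1, (hs.comm_el d f1' f2' _ _).symm⟩)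
    (by rw [pow_mul _ 2 2, pow_two (ua R), ua_sq d R, one_pow])

theorem ua_not_z (d : Data z Q) (R : Radical F) : ¬ IsConj z (ua R) := by
  obtain ⟨-, ⟨q1, q2, -⟩, ⟨b12, -, -⟩, -⟩ := w_facts
  obtain ⟨T⟩ := ConwayType.exists_twist d R
  obtain ⟨π, hπ, hw', hv'⟩ := even_orbit_NN q2 q1 b12
  obtain ⟨-, -, hA, -⟩ := F.orders d
  obtain ⟨c, hc, hact⟩ := hA π hπ
  obtain ⟨a', b', e⟩ := R.el_conj_D d hc rN' rN false false
  rw [hact, hact, hw', hv'] at e
  have hsq : R.el w1 w2 a' b' * R.el w1 w2 a' b' = 1 := by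
    rw [R.el_sq d, q1, q2, b12]; simp [Radical.kk]
  obtain ⟨c', -, hc'⟩ := (el_normal d (R := R) (show w2 ≠ w0 by decide +kernel) hsq).2 false false
  intro hz
  exact u_not_z d T (hz.trans
    ((isConj_iff.mpr ⟨c, e⟩).trans (isConj_iff.mpr ⟨c', hc'⟩)).symm)

/-- The map of the derived subgroup onto `A₅`. -/
noncomputable def Std.psiN (d : Data z Q) (hs : Std R p) : ↥(N0 z p) →* A5 :=
  (hs.psi d).comp (Subgroup.inclusion (N0_le p))

theorem Std.psi_pow (d : Data z Q) (hs : Std R p) (k : ℕ) (h : p ^ k ∈ Cp z p) :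
    hs.psi d ⟨p ^ k, h⟩ = 1 :=
  Subtype.ext (Equiv.ext fun i => hs.pmf_eq d h (e := false) (by
    simp only [rp]
    rw [conj_of_commute ((hs.elem_comm d (cl_spec i).2.1).pow_left k)]; simp))

theorem Std.psiN_surj (d : Data z Q) (hs : Std R p) : Function.Surjective (hs.psiN d) := fun g => by
  obtain ⟨⟨c, hc⟩, rfl⟩ := hs.psi_surj d g
  obtain ⟨n, hn, k, e⟩ := hs.Cp_decomp d hc
  have hk : p ^ k ∈ Cp z p := pow_mem (mem_Cp.mpr ⟨hs.comm_z, Commute.refl p⟩) k
  refine ⟨⟨n, hn⟩, ?_⟩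
  have e' : (⟨c, hc⟩ : ↥(Cp z p)) = ⟨n, N0_le p hn⟩ * ⟨p ^ k, hk⟩ := Subtype.ext e
  show hs.psi d ⟨n, N0_le p hn⟩ = hs.psi d ⟨c, hc⟩
  rw [e', map_mul, hs.psi_pow d k hk, mul_one]

theorem Std.psiN_ker (d : Data z Q) (hs : Std R p) (n : ↥(N0 z p)) :
    hs.psiN d n = 1 ↔ (n : G) ∈ Q := by
  refine ⟨fun h => ?_, fun h => hs.psi_Q d h⟩
  obtain ⟨r, hr, hrp, k, e⟩ := hs.psi_ker d (c := Subgroup.inclusion (N0_le p) n) h
  have e : (n : G) = r * p ^ k := e
  have hpk : p ^ k ∈ N0 z p := by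
    have := mul_mem (inv_mem (hs.Q_le_N0 d hr hrp)) n.2
    rwa [e, inv_mul_cancel_left] at this
  rw [e, hs.N0_pow d hpk, mul_one]
  exact hr

/-- The hypotheses of Hall–Janko type from an embedding of the derived subgroup as the
centraliser of an involution. -/
theorem Std.setup (d : Data z Q) (hs : Std R p)
    (hex : Cfsg.IsExtraspecial 2 ↥(Q ⊓ centralizer ({p} : Set G)))
    (hcard : Nat.card ↥(Q ⊓ centralizer ({p} : Set G)) = 32)
    {K : Type u} [Group K] (j : ↥(N0 z p) →* K) (hj : Function.Injective j)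
    (hr : centralizer ({j ⟨z, hs.z_mem_N0 d⟩} : Set K) = j.range)
    (hconj : IsConj (j ⟨z, hs.z_mem_N0 d⟩) (j ⟨y, hs.y_mem_N0 d⟩))
    (hnc : ¬ IsConj (j ⟨z, hs.z_mem_N0 d⟩) (j ⟨ua R, hs.ua_mem d⟩)) :
    Nonempty (HallJankoType.Setup K) := by
  have : Fact (Nat.Prime 2) := ⟨Nat.prime_two⟩
  have hord : ∀ (v : G) (hv : v ∈ N0 z p), v * v = 1 → v ≠ 1 → orderOf (j ⟨v, hv⟩) = 2 :=
    fun v hv h2 h1 => by
      rw [orderOf_injective j hj, ← orderOf_injective (N0 z p).subtype (subtype_injective _)]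
      exact orderOf_eq_prime (by rw [pow_two]; exact h2) h1
  let Qp := Q ⊓ centralizer ({p} : Set G)
  let e₀ : ↥(N0 z p) ≃* ↥(centralizer ({j ⟨z, hs.z_mem_N0 d⟩} : Set K)) :=
    (MonoidHom.ofInjective hj).trans (MulEquiv.subgroupCongr hr.symm)
  have he₀ : ∀ n, (e₀ n : K) = j n := fun n => rfl
  let QK : Subgroup K := (Qp.subgroupOf (N0 z p)).map j
  let eQ : ↥Qp ≃* ↥QK :=
    (Subgroup.subgroupOfEquivOfLe (hs.Qp_le d)).symm.trans ((Qp.subgroupOf (N0 z p)).equivMapOfInjective j hj)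
  refine ⟨{ z := j ⟨z, hs.z_mem_N0 d⟩
            hz := hord z _ d.hub.sq d.hub.ne_one
            Q := QK
            ψ := (hs.psiN d).comp e₀.symm.toMonoidHom
            ψ_surj := (hs.psiN_surj d).comp e₀.symm.surjective
            ψ_ker := fun x => ?_
            Q_le := ?_
            extra := TI.isExtraspecial_congr eQ hex
            card_Q := (Nat.card_congr eQ.toEquiv).symm.trans hcard
            self := fun x hx hq => ?_
            nwc := ?_
            two_classes := ⟨_, _, hord z _ d.hub.sq d.hub.ne_one,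
              hord _ (hs.ua_mem d) (ua_sq d R) (fun e => ?_), hnc⟩ }⟩
  · obtain ⟨n, rfl⟩ := e₀.surjective x
    show hs.psiN d (e₀.symm (e₀ n)) = 1 ↔ _
    rw [e₀.symm_apply_apply, hs.psiN_ker d, he₀]
    constructor
    · exact fun h => mem_map_of_mem j (mem_subgroupOf.mpr ⟨h, mem_cz.mpr (mem_Cp.mp (N0_le p n.2)).2⟩)
    · rintro ⟨m, hm, e⟩
      rw [← hj e]
      exact (mem_subgroupOf.mp hm).1
  · rw [hr]
    exact map_le_range j _
  · rw [hr] at hx
    obtain ⟨n, rfl⟩ := hx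
    have hc : ∀ r ∈ Qp, Commute (n : G) r := fun r hr =>
      congrArg Subtype.val (hj (a₁ := n * (⟨r, hs.Qp_le d hr⟩ : ↥(N0 z p))) (a₂ := (⟨r, hs.Qp_le d hr⟩ : ↥(N0 z p)) * n)
        (by rw [map_mul, map_mul]; exact hq _ (mem_map_of_mem j (mem_subgroupOf.mpr hr))))
    have h1 : hs.psiN d n = 1 := Subtype.ext (Equiv.ext fun i => hs.pmf_eq d (N0_le p n.2) (e := false) (by
      show (n : G) * rp F i * (n : G)⁻¹ = rp F i * pw z false
      rw [conj_of_commute (hc (rp F i) ⟨(rp_sing (F := F) d i).1, mem_cz.mpr (hs.elem_comm d (cl_spec i).2.1).symm⟩),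
        pw_false, mul_one]))
    exact mem_map_of_mem j (mem_subgroupOf.mpr
      ⟨(hs.psiN_ker d n).mp h1, mem_cz.mpr (mem_Cp.mp (N0_le p n.2)).2⟩)
  · refine ⟨j ⟨y, hs.y_mem_N0 d⟩,
      mem_map_of_mem j (mem_subgroupOf.mpr ⟨F.sing.1, mem_cz.mpr hs.comm_y.symm⟩), fun e => ?_, hconj⟩
    exact F.sing.2.2.2 (congrArg Subtype.val (hj e))
  · have h2 := R.el_inj d (show R.el w1 w2 false false = R.el w0 w0 false false by
      rw [R.el_zero d]; exact e)
    exact absurd h2.1 (by decide +kernel)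

/-- `C(A) ∩ C(p)`. -/
def M0 (d : Data z Q) (R : Radical F) (p : G) : Subgroup G :=
  centralizer (A d R : Set G) ⊓ centralizer ({p} : Set G)

theorem mem_M0 (d : Data z Q) {m : G} :
    m ∈ M0 d R p ↔ (∀ a ∈ A d R, Commute m a) ∧ Commute m p := by
  rw [M0, mem_inf, mem_cz, mem_centralizer_iff]
  exact and_congr_left fun _ => ⟨fun h a ha => (h a ha).symm, fun h a ha => (h a ha).symm⟩

theorem Std.N0_le_M0 (d : Data z Q) (hs : Std R p) : N0 z p ≤ M0 d R p := fun _ hn =>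
  (mem_M0 d).mpr ⟨fun _ ha => (hs.A_comm_N0 d ha hn).symm, (mem_Cp.mp (N0_le p hn)).2⟩

/-- The twist normalises `A`. -/
theorem twist_A (d : Data z Q) {T : Twist R} (hρ : T.ρ * sg = sg * T.ρ) :
    (A d R).map (MulAut.conj T.h).toMonoidHom = A d R := by
  have hρ' : ∀ π ∈ A58, T.ρ * π * T.ρ⁻¹ ∈ A58 := by
    intro π hπ
    obtain ⟨hs, h5, h6, h7⟩ := mem_A58.mp hπ
    have fixed : ∀ i, sg i = i → (T.ρ * π * T.ρ⁻¹) i = i := by
      intro i hi
      have hc : T.ρ⁻¹ * sg = sg * T.ρ⁻¹ := (Commute.inv_left hρ).eq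
      have h' : sg (T.ρ⁻¹ i) = T.ρ⁻¹ i := by
        have := DFunLike.congr_fun hc i
        rw [Equiv.Perm.mul_apply, Equiv.Perm.mul_apply, hi] at this
        exact this.symm
      rw [Equiv.Perm.mul_apply, Equiv.Perm.mul_apply]
      rcases sg_fixed _ h' with e | e | e <;> rw [e] <;> [rw [h5]; rw [h6]; rw [h7]] <;> rw [← e] <;> simp
    obtain ⟨g5, g6, g7⟩ := sg_fix
    exact mem_A58.mpr ⟨by simp [hs, mul_comm], fixed 5 g5, fixed 6 g6, fixed 7 g7⟩
  have hHA : (HA d R).map (MulAut.conj T.h).toMonoidHom ≤ HA d R := by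
    rintro _ ⟨c, ⟨π, hπ, hc⟩, rfl⟩
    exact ⟨_, hρ' π hπ, T.conj_pure d hc⟩
  refine Subgroup.eq_of_le_of_card_ge ?_ (le_of_eq (card_map_of_injective (MulAut.conj T.h).injective).symm)
  rw [A, map_commutator]
  exact commutator_mono hHA hHA

theorem conj_comm {g a b : G} (h : Commute a b) : Commute (g * a * g⁻¹) (g * b * g⁻¹) :=
  h.map (MulAut.conj g).toMonoidHom

theorem twist_M0 (d : Data z Q) {T : Twist R} (hp : Commute T.h p)
    (hρ : T.ρ * sg = sg * T.ρ) {m : G} (hm : m ∈ M0 d R p) : T.h * m * T.h⁻¹ ∈ M0 d R p := by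
  obtain ⟨hmA, hmp⟩ := (mem_M0 d).mp hm
  refine (mem_M0 d).mpr ⟨fun a ha => ?_, ?_⟩
  · rw [← twist_A d hρ] at ha
    obtain ⟨a', ha', rfl⟩ := ha
    exact conj_comm (hmA a' ha')
  · have := conj_comm (g := T.h) hmp
    rwa [conj_of_commute hp] at this

theorem Std.setup_M0 (d : Data z Q) (hs : Std R p) {T : Twist R} (hp : Commute T.h p)
    (hρ : T.ρ * sg = sg * T.ρ) (hex : Cfsg.IsExtraspecial 2 ↥(Q ⊓ centralizer ({p} : Set G)))
    (hcard : Nat.card ↥(Q ⊓ centralizer ({p} : Set G)) = 32) :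
    Nonempty (HallJankoType.Setup ↥(M0 d R p)) := by
  refine hs.setup d hex hcard (Subgroup.inclusion (hs.N0_le_M0 d)) (Subgroup.inclusion_injective _)
    ?_ ?_ ?_
  · ext c
    constructor
    · intro hc
      have hcz : Commute (c : G) z := congrArg Subtype.val (mem_cz.mp hc).eq
      obtain ⟨hcA, hcp⟩ := (mem_M0 d).mp c.2
      obtain ⟨n, hn, k, e⟩ := hs.Cp_decomp d (mem_Cp.mpr ⟨hcz, hcp⟩)
      have hk : p ^ k = 1 := hs.pow_comm_A d fun a ha => by
        have h1 : p ^ k = n⁻¹ * c := by rw [e, inv_mul_cancel_left]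
        rw [h1]
        exact (hs.A_comm_N0 d ha hn).symm.inv_left.mul_left (hcA a ha)
      exact ⟨⟨n, hn⟩, Subtype.ext (by rw [e, hk, mul_one]; rfl)⟩
    · rintro ⟨n, rfl⟩
      exact mem_cz.mpr (Subtype.ext (mem_Cp.mp (N0_le p n.2)).1.eq)
  · have hx := hs.N0_le_M0 d (hs.x_mem_N0 d)
    have hx1 := twist_M0 d hp hρ hx
    refine isConj_iff.mpr ⟨⟨F.x, hx⟩ * ⟨_, hx1⟩, Subtype.ext ?_⟩
    show F.x * (T.h * F.x * T.h⁻¹) * z * (F.x * (T.h * F.x * T.h⁻¹))⁻¹ = y
    have hz' : T.h⁻¹ * z * T.h = y := inv_conj T.h_y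
    have hxy : F.x * y * F.x⁻¹ = y * z := by rw [fl_spec d.hub F.hx F.sing.1, F.x_y, pw_true]
    calc F.x * (T.h * F.x * T.h⁻¹) * z * (F.x * (T.h * F.x * T.h⁻¹))⁻¹
        = F.x * (T.h * (F.x * (T.h⁻¹ * z * T.h) * F.x⁻¹) * T.h⁻¹) * F.x⁻¹ := by group
      _ = F.x * ((T.h * y * T.h⁻¹) * (T.h * z * T.h⁻¹)) * F.x⁻¹ := by rw [hz', hxy]; group
      _ = (F.x * z * F.x⁻¹) * (F.x * y * F.x⁻¹) := by rw [T.h_y, T.h_z]; group
      _ = y := by
        rw [conj_of_commute (d.hub.central _ F.hx), hxy, ← mul_assoc,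
          ← (d.hub.central y F.sing.1).eq, mul_assoc, d.hub.sq, mul_one]
  · intro hc
    obtain ⟨g, hg⟩ := isConj_iff.mp hc
    exact ua_not_z d R (isConj_iff.mpr ⟨g, congrArg Subtype.val hg⟩)

theorem Std.setup_bar (d : Data z Q) (hs : Std R p) {T : Twist R} (hp : Commute T.h p)
    (hex : Cfsg.IsExtraspecial 2 ↥(Q ⊓ centralizer ({p} : Set G)))
    (hcard : Nat.card ↥(Q ⊓ centralizer ({p} : Set G)) = 32) :
    Nat.card ↥(centralizer ({p} : Set G)) = 5 * 604800 := by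
  let D := centralizer ({p} : Set G)
  let P : Subgroup ↥D := zpowers (⟨p, mem_cz.mpr (Commute.refl p)⟩ : ↥D)
  have hcen : ∀ q ∈ P, ∀ c : ↥D, c * q = q * c := by
    rintro q ⟨n, rfl⟩ c
    exact Subtype.ext ((mem_cz.mp c.2).zpow_right n).eq
  have : P.Normal := ⟨fun q hq c => by rwa [hcen q hq c, mul_inv_cancel_right]⟩
  have hP : ∀ {c : ↥D}, c ∈ P → ∃ k : ℕ, (c : G) = p ^ k := by
    rintro c ⟨n, rfl⟩
    obtain ⟨k, hk⟩ : p ^ n ∈ Submonoid.powers p :=
      mem_powers_iff_mem_zpowers.mpr ⟨n, rfl⟩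
    exact ⟨k, hk.symm⟩
  have hsq : ∀ k : ℕ, (p ^ k) * (p ^ k) = 1 → p ^ k = 1 := by
    intro k hk
    calc p ^ k = p ^ k * (p ^ 5) ^ k := by rw [hs.pow, one_pow, mul_one]
      _ = (p ^ k * p ^ k) ^ 3 := by
        rw [← pow_add, ← pow_mul, ← pow_mul, ← pow_add]; congr 1; ring
      _ = 1 := by rw [hk, one_pow]
  let ι : ↥(N0 z p) →* ↥D := Subgroup.inclusion fun n hn => mem_cz.mpr (mem_Cp.mp (N0_le p hn)).2
  let j : ↥(N0 z p) →* ↥D ⧸ P := (QuotientGroup.mk' P).comp ι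
  have hj : Function.Injective j := by
    refine (injective_iff_map_eq_one j).mpr fun n hn => Subtype.ext ?_
    obtain ⟨k, hk⟩ := hP ((QuotientGroup.eq_one_iff _).mp hn)
    exact hk.trans (hs.N0_pow d (hk ▸ n.2))
  have hr : centralizer ({j ⟨z, hs.z_mem_N0 d⟩} : Set (↥D ⧸ P)) = j.range := by
    ext q
    constructor
    · intro hq
      obtain ⟨c, rfl⟩ := QuotientGroup.mk'_surjective P q
      set zD : ↥D := ι ⟨z, hs.z_mem_N0 d⟩
      have hmem : zD⁻¹ * (c * zD * c⁻¹) ∈ P := by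
        refine (QuotientGroup.eq_one_iff _).mp ?_
        have := (mem_cz.mp hq).eq
        change (c : ↥D ⧸ P) * (zD : ↥D ⧸ P) = (zD : ↥D ⧸ P) * (c : ↥D ⧸ P) at this
        rw [QuotientGroup.mk_mul, QuotientGroup.mk_mul, QuotientGroup.mk_mul, this,
          QuotientGroup.mk_inv, QuotientGroup.mk_inv]
        group
      obtain ⟨k, hk⟩ := hP hmem
      have hk : z⁻¹ * ((c : G) * z * (c : G)⁻¹) = p ^ k := hk
      have e1 : (c : G) * z * (c : G)⁻¹ = z * p ^ k := by rw [← hk, mul_inv_cancel_left]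
      have e2 := conj_sq (c := (c : G)) d.hub.sq
      rw [e1] at e2
      have hk1 : p ^ k = 1 := hsq k (by
        have hzp := hs.comm_z.pow_left k
        rwa [show z * p ^ k * (z * p ^ k) = z * (p ^ k * z) * p ^ k by group, hzp.eq, ← mul_assoc,
          d.hub.sq, one_mul] at e2)
      rw [hk1, mul_one] at e1
      obtain ⟨n, hn, l, e⟩ := hs.Cp_decomp d
        (mem_Cp.mpr ⟨mul_inv_eq_iff_eq_mul.mp e1, mem_cz.mp c.2⟩)
      refine ⟨⟨n, hn⟩, (QuotientGroup.eq).mpr ?_⟩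
      refine ⟨l, Subtype.ext ?_⟩
      show p ^ (l : ℤ) = n⁻¹ * (c : G)
      rw [zpow_natCast, e, inv_mul_cancel_left]
    · rintro ⟨n, rfl⟩
      refine mem_cz.mpr ?_
      show j n * j _ = j _ * j n
      rw [← map_mul, ← map_mul]
      exact congrArg j (Subtype.ext (mem_Cp.mp (N0_le p n.2)).1.eq)
  have hconj : IsConj (j ⟨z, hs.z_mem_N0 d⟩) (j ⟨y, hs.y_mem_N0 d⟩) := by
    refine isConj_iff.mpr ⟨QuotientGroup.mk' P ⟨T.h, mem_cz.mpr hp⟩, ?_⟩
    show QuotientGroup.mk' P _ * QuotientGroup.mk' P _ * (QuotientGroup.mk' P _)⁻¹ = QuotientGroup.mk' P _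
    rw [← map_inv, ← map_mul, ← map_mul]
    exact congrArg _ (Subtype.ext T.h_z)
  have hnc : ¬ IsConj (j ⟨z, hs.z_mem_N0 d⟩) (j ⟨ua R, hs.ua_mem d⟩) := by
    intro hc
    obtain ⟨q, hq⟩ := isConj_iff.mp hc
    obtain ⟨c, rfl⟩ := QuotientGroup.mk'_surjective P q
    change QuotientGroup.mk' P c * QuotientGroup.mk' P _ * (QuotientGroup.mk' P c)⁻¹ =
      QuotientGroup.mk' P _ at hq
    rw [← map_inv, ← map_mul, ← map_mul] at hq
    obtain ⟨k, hk⟩ := hP ((QuotientGroup.eq).mp hq.symm)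
    have hk : (ua R)⁻¹ * ((c : G) * z * (c : G)⁻¹) = p ^ k := hk
    have e1 : (c : G) * z * (c : G)⁻¹ = ua R * p ^ k := by rw [← hk, mul_inv_cancel_left]
    have e2 := conj_sq (c := (c : G)) d.hub.sq
    rw [e1] at e2
    have hk1 : p ^ k = 1 := hsq k (by
      have hap : Commute (p ^ k) (ua R) := ((mem_Cp.mp (N0_le p (hs.ua_mem d))).2.symm).pow_left k
      rwa [show ua R * p ^ k * (ua R * p ^ k) = ua R * (p ^ k * ua R) * p ^ k by group, hap.eq, ← mul_assoc,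
        ua_sq d R, one_mul] at e2)
    rw [hk1, mul_one] at e1
    exact ua_not_z d R (isConj_iff.mpr ⟨_, e1⟩)
  obtain ⟨S⟩ := hs.setup d hex hcard j hj hr hconj hnc
  have := S.card_group
  rw [show Nat.card ↥(centralizer ({p} : Set G)) = Nat.card ↥D from rfl,
    card_eq_card_quotient_mul_card_subgroup P, this, Nat.card_zpowers,
    ← orderOf_injective D.subtype (subtype_injective _),
    show D.subtype ⟨p, mem_cz.mpr (Commute.refl p)⟩ = p from rfl, hs.orderOf_p d]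

/-- `C(M₀)` is the alternating group of degree five. -/
theorem Std.centralizer_M0 (d : Data z Q) (hs : Std R p) {T : Twist R} (hp : Commute T.h p)
    (hρ : T.ρ * sg = sg * T.ρ) : Nonempty (↥(centralizer (M0 d R p : Set G)) ≃* A5) := by
  classical
  have hN := hs.N0_le_M0 d
  have hx := hN (hs.x_mem_N0 d)
  have hx1 := twist_M0 d hp hρ hx
  have hM : ∀ {c : G}, c ∈ centralizer (M0 d R p : Set G) → ∀ m ∈ M0 d R p, Commute c m :=
    fun hc m hm => (mem_centralizer_iff.mp hc m hm).symm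
  have kk1 : ∀ a b, R.kk a b ∈ centralizer (M0 d R p : Set G) → R.kk a b = 1 := by
    intro a b hk
    have h1 := hM hk _ hx
    have h2 := conj_comm (g := T.h⁻¹) (hM hk _ hx1)
    rw [show T.h⁻¹ * (T.h * F.x * T.h⁻¹) * T.h⁻¹⁻¹ = F.x by group] at h2
    have h2' : T.h⁻¹ * R.kk a b * T.h⁻¹⁻¹ = R.kk b a := by
      conv_lhs => rw [← kk_twist (R := R) d T.h_z T.h_y b a]
      group
    rw [h2'] at h2
    have fl0 : ∀ a b, Commute (R.kk a b) F.x → a = false := by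
      intro a b hc
      have h3 := fl_eq_false.mpr hc
      rw [Radical.kk, fl_mul d.hub (pw_mem F.sing.1 _) (pw_mem d.hub.mem _) F.hx, fl_pw, fl_pw,
        fl_z d.hub F.hx, fl_symm y, F.x_y] at h3
      simpa using h3
    rw [fl0 a b h1, fl0 b a h2]
    simp [Radical.kk]
  have hdecomp : ∀ c ∈ centralizer (M0 d R p : Set G), ∃ π ∈ A58, Pure R π c := by
    intro c hc
    have hmem : ∀ {v : G}, v ∈ N0 z p → Commute c v := fun hv => hM hc _ (hN hv)
    have hcD : c ∈ Dzy z y := mem_Dzy.mpr ⟨hmem (hs.z_mem_N0 d), hmem (hs.y_mem_N0 d)⟩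
    have hv0 : ∀ {c : G}, Commute c F.x → F.vof c = w0 := fun {c} h => by
      show F.wof (c * F.x * c⁻¹) = w0
      rw [conj_of_commute h, show F.x = F.elem true false w0 false by simp [Frame.elem, F.zero],
        F.wof_elem d.hub]
    obtain ⟨π, w, v, a, b, P, hπs, hact, hP, hce⟩ := Pure.el_decomp d R hcD
    have hv : v = w0 := by
      have := hv0 (hmem (hs.x_mem_N0 d))
      rw [hce, F.vof_mul d (R.el_mem d _ _ _ _) hP.1, hP.vof d, R.el_vof d, R.el_act d,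
        (add_zero' v).1] at this
      exact this
    subst hv
    set c' := T.h⁻¹ * c * T.h with hc'
    have hc'x : Commute c' F.x := by
      have := conj_comm (g := T.h⁻¹) (hM hc _ hx1)
      rwa [show T.h⁻¹ * (T.h * F.x * T.h⁻¹) * T.h⁻¹⁻¹ = F.x by group, inv_inv, ← hc'] at this
    have hc'D : c' ∈ Dzy z y := by
      have hz' : T.h⁻¹ * z * T.h = y := inv_conj T.h_y
      have hy' : T.h⁻¹ * y * T.h = z := inv_conj T.h_z
      refine mem_Dzy.mpr ⟨?_, ?_⟩
      · have := conj_comm (g := T.h⁻¹) (mem_Dzy.mp hcD).2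
        rwa [inv_inv, hy', ← hc'] at this
      · have := conj_comm (g := T.h⁻¹) (mem_Dzy.mp hcD).1
        rwa [inv_inv, hz', ← hc'] at this
    obtain ⟨π', w', v', a', b', P', -, -, hP', hce'⟩ := Pure.el_decomp d R hc'D
    have hv' : v' = w0 := by
      have := hv0 hc'x
      rw [hce', F.vof_mul d (R.el_mem d _ _ _ _) hP'.1, hP'.vof d, R.el_vof d, R.el_act d,
        (add_zero' v').1] at this
      exact this
    subst hv'
    obtain ⟨a'', b'', he⟩ := T.conj_el d w' w0 a' b'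
    rw [act_zero] at he
    have hP'' := T.conj_pure d hP'
    have e1 : c = R.el w0 (act T.ρ w') a'' b'' * (T.h * P' * T.h⁻¹) := by
      rw [← he, show T.h * R.el w' w0 a' b' * T.h⁻¹ * (T.h * P' * T.h⁻¹) =
        T.h * (R.el w' w0 a' b' * P') * T.h⁻¹ by group, ← hce', hc']
      group
    have hπeq : π = T.ρ * π' * T.ρ⁻¹ := act_inj fun u => by
      rw [← hact, e1, F.actW_mul d (R.el_mem d _ _ _ _) hP''.1, R.el_act d, hP''.actW d]
    obtain ⟨s, t, hs'⟩ := pure_eq d (hπeq ▸ hP'') hP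
    have hw : w = w0 := by
      have h3 : R.el w w0 a b * (T.h * P' * T.h⁻¹ * R.kk s t) =
          R.el w0 (act T.ρ w') a'' b'' * (T.h * P' * T.h⁻¹) := by rw [← hs', ← hce, e1]
      rw [(R.commute_kk d hP''.1 s t).eq, ← mul_assoc] at h3
      have h4 := mul_right_cancel h3
      rw [R.el_kk d] at h4
      exact (R.el_inj d h4).1
    subst hw
    obtain ⟨⟨f1', f2', -⟩, -⟩ := w_facts
    have hfix : ∀ u, act sg u = u → act π u = u := fun u hu => by
      have hmu : F.m u ∈ N0 z p := hs.Q_le_N0 d (F.mem u) (hs.comm_m d hu).symm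
      rw [← hact u]
      show F.wof (c * F.m u * c⁻¹) = u
      rw [conj_of_commute (hmem hmu), F.wof_m d.hub]
    obtain ⟨h5, h6, h7⟩ := fix_triple (a := 5) (b := 6) (c := 7) (by decide) (by decide) (by decide)
      (hfix w1 f1') (hfix w2 f2')
    refine ⟨π, mem_A58.mpr ⟨hπs, h5, h6, h7⟩, ?_⟩
    rw [hce, R.el_w0 d]
    have hk : Pure R 1 (R.kk a b) := by
      refine ⟨R.kk_mem d a b, fun u => ⟨false, ?_⟩, fun u => ⟨false, ?_⟩⟩
      · rw [act_one, pw_false, mul_one, conj_of_commute (R.commute_kk d (Radical.m_mem d u) a b).symm]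
      · rw [act_one, pw_false, mul_one, conj_of_commute (R.commute_kk d (R.mem u) a b).symm]
    simpa using hk.mul d hP
  have hAle : A d R ≤ centralizer (M0 d R p : Set G) := fun a ha =>
    mem_centralizer_iff.mpr fun m hm => (((mem_M0 d).mp hm).1 a ha).eq
  have uniq : ∀ {c c' : G}, c ∈ centralizer (M0 d R p : Set G) → c' ∈ centralizer (M0 d R p : Set G) →
      ∀ {π : Equiv.Perm (Fin 8)}, Pure R π c → Pure R π c' → c = c' := by
    intro c c' hc hc' π h h'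
    obtain ⟨a, b, e⟩ := pure_eq d h h'
    have hk : R.kk a b ∈ centralizer (M0 d R p : Set G) := by
      have := mul_mem (inv_mem hc) hc'
      rwa [e, inv_mul_cancel_left] at this
    rw [e, kk1 a b hk, mul_one]
  have hlift : ∀ g : A5, ∃ a : ↥(centralizer (M0 d R p : Set G)), Pure R (io g) (a : G) := fun g => by
    obtain ⟨a, ha, hP⟩ := A_lift d R (π := io g) ⟨g, g.2, rfl⟩
    exact ⟨⟨a, hAle ha⟩, hP⟩
  choose f hf using hlift
  let φ : A5 →* ↥(centralizer (M0 d R p : Set G)) := MonoidHom.mk' f fun g g' => Subtype.ext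
    (uniq (f _).2 (f g * f g').2 (hf _) (by simpa using (hf g).mul d (hf g')))
  refine ⟨(MulEquiv.ofBijective φ ⟨?_, ?_⟩).symm⟩
  · intro g g' e
    have e : f g = f g' := e
    exact Subtype.ext (io_inj (pure_unique d (hf g) (e ▸ hf g')))
  · rintro ⟨c, hc⟩
    obtain ⟨_, ⟨g, hg, rfl⟩, hP⟩ := hdecomp c hc
    exact ⟨⟨g, hg⟩, Subtype.ext (uniq (f _).2 hc (hf ⟨g, hg⟩) hP)⟩

theorem Std.layer_eq (d : Data z Q) (hs : Std R p) {T : Twist R} (hp : Commute T.h p)
    (hρ : T.ρ * sg = sg * T.ρ) (hex : Cfsg.IsExtraspecial 2 ↥(Q ⊓ centralizer ({p} : Set G)))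
    (hcard : Nat.card ↥(Q ⊓ centralizer ({p} : Set G)) = 32)
    (hJ : ∀ (K : Type u) [Group K] [Finite K], HallJankoType.Setup K → Cfsg.Spor.IsoJ2 K) :
    Cfsg.Spor.IsoJ2 ↥(M0 d R p) ∧
      (Cfsg.layer ↥(centralizer ({p} : Set G))).map (centralizer ({p} : Set G)).subtype = M0 d R p := by
  obtain ⟨S⟩ := hs.setup_M0 d hp hρ hex hcard
  have hiso := hJ _ S
  refine ⟨hiso, ?_⟩
  obtain ⟨eJ⟩ := hiso
  have : IsSimpleGroup Cfsg.Spor.J2 := HJ.isSimple_J2
  have : IsSimpleGroup ↥(M0 d R p) := eJ.isSimpleGroup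
  have hxy : ¬ IsMulCommutative ↥(M0 d R p) := by
    intro hc
    have e := congrArg Subtype.val
      (hc.is_comm.comm (⟨F.x, hs.N0_le_M0 d (hs.x_mem_N0 d)⟩ : ↥(M0 d R p))
        ⟨y, hs.N0_le_M0 d (hs.y_mem_N0 d)⟩)
    exact Bool.noConfusion ((fl_eq_false.mpr e).symm.trans F.x_y)
  have hcen : center ↥(M0 d R p) = ⊥ :=
    (inferInstance : (center ↥(M0 d R p)).Normal).eq_bot_or_eq_top.resolve_right fun h =>
      hxy ⟨⟨fun a b => mem_center_iff.mp (h ▸ mem_top b) a⟩⟩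
  set D := centralizer ({p} : Set G)
  have hMD : M0 d R p ≤ D := inf_le_right
  let f : ↥(M0 d R p) × Fin 5 → ↥D := fun s =>
    ⟨s.1 * p ^ s.2.val, mul_mem (hMD s.1.2) (pow_mem (mem_cz.mpr (Commute.refl p)) _)⟩
  have hinj : Function.Injective f := by
    rintro ⟨m, k⟩ ⟨m', k'⟩ e
    have e : (m : G) * p ^ k.val = m' * p ^ k'.val := congrArg Subtype.val e
    have h5 : p ^ k'.val * p ^ (4 * k.val) = (m' : G)⁻¹ * m := by
      have : p ^ k'.val = (m' : G)⁻¹ * (m * p ^ k.val) := by rw [e, inv_mul_cancel_left]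
      rw [this, mul_assoc, mul_assoc, ← pow_add, show k.val + 4 * k.val = 5 * k.val by ring, pow_mul,
        hs.pow, one_pow, mul_one]
    rw [← pow_add] at h5
    have h1 : p ^ (k'.val + 4 * k.val) = 1 := hs.pow_comm_A d fun a ha => by
      rw [h5]
      exact (((mem_M0 d).mp m'.2).1 a ha).inv_left.mul_left (((mem_M0 d).mp m.2).1 a ha)
    rw [h1] at h5
    have hm : m' = m := Subtype.ext (inv_mul_eq_one.mp h5.symm)
    subst hm
    refine Prod.ext rfl (Fin.ext ?_)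
    exact pow_injOn_Iio_orderOf (by simp [hs.orderOf_p d]) (by simp [hs.orderOf_p d]) (mul_left_cancel e)
  have hsurj : Function.Surjective f := by
    refine ((Nat.bijective_iff_injective_and_card f).mpr ⟨hinj, ?_⟩).2
    rw [hs.setup_bar d hp hex hcard, Nat.card_prod, S.card_group, Nat.card_eq_fintype_card,
      Fintype.card_fin]
  set L := (M0 d R p).subgroupOf D
  have hdec : ∀ c : ↥D, ∃ m ∈ M0 d R p, ∃ k : ℕ, (c : G) = m * p ^ k := fun c => by
    obtain ⟨⟨m, k⟩, e⟩ := hsurj c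
    exact ⟨m, m.2, k.val, (congrArg Subtype.val e).symm⟩
  have hLn : L.Normal := ⟨fun l hl c => by
    obtain ⟨m, hm, k, e⟩ := hdec c
    refine mem_subgroupOf.mpr ?_
    show (c : G) * (l : G) * (c : G)⁻¹ ∈ M0 d R p
    have hlp : Commute (p ^ k) (l : G) := (mem_cz.mp l.2).symm.pow_left k
    rw [e, show m * p ^ k * (l : G) * (m * p ^ k)⁻¹ = m * (p ^ k * (l : G) * (p ^ k)⁻¹) * m⁻¹ by group,
      conj_of_commute hlp]
    exact mul_mem (mul_mem hm hl) (inv_mem hm)⟩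
  have hcl : ∀ c : ↥D, (∀ l ∈ L, l * c = c * l) → ∃ k : ℕ, (c : G) = p ^ k := by
    intro c hc
    obtain ⟨m, hm, k, e⟩ := hdec c
    refine ⟨k, ?_⟩
    have hmc : (⟨m, hm⟩ : ↥(M0 d R p)) ∈ center ↥(M0 d R p) := mem_center_iff.mpr fun l => Subtype.ext (by
      have h1 : (l : G) * (c : G) = (c : G) * (l : G) :=
        congrArg Subtype.val (hc ⟨l, hMD l.2⟩ (mem_subgroupOf.mpr l.2))
      have hlp : Commute (p ^ k) (l : G) := (mem_cz.mp (hMD l.2)).symm.pow_left k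
      rw [e, ← mul_assoc, mul_assoc m, hlp.eq, ← mul_assoc] at h1
      exact mul_right_cancel h1)
    rw [hcen, mem_bot] at hmc
    rw [e, show m = 1 from congrArg Subtype.val hmc, one_mul]
  have hL : Cfsg.IsComponent L := by
    refine ⟨hLn.isSubnormal, ?_⟩
    have : IsSimpleGroup ↥L := (Subgroup.subgroupOfEquivOfLe hMD).isSimpleGroup
    refine Components.isQuasisimple_of_isSimpleGroup fun hc => hxy ⟨⟨fun a b => ?_⟩⟩
    have := congrArg (Subgroup.subgroupOfEquivOfLe hMD)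
      (hc.is_comm.comm ((Subgroup.subgroupOfEquivOfLe hMD).symm a) ((Subgroup.subgroupOfEquivOfLe hMD).symm b))
    simpa using this
  have hlayer : Cfsg.layer ↥D = L := by
    refine le_antisymm (sSup_le fun K hK => ?_) (Components.IsComponent.le_layer hL)
    rcases Components.IsComponent.le_or_commutator_eq_bot_of_normal hK L with h | h
    · exact h
    refine absurd (Components.IsComponent.commutator_self hK) fun hKK => Components.IsComponent.ne_bot hK ?_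
    rw [← hKK, commutator_eq_bot_iff_le_centralizer]
    have hKp : ∀ c ∈ K, ∃ k : ℕ, (c : G) = p ^ k := fun c hc => hcl c fun l hl =>
      mem_centralizer_iff.mp (commutator_eq_bot_iff_le_centralizer.mp h hc) l hl
    intro a ha
    refine mem_centralizer_iff.mpr fun b hb => Subtype.ext ?_
    obtain ⟨i, hi⟩ := hKp a ha
    obtain ⟨l, hl⟩ := hKp b hb
    show (b : G) * (a : G) = (a : G) * (b : G)
    rw [hi, hl, ← pow_add, ← pow_add, add_comm]
  rw [hlayer, map_subgroupOf_eq_of_le hMD]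

end Cfsg.Agent.ConwayType.Five
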