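import Cfsg.Agent.Lib.ConwayType.Cycles
import Mathlib.GroupTheory.SpecificGroups.Alternating.Centralizer

/-!
# A five cycle among the permutations of eight points

`sg` is the cycle on `0, …, 4`, `tu` the one on `5, 6, 7`; `io` is the embedding of the symmetric
group on five points; `w1, w2, w3` are the fixed vectors of `sg` and `Perp` their orthogonal space.
-/

set_option autoImplicit false
set_option maxHeartbeats 400000
set_option synthInstance.maxSize 2048
set_option maxRecDepth 8000

namespace Cfsg.Agent.ConwayType.Five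

open Equiv

/-- The first five points. -/
def e5 : Fin 5 ≃ {i : Fin 8 // i.val < 5} where
  toFun i := ⟨⟨i.val, by omega⟩, i.isLt⟩
  invFun i := ⟨i.val.val, i.2⟩
  left_inv _ := rfl
  right_inv _ := rfl

/-- Permutations of the first five points. -/
def io : Perm (Fin 5) →* Perm (Fin 8) := Perm.extendDomainHom e5

/-- The cycle on the first five points. -/
def s5 : Perm (Fin 5) := swap 0 1 * swap 1 2 * swap 2 3 * swap 3 4

/-- The cycle on the first five of the eight points. -/
def sg : Perm (Fin 8) := io s5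

/-- The cycle on the last three points. -/
def tu : Perm (Fin 8) := swap 5 6 * swap 6 7

theorem io_inj : Function.Injective io := Perm.extendDomainHom_injective e5

theorem sign_io (g : Perm (Fin 5)) : Perm.sign (io g) = Perm.sign g := Perm.sign_extendDomain g e5

theorem io_fix (g : Perm (Fin 5)) : io g 5 = 5 ∧ io g 6 = 6 ∧ io g 7 = 7 :=
  ⟨Perm.extendDomain_apply_not_subtype g e5 (by decide),
    Perm.extendDomain_apply_not_subtype g e5 (by decide),
    Perm.extendDomain_apply_not_subtype g e5 (by decide)⟩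

theorem last_three : ∀ i : Fin 8, ¬ i.val < 5 → i = 5 ∨ i = 6 ∨ i = 7 := by decide

/-- A permutation fixing the last three points comes from five points. -/
theorem exists_io {π : Perm (Fin 8)} (h5 : π 5 = 5) (h6 : π 6 = 6) (h7 : π 7 = 7) :
    ∃ g, io g = π := by
  have hp : ∀ i : Fin 8, (π i).val < 5 ↔ i.val < 5 := by
    have fixed : ∀ i : Fin 8, ¬ i.val < 5 → π i = i := fun i h => by
      rcases last_three i h with rfl | rfl | rfl <;> assumption
    intro i
    by_cases h : i.val < 5
    · refine ⟨fun _ => h, fun _ => ?_⟩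
      by_contra h'
      exact h' (by rw [π.injective (fixed _ h')]; exact h)
    · rw [fixed i h]
  refine ⟨e5.symm.permCongr (π.subtypePerm hp), Equiv.ext fun i => ?_⟩
  by_cases h : i.val < 5
  · show (e5.symm.permCongr (π.subtypePerm hp)).extendDomain e5 i = π i
    rw [Perm.extendDomain_apply_subtype (e := e5.symm.permCongr (π.subtypePerm hp)) (f := e5) h]
    simp [Equiv.permCongr_apply]
  · rcases last_three i h with rfl | rfl | rfl
    · rw [(io_fix _).1, h5]
    · rw [(io_fix _).2.1, h6]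
    · rw [(io_fix _).2.2, h7]

theorem alt_commutator : ⁅alternatingGroup (Fin 5), alternatingGroup (Fin 5)⁆ = alternatingGroup (Fin 5) :=
  commutator_alternatingGroup_eq_self (by simp)

/-- The even permutations of the first five points. -/
def A58 : Subgroup (Perm (Fin 8)) := (alternatingGroup (Fin 5)).map io

theorem A58_commutator : ⁅A58, A58⁆ = A58 := by
  rw [A58, ← Subgroup.map_commutator, alt_commutator]

theorem mem_A58 {π : Perm (Fin 8)} :
    π ∈ A58 ↔ Perm.sign π = 1 ∧ π 5 = 5 ∧ π 6 = 6 ∧ π 7 = 7 := by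
  constructor
  · rintro ⟨g, hg, rfl⟩
    exact ⟨(sign_io g).trans hg, io_fix g⟩
  · rintro ⟨hs, h5, h6, h7⟩
    obtain ⟨g, rfl⟩ := exists_io h5 h6 h7
    exact ⟨g, Perm.mem_alternatingGroup.mpr ((sign_io g).symm.trans hs), rfl⟩

theorem orderOf_sg : orderOf sg = 5 :=
  haveI : Fact (Nat.Prime 5) := ⟨Nat.prime_five⟩
  orderOf_eq_prime (by decide +kernel) (by decide +kernel)

theorem sign_sg : Perm.sign sg = 1 := (sign_io s5).trans (by decide +kernel)

theorem sg_fix : sg 5 = 5 ∧ sg 6 = 6 ∧ sg 7 = 7 := io_fix s5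

theorem sg_pow_five : sg ^ 5 = 1 := orderOf_sg ▸ pow_orderOf_eq_one sg

theorem sg_mem_A58 : sg ∈ A58 := mem_A58.mpr ⟨sign_sg, sg_fix⟩

theorem sign_tu : Perm.sign tu = 1 := by decide +kernel

theorem tu_comm : tu * sg = sg * tu := by decide +kernel

theorem tu_cube : tu ^ 3 = 1 := by decide +kernel

theorem s5_centr : ∀ g : Perm (Fin 5), g * s5 = s5 * g → ∃ k : Fin 5, g = s5 ^ k.val := by
  decide +kernel

theorem perm_three : ∀ a b c : Fin 8, sg a = a → sg b = b → sg c = c → a ≠ b → a ≠ c → b ≠ c →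
    ∃ j : Fin 3, ∃ o : Bool, (cond o (swap 6 7) 1 * tu ^ j.val : Perm (Fin 8)) a = 5 ∧
      (cond o (swap 6 7) 1 * tu ^ j.val : Perm (Fin 8)) b = 6 ∧
      (cond o (swap 6 7) 1 * tu ^ j.val : Perm (Fin 8)) c = 7 := by decide +kernel

theorem swap_comm_sg : (swap 6 7 : Perm (Fin 8)) * sg = sg * swap 6 7 := by decide +kernel

/-- A permutation commuting with `sg` and fixing the last three points is a power of it. -/
theorem centr_fix {π : Perm (Fin 8)} (hc : π * sg = sg * π) (h5 : π 5 = 5) (h6 : π 6 = 6)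
    (h7 : π 7 = 7) : ∃ k : ℕ, π = sg ^ k := by
  obtain ⟨g, rfl⟩ := exists_io h5 h6 h7
  obtain ⟨k, rfl⟩ := s5_centr g (io_inj (by rw [map_mul, map_mul]; exact hc))
  exact ⟨k, map_pow io s5 _⟩

/-- The even centraliser of `sg`. -/
theorem centr_sg {π : Perm (Fin 8)} (hc : π * sg = sg * π) (hs : Perm.sign π = 1) :
    ∃ j k : ℕ, π = tu ^ j * sg ^ k := by
  have fixed : ∀ i, sg i = i → sg (π i) = π i := fun i hi => by
    conv_rhs => rw [← hi]
    exact (DFunLike.congr_fun hc i).symm
  obtain ⟨h5, h6, h7⟩ := sg_fix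
  obtain ⟨j, o, e5', e6', e7'⟩ := perm_three (π 5) (π 6) (π 7) (fixed 5 h5) (fixed 6 h6) (fixed 7 h7)
    (π.injective.ne (by decide)) (π.injective.ne (by decide)) (π.injective.ne (by decide))
  set s : Perm (Fin 8) := cond o (swap 6 7) 1
  have hsc : Commute s sg := by
    cases o
    exacts [Commute.one_left _, swap_comm_sg]
  obtain ⟨k, hk⟩ := centr_fix (π := s * tu ^ j.val * π)
    ((hsc.mul_left (Commute.pow_left tu_comm _)).mul_left hc) e5' e6' e7'
  have ho : o = false := by
    have := congrArg Perm.sign hk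
    cases o
    · rfl
    · simp [s, map_mul, map_pow, sign_tu, sign_sg, hs] at this
  subst ho
  refine ⟨2 * j.val, k, ?_⟩
  rw [show s = 1 from rfl, one_mul] at hk
  rw [← hk, ← mul_assoc, ← pow_add, show 2 * j.val + j.val = 3 * j.val by omega, pow_mul, tu_cube,
    one_pow, one_mul]

theorem swap_sign : Perm.sign (swap 5 6 : Perm (Fin 8)) = -1 ∧
    (swap 5 6 : Perm (Fin 8)) * sg = sg * swap 5 6 := by decide +kernel

/-- An element of order five is conjugate to `sg` by an even permutation. -/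
theorem exists_conj {π : Perm (Fin 8)} (h5 : π ^ 5 = 1) (h1 : π ≠ 1) :
    ∃ κ : Perm (Fin 8), Perm.sign κ = 1 ∧ κ * π * κ⁻¹ = sg := by
  have : Fact (Nat.Prime 5) := ⟨Nat.prime_five⟩
  have hπ := orderOf_eq_prime h5 h1
  have key : ∀ σ : Perm (Fin 8), orderOf σ = 5 → σ.cycleType = {5} := by
    intro σ hσ
    obtain ⟨n, hn⟩ := Perm.cycleType_prime_order (by rw [hσ]; exact Nat.prime_five : (orderOf σ).Prime)
    have hle := Perm.sum_cycleType_le σ
    rw [hn, Multiset.sum_replicate, hσ, Fintype.card_fin, smul_eq_mul] at hle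
    have : n = 0 := by omega
    rw [hn, hσ, this]
    rfl
  obtain ⟨κ, hκ⟩ := isConj_iff.mp
    (Perm.isConj_iff_cycleType_eq.mpr ((key π hπ).trans (key sg orderOf_sg).symm))
  rcases Int.units_eq_one_or (Perm.sign κ) with hs | hs
  · exact ⟨κ, hs, hκ⟩
  · refine ⟨swap 5 6 * κ, by rw [map_mul, swap_sign.1, hs]; rfl, ?_⟩
    rw [show swap 5 6 * κ * π * (swap 5 6 * κ)⁻¹ = swap 5 6 * (κ * π * κ⁻¹) * (swap 5 6)⁻¹ by group,
      hκ, swap_sign.2, mul_inv_cancel_right]

/-- The vector `{5, 6}`. -/
def w1 : W := pr 5 6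
/-- The vector `{5, 7}`. -/
def w2 : W := pr 5 7
/-- The vector `{6, 7}`. -/
def w3 : W := pr 6 7

/-- Orthogonal to the fixed vectors of `sg`. -/
def Perp (w : W) : Prop := B w w1 = false ∧ B w w2 = false

instance (w : W) : Decidable (Perp w) := inferInstanceAs (Decidable (_ ∧ _))

theorem fix_cases : ∀ w : W, act sg w = w → w = w0 ∨ w = w1 ∨ w = w2 ∨ w = w3 := by decide +kernel

theorem w_facts : (act sg w1 = w1 ∧ act sg w2 = w2 ∧ act sg w3 = w3) ∧
    (q w1 = true ∧ q w2 = true ∧ q w3 = true) ∧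
    (B w1 w2 = true ∧ B w1 w3 = true ∧ B w2 w3 = true) ∧ add w1 w2 = w3 := by decide +kernel

theorem act_tu : act tu w1 = w3 ∧ act tu w2 = w1 ∧ act tu w3 = w2 := by decide +kernel

theorem reduce : ∀ w : W, ∃ u : W, act sg (add (add u w) (act sg u)) = add (add u w) (act sg u) := by
  decide +kernel

theorem split : ∀ w : W, ∃ f : W, act sg f = f ∧ Perp (add w f) := by decide +kernel

theorem perp_fix : ∀ w : W, Perp w → B w w3 = false := by decide +kernel

theorem perp_zero : ∀ w : W, act sg w = w → Perp w → w = w0 := by decide +kernel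

/-- Combinations of the translates of a vector. -/
def pl (c : Bool × Bool × Bool × Bool) (w : W) : W :=
  add (add (smul c.1 w) (smul c.2.1 (act sg w)))
    (add (smul c.2.2.1 (act sg (act sg w))) (smul c.2.2.2 (act sg (act sg (act sg w)))))

/-- A vector generating `Perp`. -/
def b0 : W := pr 0 1

theorem perp_b0 : Perp b0 := by decide +kernel

theorem perp_pl : ∀ w : W, Perp w → ∃ c, w = pl c b0 := by decide +kernel

theorem pl_comm : ∀ c d : Bool × Bool × Bool × Bool, pl c (pl d b0) = pl d (pl c b0) := by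
  decide +kernel

/-- Two maps commuting with `sg` commute on `Perp`. -/
theorem comm_on_perp {g g' : W → W} (ga : ∀ u v, g (add u v) = add (g u) (g v))
    (ga' : ∀ u v, g' (add u v) = add (g' u) (g' v)) (gs : ∀ w, g (act sg w) = act sg (g w))
    (gs' : ∀ w, g' (act sg w) = act sg (g' w)) (gp : ∀ w, Perp w → Perp (g w))
    (gp' : ∀ w, Perp w → Perp (g' w)) {w : W} (hw : Perp w) : g (g' w) = g' (g w) := by
  have key : ∀ {h : W → W}, (∀ u v, h (add u v) = add (h u) (h v)) →
      (∀ w, h (act sg w) = act sg (h w)) → ∀ c v, h (pl c v) = pl c (h v) := fun ha hs c v => by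
    simp only [pl, ha, additive_smul ha, hs]
  obtain ⟨d, hd⟩ := perp_pl _ (gp _ perp_b0)
  obtain ⟨e, he⟩ := perp_pl _ (gp' _ perp_b0)
  obtain ⟨c, rfl⟩ := perp_pl w hw
  rw [key ga' gs', key ga gs, key ga gs, key ga' gs', he, key ga gs, hd, key ga' gs', he, pl_comm e d]

end Cfsg.Agent.ConwayType.Five
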