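import Cfsg.Agent.Lib.ConwayType.FiveTop
import Cfsg.Agent.Lib.Forms.OmegaTwoClasses
import Cfsg.Agent.Lib.Forms.QuadOrder
import Cfsg.Agent.Lib.TI.Extraspecial

/-!
# The order five statement for groups of Conway type, from the Hall–Janko characterisation
-/

set_option autoImplicit false
set_option maxHeartbeats 400000
open Cfsg

namespace Cfsg.Agent.ConwayType

universe u

theorem card_omega : Nat.card (Omega (ZMod 2) (quadFormPlus 4 (ZMod 2))) = 174182400 := by
  classical
  have hm : Fintype.card (ZMod 2) ≠ 2 ∨ (4 : ℕ) ≠ 2 := Or.inr (by norm_num)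
  obtain ⟨-, -, -, -, -, -, ⟨c, hcn⟩, -⟩ :=
    Forms.OmegaTwoClasses.exists_plus_reps (F := ZMod 2) (m := 4) (by norm_num) hm
  obtain ⟨-, hpar⟩ := Forms.OmegaTwoClasses.omega_criteria _ _
    (QForm.coe_plusForm (ZMod 2) 4).symm (QForm.plusForm_nondegenerate (ZMod 2) 4)
    (Or.inr (by simp))
  set O := Omega (ZMod 2) (quadFormPlus 4 (ZMod 2))
  have hidx : O.index = 2 := by
    refine Subgroup.index_eq_two_iff.mpr ⟨c, fun b => ?_⟩
    by_cases hb : b ∈ O
    · exact Or.inr ⟨hb, fun hbc => hcn ((O.mul_mem_cancel_left hb).mp hbc)⟩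
    · exact Or.inl ⟨hpar b c hb hcn, hb⟩
  have h1 := O.card_mul_index
  have h2 : Nat.card ↥(isometryGroup (ZMod 2) (quadFormPlus 4 (ZMod 2))) = 348364800 := by
    rw [Forms.card_isometryGroup _ Forms.quadPlus_apply, Forms.card_isomQ_quadPlus 3, ZMod.card]
    norm_num [Finset.prod_range_succ]
  rw [hidx, h2] at h1
  omega

/-- The hypotheses of the statements give `Data`. -/
theorem data_of_setting {G : Type u} [Group G] [Finite G] (z : G) (hz : orderOf z = 2) (Q : Subgroup (Subgroup.centralizer ({z} : Set G))) [Q.Normal] (hF : Cfsg.generalizedFittingSubgroup (Subgroup.centralizer ({z} : Set G)) = Q) (hQ : Cfsg.IsExtraspecial 2 Q) (hcard : Nat.card Q = 2 ^ 9) (e : (Subgroup.centralizer ({z} : Set G)) ⧸ Q ≃* Cfsg.Omega (ZMod 2) (Cfsg.quadFormPlus 4 (ZMod 2))) (hnwc : ∃ g : G, (∃ hq : g * z * g⁻¹ ∈ Subgroup.centralizer ({z} : Set G), (⟨g * z * g⁻¹, hq⟩ : Subgroup.centralizer ({z} : Set G)) ∈ Q) ∧ g * z * g⁻¹ ≠ z) :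
    Data z (Q.map (Subgroup.centralizer ({z} : Set G)).subtype) := by
  classical
  set P : Subgroup G := Q.map (Subgroup.centralizer ({z} : Set G)).subtype with hP
  have hle : P ≤ Subgroup.centralizer ({z} : Set G) := Subgroup.map_subtype_le _
  obtain ⟨hub, -, -⟩ := LargeExtraspecial.Hub.of_setting (Q := P) hz hle (by rw [hF])
    (TI.isExtraspecial_congr (Q.equivMapOfInjective _ (Subgroup.subtype_injective _)) hQ)
  have hmem : ∀ {x : Subgroup.centralizer ({z} : Set G)}, (x : G) ∈ P ↔ x ∈ Q := fun {x} =>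
    Subgroup.mem_map_iff_mem (Subgroup.subtype_injective _)
  obtain ⟨g, ⟨hq, hgQ⟩, hgz⟩ := hnwc
  refine ⟨hub, hle, ?_, ?_, ⟨g, hmem.mpr hgQ, hgz⟩⟩
  · rw [hP, Subgroup.card_map_of_injective (Subgroup.subtype_injective _), hcard]; norm_num
  · rw [Subgroup.card_eq_card_quotient_mul_card_subgroup Q, Nat.card_congr e.toEquiv, card_omega,
      hcard]; norm_num

theorem five_statement
    (hJ : ∀ (K : Type u) [Group K] [Finite K], HallJankoType.Setup K → Cfsg.Spor.IsoJ2 K)
    {G : Type u} [Group G] [Finite G] (z : G) (hz : orderOf z = 2) (Q : Subgroup (Subgroup.centralizer ({z} : Set G))) [Q.Normal] (hF : Cfsg.generalizedFittingSubgroup (Subgroup.centralizer ({z} : Set G)) = Q) (hQ : Cfsg.IsExtraspecial 2 Q) (hcard : Nat.card Q = 2 ^ 9) (e : (Subgroup.centralizer ({z} : Set G)) ⧸ Q ≃* Cfsg.Omega (ZMod 2) (Cfsg.quadFormPlus 4 (ZMod 2))) (hnwc : ∃ g : G, (∃ hq : g * z * g⁻¹ ∈ Subgroup.centralizer ({z} : Set G), (⟨g * z * g⁻¹, hq⟩ : Subgroup.centralizer ({z}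 : Set G)) ∈ Q) ∧ g * z * g⁻¹ ≠ z) (B : Subgroup (Subgroup.centralizer ({z} : Set G))) (hB : Nat.card B = 5) (hCQ : Cfsg.IsExtraspecial 2 ↥(Q ⊓ Subgroup.centralizer (B : Set (Subgroup.centralizer ({z} : Set G))))) (hCQcard : Nat.card ↥(Q ⊓ Subgroup.centralizer (B : Set (Subgroup.centralizer ({z} : Set G)))) = 32) : Cfsg.Spor.IsoJ2 ↥(Cfsg.layer ↥(Subgroup.centralizer ((B.map (Subgroup.subtype (Subgroup.centralizer ({z} : Set G)))) : Set G))) ∧ Nonempty (↥(Subgroup.centralizer (((Cfsg.layer ↥(Subgroup.centralizer ((B.map (Subgroup.subtype (Subgroup.centralizer ({z} : Set G)))) : Set G))).map (Subgroup.subtype _)) : Set G)) ≃* alternatingGroup (Fin 5)) := by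
  classical
  have : Fact (Nat.Prime 5) := ⟨Nat.prime_five⟩
  have d := data_of_setting z hz Q hF hQ hcard e hnwc
  obtain ⟨b, hb⟩ : ∃ b : ↥B, orderOf b = 5 :=
    exists_prime_orderOf_dvd_card' 5 (by rw [hB])
  have hBz : B = Subgroup.zpowers (b : ↥(Subgroup.centralizer ({z} : Set G))) := by
    refine (Subgroup.eq_of_le_of_card_ge (Subgroup.zpowers_le.mpr b.2) ?_).symm
    rw [Nat.card_zpowers, hB, ← hb, ← orderOf_injective B.subtype (Subgroup.subtype_injective _)]
    rfl
  set bG : G := ((b : ↥(Subgroup.centralizer ({z} : Set G))) : G) with hbG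
  have hD : Subgroup.centralizer ((B.map (Subgroup.subtype (Subgroup.centralizer ({z} : Set G)))) : Set G) =
      Subgroup.centralizer ({bG} : Set G) := by
    rw [hBz, MonoidHom.map_zpowers, Subgroup.zpowers_eq_closure, Subgroup.centralizer_closure]
    rfl
  have hQb : (Q ⊓ Subgroup.centralizer (B : Set ↥(Subgroup.centralizer ({z} : Set G)))).map
      (Subgroup.centralizer ({z} : Set G)).subtype =
      Q.map (Subgroup.centralizer ({z} : Set G)).subtype ⊓ Subgroup.centralizer ({bG} : Set G) := by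
    rw [hBz, Subgroup.zpowers_eq_closure, Subgroup.centralizer_closure]
    ext r
    constructor
    · rintro ⟨r, ⟨hr, hrc⟩, rfl⟩
      exact ⟨⟨r, hr, rfl⟩, Subgroup.mem_centralizer_singleton_iff.mpr
        (congrArg Subtype.val (Subgroup.mem_centralizer_singleton_iff.mp hrc))⟩
    · rintro ⟨⟨r, hr, rfl⟩, hrc⟩
      exact ⟨r, ⟨hr, Subgroup.mem_centralizer_singleton_iff.mpr
        (Subtype.ext (Subgroup.mem_centralizer_singleton_iff.mp hrc))⟩, rfl⟩
  let eQ := ((Q ⊓ Subgroup.centralizer (B : Set ↥(Subgroup.centralizer ({z} : Set G)))).equivMapOfInjective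
    (Subgroup.centralizer ({z} : Set G)).subtype (Subgroup.subtype_injective _)).trans
    (MulEquiv.subgroupCongr hQb)
  have ho : orderOf bG = 5 := by
    rw [← hb]
    exact (orderOf_injective (Subgroup.centralizer ({z} : Set G)).subtype (Subgroup.subtype_injective _)
      (b : ↥(Subgroup.centralizer ({z} : Set G)))).trans
      (orderOf_injective B.subtype (Subgroup.subtype_injective _) b)
  refine Five.five_result d (b := bG) (ho ▸ pow_orderOf_eq_one bG) (fun e1 => by
    rw [e1, orderOf_one] at ho; omega) (mem_cz.mp (b : ↥(Subgroup.centralizer ({z} : Set G))).2)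
    (TI.isExtraspecial_congr eQ hCQ) ((Nat.card_congr eQ.toEquiv).symm.trans hCQcard) hJ hD

end Cfsg.Agent.ConwayType
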