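import Cfsg.Agent.Lib.ConwayType.Calculus

/-!
# Elements of `C(z) ∩ C(y)` respecting both coordinates

`Pure R π c`: conjugation by `c` maps `m(w)` to `m(π w)` modulo `⟨z⟩` and `n(v)` to `n(π v)` modulo
`⟨y⟩`. Every element of `C(z) ∩ C(y)` is `el * Pure`.
-/

set_option autoImplicit false
set_option maxHeartbeats 400000
set_option synthInstance.maxSize 2048

namespace Cfsg.Agent.ConwayType

open Subgroup
open Cfsg.Agent.LargeExtraspecial (Hub)

variable {G : Type*} [Group G] [Finite G] {z y : G} {Q : Subgroup G} {F : Frame z y Q}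
  {R : Radical F}

/-- `c` respects both coordinates. -/
def Pure (R : Radical F) (π : Equiv.Perm (Fin 8)) (c : G) : Prop :=
  c ∈ Dzy z y ∧ (∀ w, ∃ e, c * F.m w * c⁻¹ = F.m (act π w) * pw z e) ∧
    ∀ v, ∃ e, c * R.n v * c⁻¹ = R.n (act π v) * pw y e

open Classical in
/-- The central part of the action of `c` on `m`. -/
noncomputable def lam (F : Frame z y Q) (π : Equiv.Perm (Fin 8)) (c : G) (w : W) : Bool :=
  decide (c * F.m w * c⁻¹ ≠ F.m (act π w))

variable {π π' κ : Equiv.Perm (Fin 8)} {c c' : G}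

theorem Pure.lam_spec (hc : Pure R π c) (w : W) :
    c * F.m w * c⁻¹ = F.m (act π w) * pw z (lam F π c w) := by
  classical
  by_cases h : c * F.m w * c⁻¹ = F.m (act π w)
  · have : lam F π c w = false := decide_eq_false (not_not.mpr h)
    rw [this, pw_false, mul_one, h]
  · have : lam F π c w = true := decide_eq_true h
    obtain ⟨e, he⟩ := hc.2.1 w
    cases e
    · exact absurd (by simpa using he) h
    · rw [this, he]

theorem Pure.lam_eq (d : Data z Q) (hc : Pure R π c) {w : W} {e : Bool}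
    (h : c * F.m w * c⁻¹ = F.m (act π w) * pw z e) : lam F π c w = e :=
  pw_inj d.hub.ne_one (mul_left_cancel ((hc.lam_spec w).symm.trans h))

theorem Pure.actW (d : Data z Q) (hc : Pure R π c) (w : W) : F.actW c w = act π w := by
  obtain ⟨e, he⟩ := hc.2.1 w
  show F.wof _ = _
  rw [he, F.wof_mul d.hub (F.mem _) (pw_mem d.hub.mem _), F.wof_z d.hub, F.wof_m d.hub,
    (add_zero' _).1]

theorem Pure.vof (d : Data z Q) (hc : Pure R π c) : F.vof c = w0 := by
  by_contra hne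
  obtain ⟨u, hu⟩ := B_exists _ hne
  have hw : F.actW c (act π⁻¹ u) = u := by
    rw [hc.actW d, ← act_mul, mul_inv_cancel, act_one]
  obtain ⟨e, he⟩ := F.conj_m' d hc.1 (act π⁻¹ u)
  obtain ⟨e', he'⟩ := hc.2.1 (act π⁻¹ u)
  rw [hw, hu] at he
  rw [← hc.actW d, hw, he] at he'
  have h2 : F.m u * pw z e' = F.elem false false u e' := by simp [Frame.elem]
  rw [h2] at he'
  exact Bool.noConfusion (F.elem_inj d.hub he').2.1

theorem Pure.mul (d : Data z Q) (hc : Pure R π c) (hc' : Pure R π' c') :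
    Pure R (π * π') (c * c') := by
  refine ⟨mul_mem hc.1 hc'.1, fun w => ?_, fun v => ?_⟩
  · obtain ⟨e, he⟩ := hc'.2.1 w
    obtain ⟨e', he'⟩ := hc.2.1 (act π' w)
    refine ⟨xor e' e, ?_⟩
    rw [show c * c' * F.m w * (c * c')⁻¹ = c * (c' * F.m w * c'⁻¹) * c⁻¹ by group, he, act_mul,
      show c * (F.m (act π' w) * pw z e) * c⁻¹ =
        c * F.m (act π' w) * c⁻¹ * (c * pw z e * c⁻¹) by group,
      conj_of_commute (pw_commute (mem_Dzy.mp hc.1).1 e), he', mul_assoc, pw_mul d.hub.sq]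
  · obtain ⟨e, he⟩ := hc'.2.2 v
    obtain ⟨e', he'⟩ := hc.2.2 (act π' v)
    refine ⟨xor e' e, ?_⟩
    rw [show c * c' * R.n v * (c * c')⁻¹ = c * (c' * R.n v * c'⁻¹) * c⁻¹ by group, he, act_mul,
      show c * (R.n (act π' v) * pw y e) * c⁻¹ =
        c * R.n (act π' v) * c⁻¹ * (c * pw y e * c⁻¹) by group,
      conj_of_commute (pw_commute (mem_Dzy.mp hc.1).2 e), he', mul_assoc, pw_mul F.sing.2.1]

theorem Pure.inv (d : Data z Q) (hc : Pure R π c) : Pure R π⁻¹ c⁻¹ := by
  obtain ⟨hcz, hcy⟩ := mem_Dzy.mp hc.1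
  have back : ∀ {a b : G} {x : G} {e : Bool}, Commute c x → c * a * c⁻¹ = b * pw x e →
      c⁻¹ * b * c⁻¹⁻¹ = a * (pw x e)⁻¹ := by
    intro a b x e hx h
    have hb : b = c * a * c⁻¹ * (pw x e)⁻¹ := by rw [h, mul_inv_cancel_right]
    rw [hb, show c⁻¹ * (c * a * c⁻¹ * (pw x e)⁻¹) * c⁻¹⁻¹ = a * (c⁻¹ * (pw x e)⁻¹ * c⁻¹⁻¹) by group,
      conj_of_commute (pw_commute hx e).inv_left.inv_right]
  refine ⟨inv_mem hc.1, fun w => ?_, fun v => ?_⟩
  · obtain ⟨e, he⟩ := hc.2.1 (act π⁻¹ w)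
    rw [← act_mul, mul_inv_cancel, act_one] at he
    refine ⟨e, ?_⟩
    rw [back hcz he]
    cases e <;> simp [inv_eq_of_mul_eq_one_right (show z * z = 1 from d.hub.sq)]
  · obtain ⟨e, he⟩ := hc.2.2 (act π⁻¹ v)
    rw [← act_mul, mul_inv_cancel, act_one] at he
    refine ⟨e, ?_⟩
    rw [back hcy he]
    cases e <;> simp [inv_eq_of_mul_eq_one_right F.sing.2.1]

theorem pure_one (d : Data z Q) (R : Radical F) : Pure R 1 (1 : G) :=
  ⟨one_mem _, fun w => ⟨false, by simp [act_one]⟩, fun v => ⟨false, by simp [act_one]⟩⟩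

theorem Pure.eq_kk (d : Data z Q) (hc : Pure R 1 c) : ∃ a b, c = R.kk a b := by
  obtain ⟨w, v, a, b, rfl⟩ := R.exists_el d hc.1 fun w => by rw [hc.actW d, act_one]
  have hv := hc.vof d
  rw [R.el_vof d] at hv
  subst hv
  refine ⟨a, b, ?_⟩
  have hw : w = w0 := by
    by_contra hne
    obtain ⟨v', hv'⟩ := B_exists w hne
    obtain ⟨e, he⟩ := hc.2.2 v'
    rw [R.n_eq d, act_one, R.el_conj d] at he
    have h1 : R.kk (cy w w0 w0 v') (cz w w0 w0 v') = R.kk e false := by
      rw [← R.n_eq d] at he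
      rw [mul_left_cancel he]; simp [Radical.kk]
    have h2 := (pw_yz_inj d.hub F.sing h1).2
    rw [cz, B_w0, B_symm w v', hv', B_symm w0, B_w0] at h2
    exact Bool.noConfusion h2
  rw [hw, R.el_w0 d]

theorem exists_pure (d : Data z Q) (R : Radical F) {c : G} (hc : c ∈ Dzy z y)
    {π : Equiv.Perm (Fin 8)} (hact : ∀ w, F.actW c w = act π w) :
    ∃ w v a b, Pure R π (R.el w v a b * c) := by
  choose a₁ b₁ hn using R.conj c hc
  have hb : ∀ u v, b₁ (add u v) = xor (b₁ u) (b₁ v) := by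
    intro u v
    obtain ⟨e, he⟩ := R.add u v
    obtain ⟨e', he'⟩ := R.add (act π u) (act π v)
    have h1 : c * R.n u * c⁻¹ * (c * R.n v * c⁻¹) = c * R.n (add u v) * c⁻¹ * (c * pw y e * c⁻¹) := by
      rw [show c * R.n u * c⁻¹ * (c * R.n v * c⁻¹) = c * (R.n u * R.n v) * c⁻¹ by group, he]
      group
    rw [hn, hn, hn, hact, hact, hact, act_add, conj_of_commute (pw_commute (mem_Dzy.mp hc).2 e)] at h1
    have hk : ∀ s t, pw y s * pw z t = R.kk s t := fun _ _ => rfl
    have l1 : R.n (act π u) * pw y (a₁ u) * pw z (b₁ u) * (R.n (act π v) * pw y (a₁ v) * pw z (b₁ v)) =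
        R.el w0 (add (act π u) (act π v)) (xor e' (xor (a₁ u) (a₁ v))) (xor (b₁ u) (b₁ v)) := by
      have cm := R.commute_kk d (R.mem (act π v)) (a₁ u) (b₁ u)
      calc R.n (act π u) * pw y (a₁ u) * pw z (b₁ u) * (R.n (act π v) * pw y (a₁ v) * pw z (b₁ v))
          = R.n (act π u) * (R.kk (a₁ u) (b₁ u) * R.n (act π v)) * R.kk (a₁ v) (b₁ v) := by
            rw [Radical.kk, Radical.kk]; group
        _ = R.n (act π u) * R.n (act π v) * (R.kk (a₁ u) (b₁ u) * R.kk (a₁ v) (b₁ v)) := by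
            rw [← cm.eq]; group
        _ = _ := by
          rw [he', R.kk_mul d, show pw y e' = R.kk e' false by simp [Radical.kk], mul_assoc,
            R.kk_mul d, Bool.false_xor, Radical.el, F.zero, one_mul]
    have l2 : R.n (add (act π u) (act π v)) * pw y (a₁ (add u v)) * pw z (b₁ (add u v)) * pw y e =
        R.el w0 (add (act π u) (act π v)) (xor (a₁ (add u v)) e) (b₁ (add u v)) := by
      rw [mul_assoc (R.n _), hk, show pw y e = R.kk e false by simp [Radical.kk], mul_assoc,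
        R.kk_mul d, Bool.xor_false, Radical.el, F.zero, one_mul]
    rw [l1, l2] at h1
    exact (R.el_inj d h1).2.2.2.symm
  have hb' := linear_eq (f := fun v => b₁ (act π⁻¹ v)) fun u v => by simp only [act_add, hb]
  set β := dual (b₁ (act π⁻¹ f0), b₁ (act π⁻¹ f1), b₁ (act π⁻¹ f2), b₁ (act π⁻¹ f3),
    b₁ (act π⁻¹ f4), b₁ (act π⁻¹ f5))
  refine ⟨β, F.vof c, false, false, mul_mem (R.el_mem d _ _ _ _) hc, fun w => ?_, fun v => ?_⟩
  · obtain ⟨e, he⟩ := F.conj_m' d hc w
    rw [hact] at he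
    refine ⟨xor (cz β (F.vof c) (act π w) w0) e, ?_⟩
    set o := R.el β (F.vof c) false false
    have he : c * F.m w * c⁻¹ = F.m (act π w) * R.kk (B (act π w) (F.vof c)) e := by
      rw [he, Frame.elem, pw_false, one_mul, ← (pw_commute (F.comm_y _) _).eq, Radical.kk, mul_assoc]
    rw [show o * c * F.m w * (o * c)⁻¹ = o * (c * F.m w * c⁻¹) * o⁻¹ by group, he,
      show o * (F.m (act π w) * R.kk (B (act π w) (F.vof c)) e) * o⁻¹ =
        o * F.m (act π w) * o⁻¹ * (o * R.kk (B (act π w) (F.vof c)) e * o⁻¹) by group,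
      R.m_eq d (act π w), R.el_conj d, conj_of_commute (R.commute_kk d (R.el_mem d _ _ _ _) _ _),
      mul_assoc, R.kk_mul d]
    have : xor (cy β (F.vof c) (act π w) w0) (B (act π w) (F.vof c)) = false := by
      rw [cy, B_w0, B_w0]; simp
    rw [this, Radical.kk, pw_false, one_mul]
  · refine ⟨xor (cy β (F.vof c) w0 (act π v)) (a₁ v), ?_⟩
    set o := R.el β (F.vof c) false false
    have he : c * R.n v * c⁻¹ = R.n (act π v) * R.kk (a₁ v) (b₁ v) := by
      rw [hn, hact, Radical.kk, mul_assoc]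
    rw [show o * c * R.n v * (o * c)⁻¹ = o * (c * R.n v * c⁻¹) * o⁻¹ by group, he,
      show o * (R.n (act π v) * R.kk (a₁ v) (b₁ v)) * o⁻¹ =
        o * R.n (act π v) * o⁻¹ * (o * R.kk (a₁ v) (b₁ v) * o⁻¹) by group,
      R.n_eq d (act π v), R.el_conj d, conj_of_commute (R.commute_kk d (R.el_mem d _ _ _ _) _ _),
      mul_assoc, R.kk_mul d]
    have : xor (cz β (F.vof c) w0 (act π v)) (b₁ v) = false := by
      have e1 := hb' (act π v)
      simp only [← act_mul, inv_mul_cancel, act_one] at e1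
      rw [cz, B_w0, B_symm β, ← e1, B_symm w0, B_w0]; simp
    rw [this, Radical.kk, pw_false, mul_one]

theorem Pure.el_decomp (d : Data z Q) (R : Radical F) {c : G} (hc : c ∈ Dzy z y) :
    ∃ π w v a b p, Equiv.Perm.sign π = 1 ∧ (∀ u, F.actW c u = act π u) ∧ Pure R π p ∧
      c = R.el w v a b * p := by
  obtain ⟨-, -, -, hP⟩ := F.orders d
  obtain ⟨π, hπ, hact⟩ := hP c hc
  obtain ⟨w, v, a, b, hp⟩ := exists_pure d R hc hact
  obtain ⟨a', b', e⟩ := R.el_inv d w v a b
  exact ⟨π, w, v, a', b', _, hπ, hact, hp, by rw [← e, inv_mul_cancel_left]⟩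

theorem exists_pure_of_even (d : Data z Q) (R : Radical F) {π : Equiv.Perm (Fin 8)}
    (h : Equiv.Perm.sign π = 1) : ∃ p, Pure R π p := by
  obtain ⟨-, -, hA, -⟩ := F.orders d
  obtain ⟨c, hc, hact⟩ := hA π h
  obtain ⟨w, v, a, b, hp⟩ := exists_pure d R hc hact
  exact ⟨_, hp⟩

/-- Conjugation by a twist. -/
theorem Twist.conj_pure (d : Data z Q) (T : Twist R) (hc : Pure R π c) :
    Pure R (T.ρ * π * T.ρ⁻¹) (T.h * c * T.h⁻¹) := by
  obtain ⟨hcz, hcy⟩ := mem_Dzy.mp hc.1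
  have hD : T.h * c * T.h⁻¹ ∈ Dzy z y := mem_Dzy.mpr
    ⟨by have := hcy.map (MulAut.conj T.h).toMonoidHom
        simpa [T.h_y] using this,
      by have := hcz.map (MulAut.conj T.h).toMonoidHom
         simpa [T.h_z] using this⟩
  have hback : ∀ w, act T.ρ (act T.ρ⁻¹ w) = w := fun w => by rw [← act_mul, mul_inv_cancel, act_one]
  refine ⟨hD, fun w => ?_, fun v => ?_⟩
  · obtain ⟨b, hb⟩ := T.h_n (act T.ρ⁻¹ w)
    obtain ⟨e, he⟩ := hc.2.2 (act T.ρ⁻¹ w)
    obtain ⟨b', hb'⟩ := T.h_n (act π (act T.ρ⁻¹ w))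
    refine ⟨xor (xor b' e) b, ?_⟩
    rw [hback] at hb
    have hm : F.m w = T.h * R.n (act T.ρ⁻¹ w) * T.h⁻¹ * pw z b := by
      rw [hb, mul_assoc, pw_mul d.hub.sq, Bool.xor_self, pw_false, mul_one]
    calc T.h * c * T.h⁻¹ * F.m w * (T.h * c * T.h⁻¹)⁻¹
        = T.h * (c * R.n (act T.ρ⁻¹ w) * c⁻¹) * T.h⁻¹ *
            (T.h * c * T.h⁻¹ * pw z b * (T.h * c * T.h⁻¹)⁻¹) := by rw [hm]; group
      _ = T.h * R.n (act π (act T.ρ⁻¹ w)) * T.h⁻¹ * (T.h * pw y e * T.h⁻¹) * pw z b := by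
          rw [he, conj_of_commute (pw_commute (mem_Dzy.mp hD).1 b)]; group
      _ = _ := by
          rw [hb', pw_conj T.h_y, mul_assoc (F.m _), pw_mul d.hub.sq, mul_assoc (F.m _),
            pw_mul d.hub.sq, act_mul, act_mul]
  · obtain ⟨b, hb⟩ := T.h_m (act T.ρ⁻¹ v)
    obtain ⟨e, he⟩ := hc.2.1 (act T.ρ⁻¹ v)
    obtain ⟨b', hb'⟩ := T.h_m (act π (act T.ρ⁻¹ v))
    refine ⟨xor (xor b' e) b, ?_⟩
    rw [hback] at hb
    have hn : R.n v = T.h * F.m (act T.ρ⁻¹ v) * T.h⁻¹ * pw y b := by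
      rw [hb, mul_assoc, pw_mul F.sing.2.1, Bool.xor_self, pw_false, mul_one]
    calc T.h * c * T.h⁻¹ * R.n v * (T.h * c * T.h⁻¹)⁻¹
        = T.h * (c * F.m (act T.ρ⁻¹ v) * c⁻¹) * T.h⁻¹ *
            (T.h * c * T.h⁻¹ * pw y b * (T.h * c * T.h⁻¹)⁻¹) := by rw [hn]; group
      _ = T.h * F.m (act π (act T.ρ⁻¹ v)) * T.h⁻¹ * (T.h * pw z e * T.h⁻¹) * pw y b := by
          rw [he, conj_of_commute (pw_commute (mem_Dzy.mp hD).2 b)]; group
      _ = _ := by
          rw [hb', pw_conj T.h_z, mul_assoc (R.n _), pw_mul F.sing.2.1, mul_assoc (R.n _),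
            pw_mul F.sing.2.1, act_mul, act_mul]

theorem Twist.conj_el (d : Data z Q) (T : Twist R) (w v : W) (a b : Bool) :
    ∃ a' b', T.h * R.el w v a b * T.h⁻¹ = R.el (act T.ρ v) (act T.ρ w) a' b' := by
  obtain ⟨s, hs⟩ := T.h_m w
  obtain ⟨t, ht⟩ := T.h_n v
  obtain ⟨a', b', e⟩ := R.el_mul d w0 (act T.ρ w) (act T.ρ v) w0 s false false t
  refine ⟨xor a' b, xor b' a, ?_⟩
  have e1 : R.n (act T.ρ w) * pw y s = R.el w0 (act T.ρ w) s false := by
    simp [Radical.el, Radical.kk, F.zero]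
  have e2 : F.m (act T.ρ v) * pw z t = R.el (act T.ρ v) w0 false t := by
    simp [Radical.el, Radical.kk, R.zero]
  calc T.h * R.el w v a b * T.h⁻¹
      = T.h * F.m w * T.h⁻¹ * (T.h * R.n v * T.h⁻¹) * (T.h * R.kk a b * T.h⁻¹) := by
        rw [Radical.el]; group
    _ = R.el (act T.ρ v) (act T.ρ w) a' b' * R.kk b a := by
        rw [hs, ht, kk_twist d T.h_z T.h_y, e1, e2, e, (add_zero' _).2, (add_zero' _).1]
    _ = _ := R.el_kk d _ _ _ _ _ _

/-- A pure element over an involution is an involution. -/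
theorem Pure.sq (d : Data z Q) (T : Twist R) (hc : Pure R π c) (hπ : π * π = 1) : c * c = 1 := by
  have half : ∀ {π : Equiv.Perm (Fin 8)} {c : G}, Pure R π c → π * π = 1 →
      ∃ k, c * c = R.kk false k := by
    intro π c hc hπ
    obtain ⟨k1, k2, hk⟩ := (hπ ▸ hc.mul d hc).eq_kk d
    obtain ⟨e, he⟩ := F.conj_x d hc.1
    rw [hc.vof d, F.qc_eq d, show q w0 = false from rfl] at he
    have he : c * F.x * c⁻¹ = F.x * pw z e := by simpa [Frame.elem, F.zero] using he
    have h2 : c * c * F.x * (c * c)⁻¹ = F.x := by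
      rw [show c * c * F.x * (c * c)⁻¹ = c * (c * F.x * c⁻¹) * c⁻¹ by group, he,
        show c * (F.x * pw z e) * c⁻¹ = c * F.x * c⁻¹ * (c * pw z e * c⁻¹) by group,
        conj_of_commute (pw_commute (mem_Dzy.mp hc.1).1 e), he, mul_assoc, pw_mul d.hub.sq,
        Bool.xor_self, pw_false, mul_one]
    rw [hk] at h2
    have h3 : fl (R.kk k1 k2) F.x = false := fl_eq_false.mpr (mul_inv_eq_iff_eq_mul.mp h2)
    rw [Radical.kk, fl_mul d.hub (pw_mem F.sing.1 _) (pw_mem d.hub.mem _) F.hx, fl_pw, fl_pw,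
      fl_z d.hub F.hx, fl_symm y, F.x_y] at h3
    refine ⟨k2, ?_⟩
    have : k1 = false := by simpa using h3
    rw [hk, this]
  obtain ⟨k, hk⟩ := half hc hπ
  obtain ⟨k', hk'⟩ := half (T.conj_pure d hc) (by
    rw [show T.ρ * π * T.ρ⁻¹ * (T.ρ * π * T.ρ⁻¹) = T.ρ * (π * π) * T.ρ⁻¹ by group, hπ]; group)
  rw [show T.h * c * T.h⁻¹ * (T.h * c * T.h⁻¹) = T.h * (c * c) * T.h⁻¹ by group, hk,
    kk_twist d T.h_z T.h_y] at hk'
  rw [hk, (pw_yz_inj d.hub F.sing hk').1]
  simp [Radical.kk]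

/-- The central part is additive on fixed vectors. -/
theorem Pure.lam_add (d : Data z Q) (hc : Pure R π c) {u v : W} (hu : act π u = u)
    (hv : act π v = v) : lam F π c (add u v) = xor (lam F π c u) (lam F π c v) := by
  refine hc.lam_eq d ?_
  obtain ⟨e, he⟩ := F.m_add u v
  have h1 := hc.lam_spec u
  have h2 := hc.lam_spec v
  rw [hu] at h1
  rw [hv] at h2
  have hm : F.m (add u v) = F.m u * F.m v * pw z e := by
    rw [he, mul_assoc, pw_mul d.hub.sq, Bool.xor_self, pw_false, mul_one]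
  rw [act_add, hu, hv]
  have cz' : ∀ s, Commute (pw z s) (F.m v) := fun s => (pw_commute (d.hub.central _ (F.mem v)) s).symm
  calc c * F.m (add u v) * c⁻¹ = c * F.m u * c⁻¹ * (c * F.m v * c⁻¹) * (c * pw z e * c⁻¹) := by
        rw [hm]; group
    _ = F.m u * (pw z (lam F π c u) * F.m v) * (pw z (lam F π c v) * pw z e) := by
        rw [h1, h2, conj_of_commute (pw_commute (mem_Dzy.mp hc.1).1 e)]; group
    _ = F.m (add u v) * (pw z e * (pw z (lam F π c u) * (pw z (lam F π c v) * pw z e))) := by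
        rw [(cz' _).eq, show F.m u * (F.m v * pw z (lam F π c u)) = F.m u * F.m v * pw z (lam F π c u) by group, he]
        group
    _ = _ := by
        rw [pw_mul d.hub.sq, pw_mul d.hub.sq, pw_mul d.hub.sq]
        congr 2
        cases e <;> cases lam F π c u <;> cases lam F π c v <;> rfl

/-- The central part on the commutators of an involution. -/
theorem Pure.lam_comm (d : Data z Q) (T : Twist R) (hc : Pure R π c) (hπ : π * π = 1) (a : W) :
    lam F π c (add a (act π a)) = q (add a (act π a)) := by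
  refine hc.lam_eq d ?_
  have haa : act π (act π a) = a := by rw [← act_mul, hπ, act_one]
  obtain ⟨e, he⟩ := F.m_add a (act π a)
  set b := act π a
  have h1 := hc.lam_spec a
  have h2 := hc.lam_spec b
  rw [haa] at h2
  have hl : lam F π c b = lam F π c a := by
    have h3 : c * (c * F.m a * c⁻¹) * c⁻¹ = F.m a := by
      rw [show c * (c * F.m a * c⁻¹) * c⁻¹ = c * c * F.m a * (c * c)⁻¹ by group, hc.sq d T hπ]
      group
    rw [h1, show c * (F.m b * pw z (lam F π c a)) * c⁻¹ =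
        c * F.m b * c⁻¹ * (c * pw z (lam F π c a) * c⁻¹) by group,
      conj_of_commute (pw_commute (mem_Dzy.mp hc.1).1 _), h2, mul_assoc, pw_mul d.hub.sq,
      mul_eq_left] at h3
    revert h3
    cases lam F π c b <;> cases lam F π c a <;> simp [d.hub.ne_one]
  have hm : F.m (add a b) = F.m a * F.m b * pw z e := by
    rw [he, mul_assoc, pw_mul d.hub.sq, Bool.xor_self, pw_false, mul_one]
  have hsw : F.m b * F.m a = F.m a * F.m b * pw z (B b a) := by
    have hs := fl_spec d.hub (F.mem b) (F.mem a)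
    rw [F.m_m] at hs
    calc F.m b * F.m a = F.m b * F.m a * (F.m b)⁻¹ * F.m b := by group
      _ = F.m a * (pw z (B b a) * F.m b) := by rw [hs]; group
      _ = _ := by rw [← (pw_commute (d.hub.central _ (F.mem b)) (B b a)).eq]; group
  have hqb : q (add a b) = B a b := by rw [q_add, q_act]; cases q a <;> simp
  have hfix : act π (add a b) = add a b := by rw [act_add, haa, add_comm']
  rw [hfix, hqb]
  have cz' : ∀ s, Commute (pw z s) (F.m a) := fun s => (pw_commute (d.hub.central _ (F.mem a)) s).symm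
  calc c * F.m (add a b) * c⁻¹ = c * F.m a * c⁻¹ * (c * F.m b * c⁻¹) * (c * pw z e * c⁻¹) := by
        rw [hm]; group
    _ = F.m b * (pw z (lam F π c a) * F.m a) * (pw z (lam F π c a) * pw z e) := by
        rw [h1, h2, hl, conj_of_commute (pw_commute (mem_Dzy.mp hc.1).1 e)]; simp only [b]; group
    _ = F.m b * F.m a * (pw z (lam F π c a) * (pw z (lam F π c a) * pw z e)) := by
        rw [(cz' _).eq]; group
    _ = F.m (add a b) * (pw z e * (pw z (B b a) * (pw z (lam F π c a) * (pw z (lam F π c a) * pw z e)))) := by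
        rw [hsw, he]; group
    _ = _ := by
        rw [pw_mul d.hub.sq, pw_mul d.hub.sq, pw_mul d.hub.sq, pw_mul d.hub.sq, B_symm b a]
        congr 2
        cases e <;> cases lam F π c a <;> cases B a b <;> rfl

theorem Pure.lam_indep (d : Data z Q) (T : Twist R) (hc : Pure R π c) (hc' : Pure R π c')
    (hπ : π * π = 1) (w : W) : lam F π c w = lam F π c' w := by
  obtain ⟨a, b, hk⟩ := (hπ ▸ hc.mul d hc').eq_kk d
  have hcc : c = R.kk a b * c' := by
    rw [← hk, mul_assoc, hc'.sq d T hπ, mul_one]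
  refine hc.lam_eq d ?_
  rw [hcc, show R.kk a b * c' * F.m w * (R.kk a b * c')⁻¹ =
    R.kk a b * (c' * F.m w * c'⁻¹) * (R.kk a b)⁻¹ by group, hc'.lam_spec w]
  refine conj_of_commute (Commute.symm (R.commute_kk d (mul_mem (Radical.m_mem d _) ?_) a b))
  exact pw_mem (Radical.z_mem d F) _

theorem Pure.lam_mul (d : Data z Q) (hc : Pure R π c) (hc' : Pure R π' c') {w : W}
    (h : act π w = w) (h' : act π' w = w) :
    lam F (π * π') (c * c') w = xor (lam F π c w) (lam F π' c' w) := by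
  refine (hc.mul d hc').lam_eq d ?_
  have h1 := hc.lam_spec w
  have h2 := hc'.lam_spec w
  rw [h] at h1
  rw [h'] at h2
  rw [show c * c' * F.m w * (c * c')⁻¹ = c * (c' * F.m w * c'⁻¹) * c⁻¹ by group, h2,
    show c * (F.m w * pw z (lam F π' c' w)) * c⁻¹ =
      c * F.m w * c⁻¹ * (c * pw z (lam F π' c' w) * c⁻¹) by group,
    conj_of_commute (pw_commute (mem_Dzy.mp hc.1).1 _), h1, mul_assoc, pw_mul d.hub.sq, act_mul, h', h]

theorem Pure.lam_invariant (d : Data z Q) (T : Twist R) (hc : Pure R π c) (hπ : π * π = 1)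
    {k : G} (hk : Pure R κ k) (hcomm : κ * π * κ⁻¹ = π) {w : W} (hw : act π w = w) :
    lam F π c (act κ w) = lam F π c w := by
  have hp : Pure R π (k * c * k⁻¹) := hcomm ▸ (hk.mul d hc).mul d (hk.inv d)
  rw [hc.lam_indep d T hp hπ]
  refine hp.lam_eq d ?_
  have hfix : act π (act κ w) = act κ w := by
    rw [← act_mul, ← hcomm, inv_mul_cancel_right, act_mul, hw]
  have h1 := hk.lam_spec w
  have h2 := hc.lam_spec w
  rw [hw] at h2
  obtain ⟨hkz, -⟩ := mem_Dzy.mp hk.1
  have hkc : Commute (k * c * k⁻¹) z :=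
    (hkz.mul_left (mem_Dzy.mp hc.1).1).mul_left hkz.inv_left
  have hm : F.m (act κ w) = k * F.m w * k⁻¹ * pw z (lam F κ k w) := by
    rw [h1, mul_assoc, pw_mul d.hub.sq, Bool.xor_self, pw_false, mul_one]
  calc k * c * k⁻¹ * F.m (act κ w) * (k * c * k⁻¹)⁻¹
      = k * (c * F.m w * c⁻¹) * k⁻¹ * (k * c * k⁻¹ * pw z (lam F κ k w) * (k * c * k⁻¹)⁻¹) := by
        rw [hm]; group
    _ = k * F.m w * k⁻¹ * pw z (lam F κ k w) * pw z (lam F π c w) := by
        rw [h2, conj_of_commute (pw_commute hkc _),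
          show k * (F.m w * pw z (lam F π c w)) * k⁻¹ =
            k * F.m w * k⁻¹ * (k * pw z (lam F π c w) * k⁻¹) by group,
          conj_of_commute (pw_commute hkz _), mul_assoc,
          (pw_commute (pw_commute (Commute.refl z) (lam F κ k w)).symm (lam F π c w)).eq.symm]
        group
    _ = _ := by rw [← hm, hfix]

/-- Conjugation by `x`. -/
theorem x_conj (d : Data z Q) (R : Radical F) (w v : W) (a b : Bool) :
    ∃ a' b', F.x * R.el w v a b * F.x⁻¹ = R.el (add w v) v a' b' := by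
  obtain ⟨e, he⟩ := F.conj_x d (R.mem v)
  rw [R.vof, F.qc_eq d] at he
  have hx : F.x⁻¹ = F.x := inv_eq_of_mul_eq_one_right F.x_sq
  have hxn : F.x * R.n v * F.x⁻¹ = R.kk (q v) false * F.m v * R.kk false e * R.n v := by
    calc F.x * R.n v * F.x⁻¹ = F.x * (R.n v * F.x⁻¹ * (R.n v)⁻¹) * R.n v := by group
      _ = F.x * (R.n v * F.x * (R.n v)⁻¹) * R.n v := by rw [hx]
      _ = _ := by
        rw [he, Frame.elem, pw_true, Radical.kk, Radical.kk, pw_false, pw_false, mul_one, one_mul,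
          ← mul_assoc F.x, ← mul_assoc F.x, ← mul_assoc F.x, F.x_sq, one_mul]
  have hxk : F.x * R.kk a b * F.x⁻¹ = R.kk a (xor a b) := by
    have hy' : F.x * y * F.x⁻¹ = y * z := by
      rw [fl_spec d.hub F.hx F.sing.1, F.x_y, pw_true]
    rw [Radical.kk, show F.x * (pw y a * pw z b) * F.x⁻¹ =
      F.x * pw y a * F.x⁻¹ * (F.x * pw z b * F.x⁻¹) by group,
      conj_of_commute (pw_commute (d.hub.central _ F.hx) b)]
    cases a
    · simp [Radical.kk]
    · rw [pw_true, hy', mul_assoc, show z * pw z b = pw z true * pw z b from rfl, pw_mul d.hub.sq]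
      rfl
  have e1 : R.kk (q v) false * F.m v * R.kk false e * R.n v = R.el v v (q v) e := by
    have hc1 := R.commute_kk d (Radical.m_mem d (F := F) v) (q v) false
    have hc2 := R.commute_kk d (R.mem v) (q v) e
    calc R.kk (q v) false * F.m v * R.kk false e * R.n v
        = F.m v * (R.kk (q v) false * R.kk false e * R.n v) := by rw [← hc1.eq]; group
      _ = _ := by rw [R.kk_mul d, Bool.xor_false, Bool.false_xor, ← hc2.eq, Radical.el]; group
  obtain ⟨a', b', em⟩ := R.el_mul d w w0 v v false false (q v) e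
  refine ⟨xor a' a, xor b' (xor a b), ?_⟩
  calc F.x * R.el w v a b * F.x⁻¹
      = F.x * F.m w * F.x⁻¹ * (F.x * R.n v * F.x⁻¹) * (F.x * R.kk a b * F.x⁻¹) := by
        rw [Radical.el]; group
    _ = R.el w w0 false false * R.el v v (q v) e * R.kk a (xor a b) := by
        rw [conj_of_commute (fl_eq_false.mp (F.x_m w)), hxn, e1, hxk, ← R.m_eq d]
    _ = _ := by rw [em, (add_zero' _).2, R.el_kk d]

end Cfsg.Agent.ConwayType
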