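import Cfsg.Agent.Lib.ConwayType.FivePerm
import Cfsg.Agent.Lib.ConwayType.Pure

/-!
# The standard element of order five in `C(z) ∩ C(y)`

`Std R p`: `p` is a pure lift of `sg` with `p ^ 5 = 1`. It commutes with everything it fixes modulo a
central involution, and every element of order five of `C(z) ∩ C(y)` is conjugate to it there.
-/

set_option autoImplicit false
set_option maxHeartbeats 400000
set_option synthInstance.maxSize 2048

namespace Cfsg.Agent.ConwayType.Five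

open Subgroup
open Cfsg.Agent.LargeExtraspecial (Hub)

variable {G : Type*} [Group G] [Finite G] {z y : G} {Q : Subgroup G} {F : Frame z y Q}
  {R : Radical F}

omit [Finite G] in
theorem pow5_of_sq {k : G} (h : k * k = 1) : k ^ 5 = k := by
  rw [pow_succ, pow_mul k 2 2, pow_two k, h, one_pow, one_mul]

omit [Finite G] in
/-- An element of order five commutes with what it fixes modulo a central involution. -/
theorem comm_of_pow5 {p c k : G} (hp : p ^ 5 = 1) (hk : k * k = 1) (hpk : Commute p k)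
    (h : p * c * p⁻¹ = c * k) : Commute p c := by
  have it : ∀ n : ℕ, p ^ n * c * (p ^ n)⁻¹ = c * k ^ n := by
    intro n
    induction n with
    | zero => simp
    | succ n ih =>
      rw [pow_succ', show p * p ^ n * c * (p * p ^ n)⁻¹ = p * (p ^ n * c * (p ^ n)⁻¹) * p⁻¹ by group,
        ih, show p * (c * k ^ n) * p⁻¹ = p * c * p⁻¹ * (p * k ^ n * p⁻¹) by group, h,
        conj_of_commute (hpk.pow_right n), mul_assoc, ← pow_succ']
  have e := it 5
  rw [hp, one_mul, inv_one, mul_one, pow5_of_sq hk] at e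
  rw [← e] at h
  exact mul_inv_eq_iff_eq_mul.mp h

/-- `p` is the standard element. -/
structure Std (R : Radical F) (p : G) : Prop where
  lift : Pure R sg p
  pow : p ^ 5 = 1

theorem kk_sq (d : Data z Q) (R : Radical F) (a b : Bool) : R.kk a b * R.kk a b = 1 := by
  rw [R.kk_mul d]; simp [Radical.kk]

theorem pure_eq {π : Equiv.Perm (Fin 8)} {c c' : G} (d : Data z Q) (hc : Pure R π c)
    (hc' : Pure R π c') : ∃ a b, c' = c * R.kk a b := by
  obtain ⟨a, b, e⟩ := (inv_mul_cancel π ▸ (hc.inv d).mul d hc').eq_kk d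
  exact ⟨a, b, by rw [← e, mul_inv_cancel_left]⟩

theorem pure_pow {π : Equiv.Perm (Fin 8)} {c : G} (d : Data z Q) (hc : Pure R π c) :
    ∀ n : ℕ, Pure R (π ^ n) (c ^ n)
  | 0 => by simpa using pure_one d R
  | n + 1 => by simpa [pow_succ] using (pure_pow d hc n).mul d hc

theorem pure_unique {π π' : Equiv.Perm (Fin 8)} {c : G} (d : Data z Q) (hc : Pure R π c)
    (hc' : Pure R π' c) : π = π' :=
  act_inj fun w => (hc.actW d w).symm.trans (hc'.actW d w)

theorem exists_std (d : Data z Q) (R : Radical F) : ∃ p, Std R p := by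
  obtain ⟨c, hc⟩ := exists_pure_of_even d R sign_sg
  obtain ⟨a, b, e⟩ := (sg_pow_five ▸ pure_pow d hc 5).eq_kk d
  refine ⟨c ^ 6, ?_, ?_⟩
  · have := pure_pow d hc 6
    rwa [pow_succ sg, sg_pow_five, one_mul] at this
  · rw [← pow_mul, show 6 * 5 = 5 * 6 by norm_num, pow_mul, e, pow_mul _ 2 3, pow_two, kk_sq d R,
      one_pow]

variable {p : G}

theorem Std.mem (hs : Std R p) : p ∈ Dzy z y := hs.lift.1
theorem Std.comm_z (hs : Std R p) : Commute p z := (mem_Dzy.mp hs.lift.1).1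
theorem Std.comm_y (hs : Std R p) : Commute p y := (mem_Dzy.mp hs.lift.1).2

theorem Std.ne_one (d : Data z Q) (hs : Std R p) : p ≠ 1 := by
  rintro rfl
  have := pure_unique d hs.lift (pure_one d R)
  exact absurd (orderOf_sg.symm.trans (this ▸ orderOf_one)) (by norm_num)

theorem Std.comm_x (d : Data z Q) (hs : Std R p) : Commute p F.x := by
  obtain ⟨e, he⟩ := F.conj_x d hs.mem
  rw [hs.lift.vof d, F.qc_eq d, show q w0 = false from rfl] at he
  have he : p * F.x * p⁻¹ = F.x * pw z e := by simpa [Frame.elem, F.zero] using he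
  exact comm_of_pow5 hs.pow (by cases e <;> simp [d.hub.sq]) (pw_commute hs.comm_z e) he

theorem Std.comm_m (d : Data z Q) (hs : Std R p) {w : W} (hw : act sg w = w) : Commute p (F.m w) := by
  obtain ⟨e, he⟩ := hs.lift.2.1 w
  rw [hw] at he
  exact comm_of_pow5 hs.pow (by cases e <;> simp [d.hub.sq]) (pw_commute hs.comm_z e) he

theorem Std.comm_n (d : Data z Q) (hs : Std R p) {v : W} (hv : act sg v = v) : Commute p (R.n v) := by
  obtain ⟨e, he⟩ := hs.lift.2.2 v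
  rw [hv] at he
  exact comm_of_pow5 hs.pow (by cases e <;> simp [F.sing.2.1]) (pw_commute hs.comm_y e) he

theorem Std.comm_el (d : Data z Q) (hs : Std R p) {w v : W} (hw : act sg w = w) (hv : act sg v = v)
    (a b : Bool) : Commute p (R.el w v a b) :=
  ((hs.comm_m d hw).mul_right (hs.comm_n d hv)).mul_right (R.commute_kk d hs.mem a b)

/-- `p` commutes with the pure lifts of the centraliser of `sg`. -/
theorem Std.comm_pure (d : Data z Q) (hs : Std R p) {π : Equiv.Perm (Fin 8)} {c : G}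
    (hc : Pure R π c) (hπ : π * sg = sg * π) : Commute p c := by
  have h1 : Pure R sg (c * p * c⁻¹) := by
    have := (hc.mul d hs.lift).mul d (hc.inv d)
    rwa [hπ, mul_inv_cancel_right] at this
  obtain ⟨a, b, e⟩ := pure_eq d hs.lift h1
  have h5 : (p * R.kk a b) ^ 5 = 1 := by rw [← e, conj_pow, hs.pow, mul_one, mul_inv_cancel]
  rw [(R.commute_kk d hs.mem a b).mul_pow, hs.pow, one_mul, pow5_of_sq (kk_sq d R a b)] at h5
  rw [h5, mul_one] at e
  exact (mul_inv_eq_iff_eq_mul.mp e).symm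

theorem actW_pow {π : Equiv.Perm (Fin 8)} {c : G} (d : Data z Q) (hc : c ∈ Dzy z y)
    (hact : ∀ w, F.actW c w = act π w) : ∀ (n : ℕ) (w : W), F.actW (c ^ n) w = act (π ^ n) w
  | 0, w => by simp [F.actW_one d, act_one]
  | n + 1, w => by
    rw [pow_succ, pow_succ, F.actW_mul d (pow_mem hc n) hc, hact, actW_pow d hc hact n, act_mul]

theorem el_pow_four (d : Data z Q) (R : Radical F) (w v : W) (a b : Bool) :
    R.el w v a b ^ 4 = 1 := by
  rw [pow_mul _ 2 2, pow_two (R.el w v a b), R.el_sq d, pow_two, kk_sq d R]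

/-- Elements of order five of `C(z) ∩ C(y)` are conjugate to `p` there. -/
theorem Std.conj_to_std (d : Data z Q) (hs : Std R p) {b : G} (hb : b ∈ Dzy z y) (hb5 : b ^ 5 = 1)
    (hb1 : b ≠ 1) : ∃ k ∈ Dzy z y, k * b * k⁻¹ = p := by
  obtain ⟨π, w, v, a₀, b₀, p₀, -, hact, hp₀, hbe⟩ := Pure.el_decomp d R hb
  have hπ5 : π ^ 5 = 1 := act_inj fun u => by
    rw [← actW_pow d hb hact 5, hb5, F.actW_one d, act_one]
  have hπ1 : π ≠ 1 := by
    intro e
    obtain ⟨w', v', a', b', e'⟩ := R.exists_el d hb fun u => by rw [hact, e, act_one]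
    have h4 : b ^ 4 = 1 := by rw [e', el_pow_four d]
    rw [pow_succ, h4, one_mul] at hb5
    exact hb1 hb5
  obtain ⟨κ, hκs, hκ⟩ := exists_conj hπ5 hπ1
  obtain ⟨k₀, hk₀⟩ := exists_pure_of_even d R hκs
  obtain ⟨a₁, b₁, e₁⟩ := R.el_conj_D d hk₀.1 w v a₀ b₀
  obtain ⟨a₂, b₂, e₂⟩ := pure_eq d hs.lift (hκ ▸ (hk₀.mul d hp₀).mul d (hk₀.inv d))
  set w' := F.actW k₀ w
  set v' := F.actW k₀ v
  obtain ⟨u₁, hu₁⟩ := reduce w'
  obtain ⟨u₂, hu₂⟩ := reduce v'
  set o := R.el u₁ u₂ false false with ho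
  obtain ⟨a₃, b₃, e₃⟩ := R.el_inv d u₁ u₂ false false
  obtain ⟨a₄, b₄, e₄⟩ := R.el_conj_D d hs.mem u₁ u₂ a₃ b₃
  rw [hs.lift.actW d, hs.lift.actW d] at e₄
  have h1 : k₀ * b * k₀⁻¹ = R.el w' v' (xor a₁ a₂) (xor b₁ b₂) * p := by
    rw [hbe, show k₀ * (R.el w v a₀ b₀ * p₀) * k₀⁻¹ =
      k₀ * R.el w v a₀ b₀ * k₀⁻¹ * (k₀ * p₀ * k₀⁻¹) by group, e₁, e₂,
      (R.commute_kk d hs.mem a₂ b₂).eq, ← mul_assoc, R.el_kk d]
  obtain ⟨a₅, b₅, e₅⟩ := R.el_mul d u₁ u₂ w' v' false false (xor a₁ a₂) (xor b₁ b₂)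
  obtain ⟨a₆, b₆, e₆⟩ := R.el_mul d (add u₁ w') (add u₂ v') (act sg u₁) (act sg u₂) a₅ b₅ a₄ b₄
  set l := R.el (add (add u₁ w') (act sg u₁)) (add (add u₂ v') (act sg u₂)) a₆ b₆ with hl
  have h2 : o * (k₀ * b * k₀⁻¹) * o⁻¹ = l * p := by
    rw [h1, show o * (R.el w' v' (xor a₁ a₂) (xor b₁ b₂) * p) * o⁻¹ =
      o * R.el w' v' (xor a₁ a₂) (xor b₁ b₂) * (p * o⁻¹ * p⁻¹) * p by group, ho, e₅, e₃, e₄, e₆]
  have hc : Commute p l := hs.comm_el d hu₁ hu₂ _ _
  have h5 : (l * p) ^ 5 = 1 := by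
    rw [← h2, conj_pow, conj_pow, hb5]; group
  rw [hc.symm.mul_pow, hs.pow, mul_one, pow_succ, hl, el_pow_four d, one_mul] at h5
  rw [hl, h5, one_mul] at h2
  exact ⟨o * k₀, mul_mem (R.el_mem d _ _ _ _) hk₀.1, by rw [← h2]; group⟩

/-- Singular involutions of `C_Q(p)` are conjugate to `y` in `C(z) ∩ C(p)`. -/
theorem Std.exists_move (d : Data z Q) (hs : Std R p) {y' : G} (hy' : Sing z Q y')
    (hpy : Commute p y') : ∃ e, Commute e z ∧ Commute e p ∧ e * y * e⁻¹ = y' := by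
  obtain ⟨htrans, -⟩ := F.orders d
  obtain ⟨c, hcz, hcy⟩ := htrans y' hy'
  have hbD : c⁻¹ * p * c ∈ Dzy z y := by
    refine mem_Dzy.mpr ⟨(hcz.inv_left.mul_left hs.comm_z).mul_left hcz, ?_⟩
    have := hpy.map (MulAut.conj c⁻¹).toMonoidHom
    simpa [← hcy, mul_assoc] using this
  obtain ⟨k, hk, hk'⟩ := hs.conj_to_std d hbD
    (by rw [show c⁻¹ * p * c = c⁻¹ * p * c⁻¹⁻¹ by group, conj_pow, hs.pow]; group)
    (fun e => hs.ne_one d (by
      calc p = c * (c⁻¹ * p * c) * c⁻¹ := by group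
        _ = 1 := by rw [e]; group))
  refine ⟨c * k⁻¹, hcz.mul_left (mem_Dzy.mp hk).1.inv_left, mul_inv_eq_iff_eq_mul.mp ?_, ?_⟩
  · calc c * k⁻¹ * p * (c * k⁻¹)⁻¹
        = c * k⁻¹ * (k * (c⁻¹ * p * c) * k⁻¹) * (c * k⁻¹)⁻¹ := by rw [hk']
      _ = p := by group
  · rw [show c * k⁻¹ * y * (c * k⁻¹)⁻¹ = c * (k⁻¹ * y * k⁻¹⁻¹) * c⁻¹ by group,
      conj_of_commute (mem_Dzy.mp hk).2.inv_left, hcy]

/-- A twist centralising `p`. -/
theorem Std.exists_twist (d : Data z Q) (hs : Std R p) :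
    ∃ T : Twist R, Commute T.h p ∧ T.ρ * sg = sg * T.ρ := by
  obtain ⟨T⟩ := ConwayType.exists_twist d R
  have hb := T.conj_pure d hs.lift
  have h5 : (T.ρ * sg * T.ρ⁻¹) ^ 5 = 1 := by rw [conj_pow, sg_pow_five]; group
  have h1 : T.ρ * sg * T.ρ⁻¹ ≠ 1 := fun e => by
    have : sg = 1 := by simpa using e
    exact absurd (orderOf_sg.symm.trans (this ▸ orderOf_one)) (by norm_num)
  obtain ⟨κ, hκs, hκ⟩ := exists_conj h5 h1
  obtain ⟨k, hk⟩ := exists_pure_of_even d R hκs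
  have hb' : Pure R sg (k * (T.h * p * T.h⁻¹) * k⁻¹) := hκ ▸ (hk.mul d hb).mul d (hk.inv d)
  obtain ⟨hkz, hky⟩ := mem_Dzy.mp hk.1
  let T' : Twist R :=
    { h := k * T.h
      ρ := κ * T.ρ
      h_z := by
        rw [show k * T.h * z * (k * T.h)⁻¹ = k * (T.h * z * T.h⁻¹) * k⁻¹ by group, T.h_z,
          conj_of_commute hky]
      h_y := by
        rw [show k * T.h * y * (k * T.h)⁻¹ = k * (T.h * y * T.h⁻¹) * k⁻¹ by group, T.h_y,
          conj_of_commute hkz]
      h_m := fun w => by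
        obtain ⟨a, ha⟩ := T.h_m w
        obtain ⟨e, he⟩ := hk.2.2 (act T.ρ w)
        refine ⟨xor e a, ?_⟩
        rw [show k * T.h * F.m w * (k * T.h)⁻¹ = k * (T.h * F.m w * T.h⁻¹) * k⁻¹ by group, ha,
          show k * (R.n (act T.ρ w) * pw y a) * k⁻¹ =
            k * R.n (act T.ρ w) * k⁻¹ * (k * pw y a * k⁻¹) by group,
          conj_of_commute (pw_commute hky a), he, act_mul, mul_assoc, pw_mul F.sing.2.1]
      h_n := fun v => by
        obtain ⟨b, hb⟩ := T.h_n v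
        obtain ⟨e, he⟩ := hk.2.1 (act T.ρ v)
        refine ⟨xor e b, ?_⟩
        rw [show k * T.h * R.n v * (k * T.h)⁻¹ = k * (T.h * R.n v * T.h⁻¹) * k⁻¹ by group, hb,
          show k * (F.m (act T.ρ v) * pw z b) * k⁻¹ =
            k * F.m (act T.ρ v) * k⁻¹ * (k * pw z b * k⁻¹) by group,
          conj_of_commute (pw_commute hkz b), he, act_mul, mul_assoc, pw_mul d.hub.sq] }
  obtain ⟨a, b, e⟩ := pure_eq d hs.lift hb'
  have e5 : (p * R.kk a b) ^ 5 = 1 := by rw [← e, conj_pow, conj_pow, hs.pow]; group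
  rw [(R.commute_kk d hs.mem a b).mul_pow, hs.pow, one_mul, pow5_of_sq (kk_sq d R a b)] at e5
  rw [e5, mul_one] at e
  refine ⟨T', mul_inv_eq_iff_eq_mul.mp ?_, ?_⟩
  · show k * T.h * p * (k * T.h)⁻¹ = p
    conv_rhs => rw [← e]
    group
  · show κ * T.ρ * sg = sg * (κ * T.ρ)
    conv_rhs => rw [← hκ]
    group

end Cfsg.Agent.ConwayType.Five
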