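import Cfsg.Agent.Lib.ConwayType.FiveMain

/-!
# Elements of order five with extraspecial fixed points of order 32
-/

set_option autoImplicit false
set_option maxHeartbeats 400000
set_option synthInstance.maxSize 2048

namespace Cfsg.Agent.ConwayType.Five

open Subgroup
open Cfsg.Agent.LargeExtraspecial (Hub)

universe u

variable {G : Type u} [Group G] [Finite G] {z : G} {Q : Subgroup G}

omit [Finite G] in
theorem map_centralizer_equiv {H : Type*} [Group H] (e : G ≃* H) (S : Set G) :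
    (centralizer S).map e.toMonoidHom = centralizer (e '' S) := by
  ext x
  constructor
  · rintro ⟨c, hc, rfl⟩
    rw [mem_centralizer_iff]
    rintro _ ⟨s, hs, rfl⟩
    show e s * e c = e c * e s
    rw [← map_mul, ← map_mul, mem_centralizer_iff.mp hc s hs]
  · intro hx
    refine ⟨e.symm x, mem_centralizer_iff.mpr fun s hs => e.injective ?_, e.apply_symm_apply x⟩
    rw [map_mul, map_mul, e.apply_symm_apply]
    exact mem_centralizer_iff.mp hx _ ⟨s, hs, rfl⟩

/-- A singular involution centralising `b`. -/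
theorem exists_y (d : Data z Q) {b : G} (hbz : Commute b z)
    (hex : Cfsg.IsExtraspecial 2 ↥(Q ⊓ centralizer ({b} : Set G)))
    (hcard : Nat.card ↥(Q ⊓ centralizer ({b} : Set G)) = 32) :
    ∃ y, Sing z Q y ∧ Commute b y := by
  have h := d.hub
  set S := Q ⊓ centralizer ({b} : Set G)
  have hzS : z ∈ S := ⟨h.mem, mem_cz.mpr hbz.symm⟩
  obtain ⟨a, ha, c, hc, hac⟩ : ∃ a ∈ S, ∃ c ∈ S, fl a c = true := by
    by_contra hno
    push Not at hno
    have htop : center ↥S = ⊤ := eq_top_iff.mpr fun a _ => mem_center_iff.mpr fun c =>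
      Subtype.ext (fl_eq_false.mp (Bool.eq_false_iff.mpr (hno c c.2 a a.2))).eq
    have := hex.2
    rw [htop, card_top, hcard] at this
    omega
  have hca : fl c a = true := by rw [fl_symm, hac]
  have bcomm : ∀ r ∈ S, Commute b r := fun r hr => (mem_cz.mp hr.2).symm
  have sing : ∀ r ∈ S, r * r = 1 → r ≠ 1 → r ≠ z → ∃ y, Sing z Q y ∧ Commute b y :=
    fun r hr h2 h1 hz => ⟨r, ⟨hr.1, h2, h1, hz⟩, bcomm r hr⟩
  have nc : ∀ {r : G} {s : G}, s ∈ S → fl r s = true → r ≠ 1 ∧ r ≠ z := fun {r s} hs hrs => by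
    constructor <;> rintro rfl
    · rw [fl_eq_false.mpr (Commute.one_left s)] at hrs
      exact Bool.false_ne_true hrs
    · rw [fl_z h hs.1] at hrs
      exact Bool.false_ne_true hrs
  obtain ⟨i, hi⟩ := exists_sq h ha.1
  obtain ⟨j, hj⟩ := exists_sq h hc.1
  cases i
  · exact sing a ha (by simpa using hi) (nc hc hac).1 (nc hc hac).2
  cases j
  · exact sing c hc (by simpa using hj) (nc ha hca).1 (nc ha hca).2
  obtain ⟨k, hk, hka, hkc, hk1, hkz⟩ :
      ∃ k ∈ S, fl k a = false ∧ fl k c = false ∧ k ≠ 1 ∧ k ≠ z := by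
    by_contra hno
    push Not at hno
    let g : Bool × Bool × Bool → G := fun t => pw z t.1 * (pw c t.2.1)⁻¹ * (pw a t.2.2)⁻¹
    have hsub : (S : Set G) ⊆ Set.range g := by
      intro r hr
      have m1 : r * pw a (fl r c) ∈ S := mul_mem hr (pw_mem ha _)
      have m2 : r * pw a (fl r c) * pw c (fl r a) ∈ S := mul_mem m1 (pw_mem hc _)
      set k := r * pw a (fl r c) * pw c (fl r a)
      have hka : fl k a = false := by
        rw [fl_mul h m1.1 (pw_mem hc.1 _) ha.1, fl_mul h hr.1 (pw_mem ha.1 _) ha.1, fl_pw, fl_pw,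
          fl_self, hca]
        simp
      have hkc : fl k c = false := by
        rw [fl_mul h m1.1 (pw_mem hc.1 _) hc.1, fl_mul h hr.1 (pw_mem ha.1 _) hc.1, fl_pw, fl_pw,
          fl_self, hac]
        simp
      obtain ⟨e, he⟩ : ∃ e, k = pw z e := by
        by_cases e1 : k = 1
        · exact ⟨false, by simpa using e1⟩
        · exact ⟨true, by simpa using hno k m2 hka hkc e1⟩
      refine ⟨(e, fl r a, fl r c), ?_⟩
      simp only [g, ← he, k]
      group
    have h1 := Nat.card_mono (Set.finite_range g) hsub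
    have h2 := Finite.card_range_le g
    simp only [SetLike.coe_sort_coe] at h1
    simp at *
    omega
  obtain ⟨l, hl⟩ := exists_sq h hk.1
  cases l
  · exact sing k hk (by simpa using hl) hk1 hkz
  · have hs := sq_mul h ha.1 hk.1 hi hl
    rw [hka] at hs
    obtain ⟨n1, n2⟩ := nc hc (r := a * k) (by rw [fl_mul h ha.1 hk.1 hc.1, hac, hkc]; rfl)
    exact sing (a * k) (mul_mem ha hk) (by simpa using hs) n1 n2

/-- The layer of `C(b)` and its centraliser. -/
theorem five_result (d : Data z Q) {b : G} (hb5 : b ^ 5 = 1) (hb1 : b ≠ 1) (hbz : Commute b z)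
    (hex : Cfsg.IsExtraspecial 2 ↥(Q ⊓ centralizer ({b} : Set G)))
    (hcard : Nat.card ↥(Q ⊓ centralizer ({b} : Set G)) = 32)
    (hJ : ∀ (K : Type u) [Group K] [Finite K], HallJankoType.Setup K → Cfsg.Spor.IsoJ2 K)
    {D : Subgroup G} (hD : D = centralizer ({b} : Set G)) :
    Cfsg.Spor.IsoJ2 ↥(Cfsg.layer ↥D) ∧
      Nonempty (↥(centralizer (((Cfsg.layer ↥D).map D.subtype) : Set G)) ≃* alternatingGroup (Fin 5)) := by
  subst hD
  obtain ⟨y, hy, hby⟩ := exists_y d hbz hex hcard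
  obtain ⟨F⟩ := exists_frame d hy
  obtain ⟨htrans, -⟩ := F.orders d
  obtain ⟨g, hg⟩ : ∃ g : G, g * z * g⁻¹ = y := by
    obtain ⟨g₀, hg0, hg0'⟩ := d.out
    obtain ⟨c, -, hc⟩ := htrans _ (⟨hg0, conj_sq d.hub.sq, fun e => d.hub.ne_one (by simpa using e), hg0'⟩ :
      Sing z Q (g₀ * z * g₀⁻¹))
    exact ⟨c⁻¹ * g₀, by rw [show c⁻¹ * g₀ * z * (c⁻¹ * g₀)⁻¹ = c⁻¹ * (g₀ * z * g₀⁻¹) * c by group, ← hc]; group⟩
  obtain ⟨R⟩ := exists_radical F d hg
  obtain ⟨p, hs⟩ := exists_std d R
  obtain ⟨T, hp, hρ⟩ := hs.exists_twist d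
  obtain ⟨k, hk, hkb⟩ := hs.conj_to_std d (mem_Dzy.mpr ⟨hbz, hby⟩) hb5 hb1
  set ψ : G ≃* G := MulAut.conj k with hψ
  have hψb : ψ b = p := hkb
  have hCb : (centralizer ({b} : Set G)).map ψ.toMonoidHom = centralizer ({p} : Set G) := by
    rw [map_centralizer_equiv, Set.image_singleton, hψb]
  have hψQ : Q.map ψ.toMonoidHom = Q := by
    refine Subgroup.eq_of_le_of_card_ge ?_ (le_of_eq (card_map_of_injective ψ.injective).symm)
    rintro _ ⟨r, hr, rfl⟩
    exact d.hub.normalizes k (mem_Dzy.mp hk).1 r hr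
  have hQb : (Q ⊓ centralizer ({b} : Set G)).map ψ.toMonoidHom = Q ⊓ centralizer ({p} : Set G) := by
    rw [map_inf _ _ _ ψ.injective, hψQ, hCb]
  let eQ : ↥(Q ⊓ centralizer ({b} : Set G)) ≃* ↥(Q ⊓ centralizer ({p} : Set G)) :=
    (ψ.subgroupMap _).trans (MulEquiv.subgroupCongr hQb)
  have hex' := TI.isExtraspecial_congr eQ hex
  have hcard' := (Nat.card_congr eQ.toEquiv).symm.trans hcard
  obtain ⟨hJ2, hlay⟩ := hs.layer_eq d hp hρ hex' hcard' hJ
  let eD : ↥(centralizer ({b} : Set G)) ≃* ↥(centralizer ({p} : Set G)) :=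
    (ψ.subgroupMap _).trans (MulEquiv.subgroupCongr hCb)
  have hmap : (((Cfsg.layer ↥(centralizer ({b} : Set G))).map
      (centralizer ({b} : Set G)).subtype).map ψ.toMonoidHom) = M0 d R p := by
    rw [← hlay, ← Components.map_layer eD, map_map, map_map]
    rfl
  refine ⟨?_, ?_⟩
  · obtain ⟨eJ⟩ := hJ2
    exact ⟨(((Cfsg.layer ↥(centralizer ({b} : Set G))).equivMapOfInjective _ (subtype_injective _)).trans
      ((ψ.subgroupMap _).trans (MulEquiv.subgroupCongr hmap))).trans eJ⟩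
  · obtain ⟨eA⟩ := hs.centralizer_M0 d hp hρ
    have hC : (centralizer (((Cfsg.layer ↥(centralizer ({b} : Set G))).map
        (centralizer ({b} : Set G)).subtype) : Set G)).map ψ.toMonoidHom =
        centralizer (M0 d R p : Set G) := by
      rw [map_centralizer_equiv, ← hmap, coe_map _ (map _ _)]
      rfl
    exact ⟨((ψ.subgroupMap _).trans (MulEquiv.subgroupCongr hC)).trans eA⟩

end Cfsg.Agent.ConwayType.Five
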