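import Cfsg.Agent.Lib.ConwayType.Basic

/-!
# A frame of `Q` at a noncentral involution `y`

`Q = ⟨x, y⟩ ∘ m(W)`, `x` an involution moving `y`, the squares on `m(W)` given by `qc c`, where `c`
is zero or nonsingular.
-/

set_option autoImplicit false
set_option maxHeartbeats 1000000
set_option synthInstance.maxSize 2048
set_option linter.constructorNameAsVariable false

namespace Cfsg.Agent.ConwayType

open Subgroup
open Cfsg.Agent.LargeExtraspecial (Hub)

variable {G : Type*} [Group G] {z y : G} {Q : Subgroup G}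

/-- A frame at `y`. -/
structure Frame (z y : G) (Q : Subgroup G) where
  c : W
  hc : c = w0 ∨ q c = true
  m : W → G
  x : G
  sing : Sing z Q y
  mem : ∀ w, m w ∈ Q
  zero : m w0 = 1
  comm_y : ∀ w, Commute (m w) y
  hx : x ∈ Q
  x_sq : x * x = 1
  x_y : fl x y = true
  x_m : ∀ w, fl x (m w) = false
  m_m : ∀ u v, fl (m u) (m v) = B u v
  m_sq : ∀ u, m u * m u = pw z (qc c u)
  m_add : ∀ u v, ∃ e, m u * m v = m (add u v) * pw z e

/-- Coordinates for the hyperbolic basis `{01}, {12}, {34}, {45}, {67}, {0126}`. -/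
def phi (u : W) : W :=
  (B u (pr 1 2), B u (pr 0 1), B u (pr 4 5), B u (pr 3 4), B u (true, true, true, false, false, false),
    B u (pr 6 7))

/-- The hyperbolic form of a basis with squares `s`. -/
def q0 (s : W) : W → Bool
  | (a, b, c, d, e, f) => xor (xor (xor (xor (a && s.1) (b && s.2.1)) (a && b))
      (xor (xor (c && s.2.2.1) (d && s.2.2.2.1)) (c && d)))
      (xor (xor (e && s.2.2.2.2.1) (f && s.2.2.2.2.2)) (e && f))

/-- The hyperbolic polar form. -/
def B0 : W → W → Bool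
  | (a, b, c, d, e, f), (a', b', c', d', e', f') =>
    xor (xor (xor (a && b') (b && a')) (xor (c && d') (d && c'))) (xor (e && f') (f && e'))

/-- The vector `c` of the form of a basis with squares `s`. -/
def cOf (s : W) : W :=
  lin (pr 1 2) (pr 0 1) (pr 4 5) (pr 3 4) (true, true, true, false, false, false) (pr 6 7)
    (xor s.1 (q (pr 0 1)), xor s.2.1 (q (pr 1 2)), xor s.2.2.1 (q (pr 3 4)),
      xor s.2.2.2.1 (q (pr 4 5)), xor s.2.2.2.2.1 (q (pr 6 7)),
      xor s.2.2.2.2.2 (q (true, true, true, false, false, false)))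

/-- The transvection killing a singular `c`. -/
def tv (c u : W) : W := cond (q c) u (add u (smul (B u c) c))

theorem q0_phi : ∀ s u : W, q0 s (phi u) = qc (cOf s) u := by decide +kernel

theorem B0_phi : ∀ u v : W, B0 (phi u) (phi v) = B u v := by decide +kernel

theorem phi_add : ∀ u v : W, phi (add u v) = add (phi u) (phi v) := by decide +kernel

theorem tv_spec : ∀ c u : W, qc c (tv c u) = qc (cond (q c) c w0) u := by decide +kernel

theorem B_smul_left : ∀ (b : Bool) (c v : W), B (smul b c) v = (b && B c v) := by decide +kernel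

theorem tv_B (c u v : W) : B (tv c u) (tv c v) = B u v := by
  simp only [tv]
  cases q c
  · simp only [cond_false, B_add, B_add_right, B_smul_left, B_symm u (smul _ _), B_symm c (smul _ _),
      B_self, B_symm c v, B_symm c u]
    cases B u c <;> cases B v c <;> cases B u v <;> rfl
  · rfl

theorem tv_add (c u v : W) : tv c (add u v) = add (tv c u) (tv c v) := by
  simp only [tv]
  cases q c
  · simp only [cond_false, B_add]
    have h : ∀ a b : Bool, smul (xor a b) c = add (smul a c) (smul b c) := fun a b => by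
      cases a <;> cases b <;> simp [smul, add_self, add_zero']
    rw [h, add_assoc', add_assoc', ← add_assoc' v, add_comm' v (smul (B u c) c), add_assoc' _ v]
  · rfl

theorem exists_frame (d : Data z Q) {y : G} (hy : Sing z Q y) : Nonempty (Frame z y Q) := by
  have h := d.hub
  obtain ⟨hyQ, hy2, hy1, hyz⟩ := hy
  obtain ⟨x₀, hx₀, hx₀'⟩ := h.exists_not_commute hy1 hyz
  have hx₀y : fl x₀ y = true := fl_eq_true.mpr fun e => hx₀' e.symm
  have hzy : Commute z y := (h.central y hyQ).symm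
  have four : ∀ r ∈ Q, (∀ p ∈ Q, Commute p y → Commute r p) → ∃ e f, r = pw z e * pw y f := by
    intro r hr hc
    rcases LargeExtraspecial.mem_four h.sq hy2 hzy (h.centralizer_of_self hyQ hr hc) with e | e | e | e
    exacts [⟨false, false, by simpa using e⟩, ⟨true, false, by simpa using e⟩,
      ⟨false, true, by simpa using e⟩, ⟨true, true, e⟩]
  have proj : ∀ a b : G, a ∈ Q → b ∈ Q → Commute a y → Commute b y → fl a b = true → ∀ r ∈ Q,
      Commute r y → ∃ f g, r * pw a f * pw b g ∈ Q ∧ Commute (r * pw a f * pw b g) y ∧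
        fl (r * pw a f * pw b g) a = false ∧ fl (r * pw a f * pw b g) b = false ∧
        ∀ s ∈ Q, fl a s = false → fl b s = false → fl (r * pw a f * pw b g) s = fl r s := by
    intro a b ha hb hay hby hab r hr hry
    have hba : fl b a = true := by rw [fl_symm, hab]
    have m1 : r * pw a (fl r b) ∈ Q := mul_mem hr (pw_mem ha _)
    refine ⟨fl r b, fl r a, mul_mem m1 (pw_mem hb _),
      (hry.mul_left (pw_commute hay.symm _).symm).mul_left (pw_commute hby.symm _).symm, ?_, ?_, ?_⟩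
    · rw [fl_mul h m1 (pw_mem hb _) ha, fl_mul h hr (pw_mem ha _) ha, fl_pw, fl_pw, fl_self, hba]
      simp
    · rw [fl_mul h m1 (pw_mem hb _) hb, fl_mul h hr (pw_mem ha _) hb, fl_pw, fl_pw, fl_self, hab]
      simp
    · intro s hs has hbs
      rw [fl_mul h m1 (pw_mem hb _) hs, fl_mul h hr (pw_mem ha _) hs, fl_pw, fl_pw, has, hbs]
      simp
  have next' : ∀ a b a' b' : G, a ∈ Q → b ∈ Q → a' ∈ Q → b' ∈ Q →
      (∀ r ∈ Q, Commute r y → ∃ i j k l, r * pw a i * pw b j * pw a' k * pw b' l ∈ Q ∧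
        Commute (r * pw a i * pw b j * pw a' k * pw b' l) y ∧
        fl (r * pw a i * pw b j * pw a' k * pw b' l) a = false ∧
        fl (r * pw a i * pw b j * pw a' k * pw b' l) b = false ∧
        fl (r * pw a i * pw b j * pw a' k * pw b' l) a' = false ∧
        fl (r * pw a i * pw b j * pw a' k * pw b' l) b' = false) →
      ∃ c ∈ Q, Commute c y ∧ fl c a = false ∧ fl c b = false ∧ fl c a' = false ∧ fl c b' = false ∧
        ∃ dd ∈ Q, Commute dd y ∧ fl dd a = false ∧ fl dd b = false ∧ fl dd a' = false ∧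
          fl dd b' = false ∧ fl c dd = true := by
    intro a b a' b' ha hb ha' hb' hproj
    by_contra hno
    push Not at hno
    let g : Bool × Bool × Bool × Bool × Bool × Bool × Bool → G := fun t =>
      pw z t.1 * pw y t.2.1 * (pw b' t.2.2.1)⁻¹ * (pw a' t.2.2.2.1)⁻¹ * (pw b t.2.2.2.2.1)⁻¹ *
        (pw a t.2.2.2.2.2.1)⁻¹ * (pw x₀ t.2.2.2.2.2.2)⁻¹
    have hsub : (Q : Set G) ⊆ Set.range g := by
      intro p hp
      have hp1 : p * pw x₀ (fl p y) ∈ Q := mul_mem hp (pw_mem hx₀ _)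
      have hp2 : Commute (p * pw x₀ (fl p y)) y :=
        fl_eq_false.mp (by rw [fl_mul h hp (pw_mem hx₀ _) hyQ, fl_pw, hx₀y]; simp)
      obtain ⟨i, j, k, l, c1, c2, c3, c4, c5, c6⟩ := hproj _ hp1 hp2
      obtain ⟨e, f, hef⟩ := four _ c1 fun r hr hry => by
        obtain ⟨i', j', k', l', r1, r2, r3, r4, r5, r6⟩ := hproj r hr hry
        have e1 := Bool.eq_false_iff.mpr (hno _ c1 c2 c3 c4 c5 c6 _ r1 r2 r3 r4 r5 r6)
        rw [fl_mul_right h (mul_mem (mul_mem (mul_mem hr (pw_mem ha _)) (pw_mem hb _)) (pw_mem ha' _))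
            (pw_mem hb' _) c1,
          fl_mul_right h (mul_mem (mul_mem hr (pw_mem ha _)) (pw_mem hb _)) (pw_mem ha' _) c1,
          fl_mul_right h (mul_mem hr (pw_mem ha _)) (pw_mem hb _) c1,
          fl_mul_right h hr (pw_mem ha _) c1, fl_pw_right, fl_pw_right, fl_pw_right, fl_pw_right,
          c3, c4, c5, c6] at e1
        exact fl_eq_false.mp (by simpa using e1)
      refine ⟨(e, f, l, k, j, i, fl p y), ?_⟩
      simp only [g, ← hef]
      group
    have hle := Nat.card_mono (Set.finite_range g) hsub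
    have := (Finite.card_range_le g)
    have : Nat.card Q = 512 := d.cardQ
    simp only [SetLike.coe_sort_coe] at hle
    simp at *
    omega
  have one1 : ∀ r : G, fl r 1 = false := fun r => fl_eq_false.mpr (Commute.one_right r)
  obtain ⟨a, ha, hay, -, -, -, -, b, hb, hby, -, -, -, -, hab⟩ :=
    next' 1 1 1 1 (one_mem _) (one_mem _) (one_mem _) (one_mem _) fun r hr hry =>
      ⟨false, false, false, false, by simpa using hr, by simpa using hry, one1 _, one1 _, one1 _, one1 _⟩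
  obtain ⟨c, hc, hcy, hca, hcb, -, -, dd, hd, hdy, hda, hdb, -, -, hcd⟩ :=
    next' a b 1 1 ha hb (one_mem _) (one_mem _) fun r hr hry => by
      obtain ⟨f, g, h1, h2, h3, h4, -⟩ := proj a b ha hb hay hby hab r hr hry
      exact ⟨f, g, false, false, by simpa using h1, by simpa using h2, by simpa using h3,
        by simpa using h4, one1 _, one1 _⟩
  obtain ⟨i, hi, hiy, hia, hib, hic, hid, j, hj, hjy, hja, hjb, hjc, hjd, hij⟩ :=
    next' a b c dd ha hb hc hd fun r hr hry => by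
      obtain ⟨f, g, h1, h2, h3, h4, -⟩ := proj a b ha hb hay hby hab r hr hry
      obtain ⟨f', g', k1, k2, k3, k4, k5⟩ := proj c dd hc hd hcy hdy hcd _ h1 h2
      exact ⟨f, g, f', g', k1, k2, by rw [k5 a ha hca hda, h3], by rw [k5 b hb hcb hdb, h4], k3, k4⟩
  have hba : fl b a = true := by rw [fl_symm, hab]
  have hdc : fl dd c = true := by rw [fl_symm, hcd]
  have hji : fl j i = true := by rw [fl_symm, hij]
  let mon : W → G := fun w => pw a w.1 * pw b w.2.1 * pw c w.2.2.1 * pw dd w.2.2.2.1 *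
    pw i w.2.2.2.2.1 * pw j w.2.2.2.2.2
  have mab : ∀ s t, pw a s * pw b t ∈ Q := fun s t => mul_mem (pw_mem ha s) (pw_mem hb t)
  have mabc : ∀ s t u, pw a s * pw b t * pw c u ∈ Q := fun s t u => mul_mem (mab s t) (pw_mem hc u)
  have m4 : ∀ s t u v, pw a s * pw b t * pw c u * pw dd v ∈ Q := fun s t u v =>
    mul_mem (mabc s t u) (pw_mem hd v)
  have m5 : ∀ s t u v o, pw a s * pw b t * pw c u * pw dd v * pw i o ∈ Q := fun s t u v o =>
    mul_mem (m4 s t u v) (pw_mem hi o)
  have monQ : ∀ w, mon w ∈ Q := fun w => mul_mem (m5 _ _ _ _ _) (pw_mem hj _)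
  have mony : ∀ w, Commute (mon w) y := fun w =>
    ((((((pw_commute hay.symm _).symm.mul_left (pw_commute hby.symm _).symm).mul_left
      (pw_commute hcy.symm _).symm).mul_left (pw_commute hdy.symm _).symm).mul_left
      (pw_commute hiy.symm _).symm).mul_left (pw_commute hjy.symm _).symm)
  have flmon : ∀ (w : W) (r : G), r ∈ Q → fl (mon w) r =
      xor (xor (xor (xor (xor (w.1 && fl a r) (w.2.1 && fl b r)) (w.2.2.1 && fl c r))
        (w.2.2.2.1 && fl dd r)) (w.2.2.2.2.1 && fl i r)) (w.2.2.2.2.2 && fl j r) :=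
    fun w r hr => by
      simp only [mon]
      rw [fl_mul h (m5 _ _ _ _ _) (pw_mem hj _) hr, fl_mul h (m4 _ _ _ _) (pw_mem hi _) hr,
        fl_mul h (mabc _ _ _) (pw_mem hd _) hr, fl_mul h (mab _ _) (pw_mem hc _) hr,
        fl_mul h (pw_mem ha _) (pw_mem hb _) hr, fl_pw, fl_pw, fl_pw, fl_pw, fl_pw, fl_pw]
  have monB : ∀ u v, fl (mon u) (mon v) = B0 u v := by
    intro u v
    rw [flmon u _ (monQ v), fl_symm a, fl_symm b, fl_symm c, fl_symm dd, fl_symm i, fl_symm j,
      flmon v a ha, flmon v b hb, flmon v c hc, flmon v dd hd, flmon v i hi, flmon v j hj]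
    simp only [fl_self, hab, hba, hcd, hdc, hij, hji, hca, hcb, hda, hdb, hia, hib, hic, hid, hja,
      hjb, hjc, hjd, fl_symm a c, fl_symm b c, fl_symm a dd, fl_symm b dd, fl_symm a i, fl_symm b i,
      fl_symm c i, fl_symm dd i, fl_symm a j, fl_symm b j, fl_symm c j, fl_symm dd j]
    obtain ⟨u1, u2, u3, u4, u5, u6⟩ := u
    obtain ⟨v1, v2, v3, v4, v5, v6⟩ := v
    simp [B0, Bool.and_comm]
  have monadd : ∀ u v, ∃ e, mon u * mon v = mon (add u v) * pw z e := fun u v =>
    eq_of_fl h (monQ _) (mul_mem (monQ u) (monQ v)) fun r hr => by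
      rw [fl_mul h (monQ u) (monQ v) hr, flmon _ r hr, flmon u r hr, flmon v r hr]
      obtain ⟨u1, u2, u3, u4, u5, u6⟩ := u
      obtain ⟨v1, v2, v3, v4, v5, v6⟩ := v
      simp [add, Bool.and_xor_distrib_right, Bool.xor_comm, Bool.xor_left_comm]
  obtain ⟨i1, hi1⟩ := exists_sq h ha
  obtain ⟨i2, hi2⟩ := exists_sq h hb
  obtain ⟨i3, hi3⟩ := exists_sq h hc
  obtain ⟨i4, hi4⟩ := exists_sq h hd
  obtain ⟨i5, hi5⟩ := exists_sq h hi
  obtain ⟨i6, hi6⟩ := exists_sq h hj
  have monsq : ∀ w, mon w * mon w = pw z (q0 (i1, i2, i3, i4, i5, i6) w) := by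
    have sqp : ∀ {p : G} {i : Bool} (e : Bool), p * p = pw z i → pw p e * pw p e = pw z (e && i) := by
      intro p i e hp'
      cases e <;> simp [hp']
    intro w
    obtain ⟨w1, w2, w3, w4, w5, w6⟩ := w
    show pw a w1 * pw b w2 * pw c w3 * pw dd w4 * pw i w5 * pw j w6 *
      (pw a w1 * pw b w2 * pw c w3 * pw dd w4 * pw i w5 * pw j w6) = _
    rw [sq_mul h (m5 _ _ _ _ _) (pw_mem hj _) (sq_mul h (m4 _ _ _ _) (pw_mem hi _)
      (sq_mul h (mabc _ _ _) (pw_mem hd _) (sq_mul h (mab _ _) (pw_mem hc _)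
      (sq_mul h (pw_mem ha _) (pw_mem hb _) (sqp w1 hi1) (sqp w2 hi2)) (sqp w3 hi3)) (sqp w4 hi4))
      (sqp w5 hi5)) (sqp w6 hi6)]
    congr 1
    rw [fl_mul_right h (m4 _ _ _ _) (pw_mem hi _) (pw_mem hj _),
      fl_mul_right h (mabc _ _ _) (pw_mem hd _) (pw_mem hj _),
      fl_mul_right h (mab _ _) (pw_mem hc _) (pw_mem hj _),
      fl_mul_right h (pw_mem ha _) (pw_mem hb _) (pw_mem hj _),
      fl_mul_right h (mabc _ _ _) (pw_mem hd _) (pw_mem hi _),
      fl_mul_right h (mab _ _) (pw_mem hc _) (pw_mem hi _),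
      fl_mul_right h (pw_mem ha _) (pw_mem hb _) (pw_mem hi _),
      fl_mul_right h (mab _ _) (pw_mem hc _) (pw_mem hd _),
      fl_mul_right h (pw_mem ha _) (pw_mem hb _) (pw_mem hd _),
      fl_mul_right h (pw_mem ha _) (pw_mem hb _) (pw_mem hc _)]
    simp only [fl_pw, fl_pw_right, hba, hca, hcb, hdc, hda, hdb, hia, hib, hic, hid, hji, hja, hjb,
      hjc, hjd]
    simp [q0, Bool.xor_comm, Bool.xor_left_comm, Bool.and_comm]
  let c0 : W := cOf (i1, i2, i3, i4, i5, i6)
  let wx : W := (fl x₀ b, fl x₀ a, fl x₀ dd, fl x₀ c, fl x₀ j, fl x₀ i)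
  let x₁ := x₀ * mon wx
  have hx₁ : x₁ ∈ Q := mul_mem hx₀ (monQ _)
  have hx₁y : fl x₁ y = true := by
    rw [fl_mul h hx₀ (monQ _) hyQ, hx₀y, fl_eq_false.mpr (mony wx)]; rfl
  have key : ∀ p ∈ Q, fl x₁ p = xor (fl x₀ p) (fl (mon wx) p) := fun p hp =>
    fl_mul h hx₀ (monQ _) hp
  have k1 : fl x₁ a = false := by
    rw [key a ha, flmon _ a ha]; simp [wx, fl_self, hba, hca, hda, hia, hja]
  have k2 : fl x₁ b = false := by
    rw [key b hb, flmon _ b hb]; simp [wx, fl_self, hab, hcb, hdb, hib, hjb]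
  have k3 : fl x₁ c = false := by
    rw [key c hc, flmon _ c hc]
    simp [wx, fl_self, fl_symm a c, fl_symm b c, hca, hcb, hdc, hic, hjc]
  have k4 : fl x₁ dd = false := by
    rw [key dd hd, flmon _ dd hd]
    simp [wx, fl_self, fl_symm a dd, fl_symm b dd, hda, hdb, hcd, hid, hjd]
  have k5 : fl x₁ i = false := by
    rw [key i hi, flmon _ i hi]
    simp [wx, fl_self, fl_symm a i, fl_symm b i, fl_symm c i, fl_symm dd i, hia, hib, hic, hid, hji]
  have k6 : fl x₁ j = false := by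
    rw [key j hj, flmon _ j hj]
    simp [wx, fl_self, fl_symm a j, fl_symm b j, fl_symm c j, fl_symm dd j, hja, hjb, hjc, hjd, hij]
  have hx₁mon : ∀ w, fl x₁ (mon w) = false := fun w => by
    rw [fl_symm, flmon w _ hx₁, fl_symm a, fl_symm b, fl_symm c, fl_symm dd, fl_symm i, fl_symm j,
      k1, k2, k3, k4, k5, k6]
    simp
  obtain ⟨e₀, he₀⟩ := exists_sq h hx₁
  let x := x₁ * pw y e₀
  have hxQ : x ∈ Q := mul_mem hx₁ (pw_mem hyQ _)
  refine ⟨{ c := cond (q c0) c0 w0, hc := ?_, m := fun w => mon (phi (tv c0 w)), x := x,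
            sing := ⟨hyQ, hy2, hy1, hyz⟩, mem := fun w => monQ _, zero := ?_,
            comm_y := fun w => mony _, hx := hxQ, x_sq := ?_, x_y := ?_, x_m := ?_,
            m_m := fun u v => ?_, m_sq := fun u => ?_, m_add := fun u v => ?_ }⟩
  · cases hq : q c0
    exacts [Or.inl rfl, Or.inr hq]
  · rw [additive_zero (tv_add c0), additive_zero phi_add]; simp [mon, w0]
  · have hyy : pw y e₀ * pw y e₀ = pw z false := by cases e₀ <;> simp [hy2]
    show x₁ * pw y e₀ * (x₁ * pw y e₀) = 1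
    rw [sq_mul h hx₁ (pw_mem hyQ _) he₀ hyy, fl_pw, fl_symm y, hx₁y]
    simp
  · rw [fl_mul h hx₁ (pw_mem hyQ _) hyQ, hx₁y, fl_pw, fl_self]; simp
  · intro w
    rw [fl_mul h hx₁ (pw_mem hyQ _) (monQ _), hx₁mon, fl_pw, fl_symm y,
      fl_eq_false.mpr (mony _)]; simp
  · rw [monB, B0_phi, tv_B]
  · rw [monsq, q0_phi, tv_spec]
  · obtain ⟨e, he⟩ := monadd (phi (tv c0 u)) (phi (tv c0 v))
    exact ⟨e, by rw [he, ← phi_add, ← tv_add]⟩

theorem elem_count : ∀ c : W, c = w0 ∨ q c = true →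
    (Finset.univ.filter fun t : Bool × Bool × W × Bool =>
      (xor (t.1 && t.2.1) (qc c t.2.2.1) = false) ∧
        (t.1, t.2.1, t.2.2.1) ≠ (false, false, w0)).card = cond (decide (c = w0)) 270 238 := by
  decide +kernel

namespace Frame

variable (F : Frame z y Q)

/-- Coordinates of `Q`. -/
def elem (a b : Bool) (w : W) (e : Bool) : G := pw F.x a * pw y b * F.m w * pw z e

/-- The `W`-coordinate. -/
noncomputable def wof (p : G) : W := dual (fl p (F.m f0), fl p (F.m f1), fl p (F.m f2), fl p (F.m f3), fl p (F.m f4), fl p (F.m f5))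

variable (h : Hub Q z)
include h

theorem elem_mem (a b : Bool) (w : W) (e : Bool) : F.elem a b w e ∈ Q :=
  mul_mem (mul_mem (mul_mem (pw_mem F.hx a) (pw_mem F.sing.1 b)) (F.mem w)) (pw_mem h.mem e)

theorem fl_elem (a b : Bool) (w : W) (e : Bool) {r : G} (hr : r ∈ Q) : fl (F.elem a b w e) r =
    xor (xor (a && fl F.x r) (b && fl y r)) (fl (F.m w) r) := by
  have h1 : pw F.x a * pw y b ∈ Q := mul_mem (pw_mem F.hx a) (pw_mem F.sing.1 b)
  rw [elem, fl_mul h (mul_mem h1 (F.mem w)) (pw_mem h.mem e) hr, fl_mul h h1 (F.mem w) hr,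
    fl_mul h (pw_mem F.hx a) (pw_mem F.sing.1 b) hr, fl_pw, fl_pw, fl_pw, fl_z h hr]
  simp

theorem fl_y (a b : Bool) (w : W) (e : Bool) : fl (F.elem a b w e) y = a := by
  rw [F.fl_elem h a b w e F.sing.1, F.x_y, fl_self, fl_eq_false.mpr (F.comm_y w)]
  simp

theorem fl_x (a b : Bool) (w : W) (e : Bool) : fl (F.elem a b w e) F.x = b := by
  rw [F.fl_elem h a b w e F.hx, fl_self, fl_symm y, F.x_y, fl_symm (F.m w), F.x_m]
  simp

theorem fl_m (a b : Bool) (w : W) (e : Bool) (u : W) : fl (F.elem a b w e) (F.m u) = B w u := by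
  rw [F.fl_elem h a b w e (F.mem u), F.x_m, fl_symm y, fl_eq_false.mpr (F.comm_y u), F.m_m]
  simp

theorem fl_elem_elem (a b : Bool) (w : W) (e a' b' : Bool) (w' : W) (e' : Bool) :
    fl (F.elem a b w e) (F.elem a' b' w' e') = xor (xor (a' && b) (b' && a)) (B w' w) := by
  rw [fl_symm, F.fl_elem h a' b' w' e' (F.elem_mem h a b w e), fl_symm F.x, F.fl_x h, fl_symm y,
    F.fl_y h, fl_symm (F.m w'), F.fl_m h, B_symm]

theorem wof_elem (a b : Bool) (w : W) (e : Bool) : F.wof (F.elem a b w e) = w := by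
  simp only [wof, F.fl_m h]
  exact dual_B w

theorem wof_mul {p p' : G} (hp : p ∈ Q) (hp' : p' ∈ Q) :
    F.wof (p * p') = add (F.wof p) (F.wof p') := by
  simp only [wof, fl_mul h hp hp' (F.mem _)]
  rw [← dual_add]
  simp only [add]

theorem wof_z (e : Bool) : F.wof (pw z e) = w0 := by
  simp only [wof, fl_pw, fl_z h (F.mem _), Bool.and_false]
  rfl

theorem wof_m (w : W) : F.wof (F.m w) = w := by
  have e : F.m w = F.elem false false w false := by simp [elem]
  rw [e, F.wof_elem h]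

theorem wof_y (b : Bool) : F.wof (pw y b) = w0 := by
  simp only [wof, fl_pw, fl_symm y, fl_eq_false.mpr (F.comm_y _), Bool.and_false]
  rfl

theorem elem_inj {a b : Bool} {w : W} {e a' b' : Bool} {w' : W} {e' : Bool}
    (he : F.elem a b w e = F.elem a' b' w' e') : a = a' ∧ b = b' ∧ w = w' ∧ e = e' := by
  have ha := F.fl_y h a b w e
  have hb := F.fl_x h a b w e
  have hw := F.wof_elem h a b w e
  rw [he, F.fl_y h] at ha
  rw [he, F.fl_x h] at hb
  rw [he, F.wof_elem h] at hw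
  subst ha hb hw
  exact ⟨rfl, rfl, rfl, pw_inj h.ne_one (mul_left_cancel he)⟩

omit h in
theorem exists_elem (d : Data z Q) {p : G} (hp : p ∈ Q) :
    ∃ e, p = F.elem (fl p y) (fl p F.x) (F.wof p) e := by
  have h := d.hub
  let f : Bool × Bool × W × Bool → Q := fun t => ⟨F.elem t.1 t.2.1 t.2.2.1 t.2.2.2, F.elem_mem h _ _ _ _⟩
  have hf : Function.Injective f := fun s t e => by
    obtain ⟨h1, h2, h3, h4⟩ := F.elem_inj h (congrArg Subtype.val e)
    exact Prod.ext h1 (Prod.ext h2 (Prod.ext h3 h4))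
  have : Finite Q := Nat.finite_of_card_ne_zero (by rw [d.cardQ]; norm_num)
  have hb := (Nat.bijective_iff_injective_and_card f).mpr ⟨hf, by rw [d.cardQ]; simp⟩
  obtain ⟨⟨a, b, w, e⟩, he⟩ := hb.2 ⟨p, hp⟩
  have he' : F.elem a b w e = p := congrArg Subtype.val he
  exact ⟨e, by rw [← he', F.fl_y h, F.fl_x h, F.wof_elem h]⟩

theorem elem_sq (a b : Bool) (w : W) (e : Bool) :
    F.elem a b w e * F.elem a b w e = pw z (xor (a && b) (qc F.c w)) := by
  have hx : pw F.x a * pw F.x a = pw z false := by cases a <;> simp [F.x_sq]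
  have hy : pw y b * pw y b = pw z false := by cases b <;> simp [F.sing.2.1]
  have hzz : pw z e * pw z e = pw z false := by cases e <;> simp [h.sq]
  have h1 : pw F.x a * pw y b ∈ Q := mul_mem (pw_mem F.hx a) (pw_mem F.sing.1 b)
  rw [elem, sq_mul h (mul_mem h1 (F.mem w)) (pw_mem h.mem e)
    (sq_mul h h1 (F.mem w) (sq_mul h (pw_mem F.hx a) (pw_mem F.sing.1 b) hx hy) (F.m_sq w)) hzz,
    fl_pw (x := z), fl_z h (mul_mem h1 (F.mem w)), fl_mul_right h (pw_mem F.hx a) (pw_mem F.sing.1 b) (F.mem w)]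
  have q1 : fl (F.m w) F.x = false := by rw [fl_symm, F.x_m]
  have q2 : fl (F.m w) y = false := fl_eq_false.mpr (F.comm_y w)
  have q3 : fl y F.x = true := by rw [fl_symm, F.x_y]
  simp only [fl_pw, fl_pw_right, q1, q2, q3]
  congr 1
  cases a <;> cases b <;> simp

omit h in
theorem card_sing (d : Data z Q) :
    Nat.card {p // Sing z Q p} = cond (decide (F.c = w0)) 270 238 := by
  have h := d.hub
  classical
  rw [← elem_count F.c F.hc, ← Nat.card_eq_finsetCard]
  refine (Nat.card_congr (Equiv.ofBijective (fun t => (⟨F.elem t.1.1 t.1.2.1 t.1.2.2.1 t.1.2.2.2, ?_⟩ :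
    {p // Sing z Q p})) ⟨?_, ?_⟩)).symm
  · obtain ⟨⟨a, b, w, e⟩, ht⟩ := t
    simp only [Finset.mem_filter, Finset.mem_univ, true_and] at ht
    refine ⟨F.elem_mem h _ _ _ _, by rw [F.elem_sq h, ht.1]; rfl, fun e' => ht.2 ?_, fun e' => ht.2 ?_⟩
    · obtain ⟨r1, r2, r3, -⟩ := F.elem_inj h (e'.trans (show (1 : G) = F.elem false false w0 false by
        simp [elem, F.zero]))
      exact Prod.ext r1 (Prod.ext r2 r3)
    · obtain ⟨r1, r2, r3, -⟩ := F.elem_inj h (e'.trans (show z = F.elem false false w0 true by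
        simp [elem, F.zero]))
      exact Prod.ext r1 (Prod.ext r2 r3)
  · rintro ⟨s, _⟩ ⟨t, _⟩ e
    obtain ⟨h1, h2, h3, h4⟩ := F.elem_inj h (congrArg Subtype.val e)
    exact Subtype.ext (Prod.ext h1 (Prod.ext h2 (Prod.ext h3 h4)))
  · rintro ⟨p, hp, hp2, hp1, hpz⟩
    obtain ⟨e, he⟩ := F.exists_elem d hp
    refine ⟨⟨(_, _, _, e), ?_⟩, Subtype.ext he.symm⟩
    simp only [Finset.mem_filter, Finset.mem_univ, true_and]
    refine ⟨?_, fun e' => ?_⟩
    · rw [he, F.elem_sq h, ← pw_false z] at hp2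
      exact pw_inj h.ne_one hp2
    · obtain ⟨q1, q23⟩ := Prod.ext_iff.mp e'
      obtain ⟨q2, q3⟩ := Prod.ext_iff.mp q23
      change fl p y = false at q1
      change fl p F.x = false at q2
      change F.wof p = w0 at q3
      rw [q1, q2, q3] at he
      cases e
      exacts [hp1 (by simpa [elem, F.zero] using he), hpz (by simpa [elem, F.zero] using he)]

end Frame

end Cfsg.Agent.ConwayType
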