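import Cfsg.Agent.Lib.ConwayType.Noncon

/-!
# Groups of Conway type have three classes of involutions
-/

set_option autoImplicit false
set_option maxHeartbeats 400000

namespace Cfsg.Agent.ConwayType

variable {G : Type*} [Group G] [Finite G] {z : G} {Q : Subgroup G}

/-- Exactly three classes of involutions, represented by `z`, `u`, `t`. -/
theorem Data.three_classes (d : Data z Q) : ∃ u t : G, (u * u = 1 ∧ u ≠ 1) ∧ (t * t = 1 ∧ t ≠ 1) ∧
    ¬ IsConj z u ∧ ¬ IsConj z t ∧ ¬ IsConj u t ∧
    ∀ x : G, x * x = 1 → x ≠ 1 → IsConj z x ∨ IsConj u x ∨ IsConj t x := by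
  obtain ⟨g, hgQ, hgz⟩ := d.out
  have h := d.hub
  obtain ⟨F⟩ := exists_frame d (show Sing z Q (g * z * g⁻¹) from
    ⟨hgQ, conj_sq h.sq, fun e => h.ne_one (by simpa using e), hgz⟩)
  obtain ⟨R⟩ := exists_radical F d rfl
  obtain ⟨T⟩ := exists_twist d R
  have one : ∀ (w : W) {v : W}, v ≠ w0 → R.el w v false false ≠ 1 := fun w {v} hv e =>
    R.el_not_mem d (w := w) hv false false (e ▸ one_mem Q)
  exact ⟨_, _, ⟨invol_set (R := R) (w := rN') (v := rN) d false false (by decide) (by decide),
      one rN' (by decide)⟩,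
    ⟨invol_set (R := R) (w := rS') (v := rS) d false false (by decide) (by decide),
      one rS' (by decide)⟩,
    u_not_z d T, t_not_z d T, u_not_t d T, fun x hx hx1 => three_all d T hx hx1⟩

end Cfsg.Agent.ConwayType
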