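import Mathlib.Data.Fintype.Perm
import Mathlib.GroupTheory.Perm.Sign
import Mathlib.LinearAlgebra.Matrix.GeneralLinearGroup.Card
import Mathlib.LinearAlgebra.Matrix.ToLin
import Mathlib.GroupTheory.Perm.Cycle.Type

/-!
# The quadratic space of plus type in dimension six over two elements

`W` is the space of even subsets of eight points modulo complementation, a subset being given by its
membership bits at `0, …, 5` once `7` is left out; `q` is half the size modulo two. The symmetric
group on eight points acts, faithfully, as the whole isometry group.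
-/

set_option autoImplicit false
set_option maxHeartbeats 400000
set_option synthInstance.maxSize 2048

namespace Cfsg.Agent.ConwayType

/-- Even subsets of eight points modulo complements. -/
abbrev W := Bool × Bool × Bool × Bool × Bool × Bool

/-- Sum. -/
def add : W → W → W
  | (a, b, c, d, e, f), (a', b', c', d', e', f') =>
    (xor a a', xor b b', xor c c', xor d d', xor e e', xor f f')

/-- Zero. -/
def w0 : W := (false, false, false, false, false, false)

/-- Membership of `6`. -/
def par : W → Bool
  | (a, b, c, d, e, f) => xor (xor (xor a b) (xor c d)) (xor e f)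

/-- The subset not containing `7`. -/
def ex (w : W) : Fin 8 → Bool :=
  ![w.1, w.2.1, w.2.2.1, w.2.2.2.1, w.2.2.2.2.1, w.2.2.2.2.2, par w, false]

/-- The class of a subset. -/
def norm (g : Fin 8 → Bool) : W :=
  (xor (g 0) (g 7), xor (g 1) (g 7), xor (g 2) (g 7), xor (g 3) (g 7), xor (g 4) (g 7),
    xor (g 5) (g 7))

/-- The quadratic form. -/
def q : W → Bool
  | (a, b, c, d, e, f) =>
    xor (xor (xor (a && b) (c && xor a b)) (xor (d && xor (xor a b) c)
      (xor (e && xor (xor a b) (xor c d)) (f && xor (xor (xor a b) (xor c d)) e))))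
      (xor (xor (xor a b) (xor c d)) (xor e f))

/-- The polar form. -/
def B : W → W → Bool
  | (a, b, c, d, e, f), (a', b', c', d', e', f') =>
    xor (xor (xor (a && a') (b && b')) (xor (c && c') (d && d'))) (xor (xor (e && e') (f && f'))
      (xor (xor (xor a b) (xor c d)) (xor e f) && xor (xor (xor a' b') (xor c' d')) (xor e' f')))

/-- The forms with polar form `B`. -/
def qc (c w : W) : Bool := xor (q w) (B c w)

/-- Scalar multiple. -/
def smul (e : Bool) (w : W) : W := cond e w w0

/-- A two element subset. -/
def pr (i j : Fin 8) : W := norm fun k => decide (k = i) || decide (k = j)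

def f0 : W := (true, false, false, false, false, false)
def f1 : W := (false, true, false, false, false, false)
def f2 : W := (false, false, true, false, false, false)
def f3 : W := (false, false, false, true, false, false)
def f4 : W := (false, false, false, false, true, false)
def f5 : W := (false, false, false, false, false, true)

/-- The vector with given values of `B` on `f0, …, f5`. -/
def dual (w : W) : W :=
  (xor (par w) w.1, xor (par w) w.2.1, xor (par w) w.2.2.1, xor (par w) w.2.2.2.1,
    xor (par w) w.2.2.2.2.1, xor (par w) w.2.2.2.2.2)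

/-- The linear map with the given images of `f0, …, f5`. -/
def lin (i0 i1 i2 i3 i4 i5 : W) : W → W
  | (a, b, c, d, e, f) => add (add (add (smul a i0) (smul b i1)) (add (smul c i2) (smul d i3)))
      (add (smul e i4) (smul f i5))

theorem q_add : ∀ u v : W, q (add u v) = xor (xor (q u) (q v)) (B u v) := by decide +kernel
theorem add_comm' : ∀ u v : W, add u v = add v u := by decide +kernel
theorem add_self : ∀ u : W, add u u = w0 := by decide +kernel
theorem add_zero' : ∀ u : W, add u w0 = u ∧ add w0 u = u := by decide +kernel
theorem B_symm : ∀ u v : W, B u v = B v u := by decide +kernel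
theorem B_self : ∀ u : W, B u u = false := by decide +kernel
theorem B_w0 : ∀ u : W, B u w0 = false := by decide +kernel
theorem B_ext : ∀ u v : W, B f0 u = B f0 v → B f1 u = B f1 v → B f2 u = B f2 v →
    B f3 u = B f3 v → B f4 u = B f4 v → B f5 u = B f5 v → u = v := by decide +kernel
theorem B_exists : ∀ u : W, u ≠ w0 → ∃ v, B v u = true := by decide +kernel
theorem decomp : ∀ w : W, w = lin f0 f1 f2 f3 f4 f5 w := by decide +kernel
theorem vcoord : ∀ l : W, B (dual l) f0 = l.1 ∧ B (dual l) f1 = l.2.1 ∧ B (dual l) f2 = l.2.2.1 ∧
    B (dual l) f3 = l.2.2.2.1 ∧ B (dual l) f4 = l.2.2.2.2.1 ∧ B (dual l) f5 = l.2.2.2.2.2 := by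
  decide +kernel
theorem dual_B : ∀ w : W, dual (B w f0, B w f1, B w f2, B w f3, B w f4, B w f5) = w := by
  decide +kernel
theorem dual_add : ∀ u v : W, dual (add u v) = add (dual u) (dual v) := by decide +kernel

theorem add_assoc' : ∀ u v w : W, add (add u v) w = add u (add v w) := by
  rintro ⟨a, b, c, d, e, f⟩ ⟨a', b', c', d', e', f'⟩ ⟨a'', b'', c'', d'', e'', f''⟩
  simp [add]

theorem B_eq : ∀ u v : W, B u v =
    xor (xor (xor (u.1 && v.1) (u.2.1 && v.2.1)) (xor (u.2.2.1 && v.2.2.1) (u.2.2.2.1 && v.2.2.2.1)))
      (xor (xor (u.2.2.2.2.1 && v.2.2.2.2.1) (u.2.2.2.2.2 && v.2.2.2.2.2)) (par u && par v)) :=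
  fun _ _ => rfl

theorem par_add : ∀ u v : W, par (add u v) = xor (par u) (par v) := by decide +kernel

theorem B_add : ∀ u v w : W, B (add u v) w = xor (B u w) (B v w) := by
  intro u v w
  simp only [B_eq, par_add]
  generalize par u = P, par v = P', par w = P''
  obtain ⟨a, b, c, d, e, f⟩ := u
  obtain ⟨a', b', c', d', e', f'⟩ := v
  obtain ⟨a'', b'', c'', d'', e'', f''⟩ := w
  simp only [add, Bool.and_xor_distrib_right]
  simp [Bool.xor_comm, Bool.xor_left_comm]

theorem B_add_right (u v w : W) : B u (add v w) = xor (B u v) (B u w) := by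
  rw [B_symm, B_add, B_symm v, B_symm w]

theorem qc_add (c u v : W) : qc c (add u v) = xor (xor (qc c u) (qc c v)) (B u v) := by
  simp [qc, q_add, B_add_right, Bool.xor_comm, Bool.xor_left_comm]

theorem qc_zero : ∀ u : W, qc w0 u = q u := by decide +kernel

theorem add_left_cancel' {u v w : W} (h : add u v = add u w) : v = w := by
  have e := congrArg (add u) h
  rwa [← add_assoc', ← add_assoc', add_self, (add_zero' _).2, (add_zero' _).2] at e

theorem eq_of_add {u v : W} (h : add u v = w0) : u = v :=
  (add_left_cancel' (h.trans (add_self u).symm)).symm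

theorem additive_zero {f : W → W} (hf : ∀ u v, f (add u v) = add (f u) (f v)) : f w0 = w0 := by
  have h := hf w0 w0
  rw [add_self, add_self] at h
  exact h

theorem additive_smul {f : W → W} (hf : ∀ u v, f (add u v) = add (f u) (f v)) (e : Bool) (x : W) :
    f (smul e x) = smul e (f x) := by
  cases e
  exacts [additive_zero hf, rfl]

theorem lin_of_additive {f : W → W} (hf : ∀ u v, f (add u v) = add (f u) (f v)) (w : W) :
    f w = lin (f f0) (f f1) (f f2) (f f3) (f f4) (f f5) w := by
  obtain ⟨a, b, c, d, e, g⟩ := w
  conv_lhs => rw [decomp (a, b, c, d, e, g)]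
  simp only [lin, hf, additive_smul hf]

/-! ### Permutations -/

/-- The size modulo two. -/
def par8 (g : Fin 8 → Bool) : Bool := decide ((Finset.univ.filter fun i => g i = true).card % 2 = 1)

theorem ex_norm : ∀ g : Fin 8 → Bool, par8 g = false → ∀ i, ex (norm g) i = xor (g i) (g 7) := by
  decide +kernel

theorem q_norm : ∀ g : Fin 8 → Bool, par8 g = false →
    q (norm g) = decide ((Finset.univ.filter fun i => g i = true).card / 2 % 2 = 1) := by
  decide +kernel

theorem par8_ex : ∀ w : W, par8 (ex w) = false := by decide +kernel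
theorem norm_ex : ∀ w : W, norm (ex w) = w := by decide +kernel

theorem filter_comp (g : Fin 8 → Bool) (π : Equiv.Perm (Fin 8)) :
    (Finset.univ.filter fun i => g (π i) = true).card =
      (Finset.univ.filter fun i => g i = true).card :=
  Finset.card_equiv π fun i => by simp

theorem par8_comp (g : Fin 8 → Bool) (π : Equiv.Perm (Fin 8)) :
    par8 (fun i => g (π i)) = par8 g := by
  simp only [par8, filter_comp g π]

theorem norm_const (g : Fin 8 → Bool) (c : Bool) : norm (fun i => xor (g i) c) = norm g := by
  cases c <;> simp [norm]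

theorem norm_xor (g k : Fin 8 → Bool) : norm (fun i => xor (g i) (k i)) = add (norm g) (norm k) := by
  simp only [norm, add, Prod.mk.injEq]
  refine ⟨?_, ?_, ?_, ?_, ?_, ?_⟩ <;> simp [Bool.xor_comm, Bool.xor_left_comm]

theorem ex_add (u v : W) (i : Fin 8) : ex (add u v) i = xor (ex u i) (ex v i) := by
  obtain ⟨a, b, c, d, e, f⟩ := u
  obtain ⟨a', b', c', d', e', f'⟩ := v
  fin_cases i <;> simp [ex, add, par, Bool.xor_comm, Bool.xor_left_comm]

end Cfsg.Agent.ConwayType
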