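import Cfsg.Agent.Lib.ConwayType.Model
import Mathlib.Algebra.Module.ZMod
import Mathlib.Algebra.Field.ZMod

/-!
# The symmetric group on eight points as the isometry group
-/

set_option autoImplicit false
set_option maxHeartbeats 400000
set_option synthInstance.maxSize 2048

namespace Cfsg.Agent.ConwayType

/-- The action of a permutation. -/
def act (π : Equiv.Perm (Fin 8)) (w : W) : W := norm fun i => ex w (π.symm i)

theorem act_add (π : Equiv.Perm (Fin 8)) (u v : W) : act π (add u v) = add (act π u) (act π v) := by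
  simp only [act, ex_add, norm_xor]

theorem act_mul (π ρ : Equiv.Perm (Fin 8)) (w : W) : act (π * ρ) w = act π (act ρ w) := by
  have h : par8 (fun i => ex w (ρ.symm i)) = false := (par8_comp _ _).trans (par8_ex w)
  have e : act π (act ρ w) = norm fun i => xor (ex w (ρ.symm (π.symm i))) (ex w (ρ.symm 7)) :=
    congrArg norm (funext fun i => ex_norm _ h (π.symm i))
  rw [e, norm_const fun i => ex w (ρ.symm (π.symm i))]
  rfl

theorem act_one (w : W) : act 1 w = w := norm_ex w

theorem q_act (π : Equiv.Perm (Fin 8)) (w : W) : q (act π w) = q w := by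
  have h : par8 (fun i => ex w (π.symm i)) = false := (par8_comp _ _).trans (par8_ex w)
  rw [act, q_norm _ h, filter_comp (ex w) π.symm, ← q_norm _ (par8_ex w), norm_ex]

theorem B_act (π : Equiv.Perm (Fin 8)) (u v : W) : B (act π u) (act π v) = B u v := by
  have e1 := q_add (act π u) (act π v)
  rw [← act_add, q_act, q_act, q_act, q_add u v] at e1
  simpa using e1.symm

theorem par8_pr : ∀ i j : Fin 8, i ≠ j → par8 (fun k => decide (k = i) || decide (k = j)) = false := by
  decide +kernel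

theorem act_pr (π : Equiv.Perm (Fin 8)) {i j : Fin 8} (hij : i ≠ j) :
    act π (pr i j) = pr (π i) (π j) := by
  have h := par8_pr i j hij
  rw [act, pr]
  rw [show (fun k => ex (norm fun k => decide (k = i) || decide (k = j)) (π.symm k)) =
    fun k => xor (decide (π.symm k = i) || decide (π.symm k = j)) (decide ((7 : Fin 8) = i) || decide ((7 : Fin 8) = j))
    from funext fun k => ex_norm _ h _]
  rw [norm_const, pr]
  exact congrArg norm (funext fun k => by simp [Equiv.symm_apply_eq])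

theorem pr_inj : ∀ i j k l : Fin 8, i ≠ j → k ≠ l → pr i j = pr k l →
    (k = i ∧ l = j) ∨ (k = j ∧ l = i) := by decide +kernel

theorem two_others : ∀ i : Fin 8, ∃ j k, j ≠ i ∧ k ≠ i ∧ j ≠ k := by decide +kernel

theorem act_inj {π ρ : Equiv.Perm (Fin 8)} (h : ∀ w, act π w = act ρ w) : π = ρ := by
  refine Equiv.ext fun i => ?_
  obtain ⟨j, k, hj, hk, hjk⟩ := two_others i
  have e1 := h (pr i j)
  have e2 := h (pr i k)
  rw [act_pr π hj.symm, act_pr ρ hj.symm] at e1
  rw [act_pr π hk.symm, act_pr ρ hk.symm] at e2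
  rcases pr_inj _ _ _ _ (π.injective.ne hj.symm) (ρ.injective.ne hj.symm) e1 with ⟨a, -⟩ | ⟨a, b⟩
  · exact a.symm
  rcases pr_inj _ _ _ _ (π.injective.ne hk.symm) (ρ.injective.ne hk.symm) e2 with ⟨c, -⟩ | ⟨c, d⟩
  · exact c.symm
  exact absurd (π.injective (a.symm.trans c)) hjk

/-- The action as a homomorphism. -/
def rho8 : Equiv.Perm (Fin 8) →* Equiv.Perm W where
  toFun π :=
    { toFun := act π
      invFun := act π⁻¹
      left_inv := fun w => by rw [← act_mul, inv_mul_cancel, act_one]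
      right_inv := fun w => by rw [← act_mul, mul_inv_cancel, act_one] }
  map_one' := Equiv.ext act_one
  map_mul' π ρ := Equiv.ext fun w => act_mul π ρ w

theorem rho8_inj : Function.Injective rho8 := fun _ _ e =>
  act_inj fun w => congrArg (fun σ : Equiv.Perm W => σ w) e

theorem card_rho8 : Nat.card rho8.range = 40320 := by
  rw [← Nat.card_congr (MonoidHom.ofInjective rho8_inj).toEquiv, Nat.card_eq_fintype_card,
    Fintype.card_perm, Fintype.card_fin]
  rfl

/-- Additive bijections preserving `qc c`. -/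
def iso (c : W) : Subgroup (Equiv.Perm W) where
  carrier := {σ | (∀ u v, σ (add u v) = add (σ u) (σ v)) ∧ ∀ u, qc c (σ u) = qc c u}
  one_mem' := ⟨fun _ _ => rfl, fun _ => rfl⟩
  mul_mem' := fun {σ τ} hσ hτ => ⟨fun u v => by simp [hσ.1, hτ.1], fun u => by simp [hσ.2, hτ.2]⟩
  inv_mem' := fun {σ} hσ => ⟨fun u v => σ.injective (by simp [hσ.1]), fun u => by
    conv_rhs => rw [← (show σ (σ⁻¹ u) = u by simp), hσ.2]⟩

theorem nonsing_pr : ∀ w : W, q w = true → ∃ i j, i ≠ j ∧ pr i j = w := by decide +kernel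

theorem share_cases : ∀ a b c d : Fin 8, a ≠ b → c ≠ d → B (pr a b) (pr c d) = true →
    (a = c ∧ b ≠ d) ∨ (a = d ∧ b ≠ c) ∨ (b = c ∧ a ≠ d) ∨ (b = d ∧ a ≠ c) := by decide +kernel

theorem pr_comm : ∀ i j : Fin 8, pr i j = pr j i := by decide +kernel

theorem share {a b c d : Fin 8} (hab : a ≠ b) (hcd : c ≠ d) (h : B (pr a b) (pr c d) = true) :
    ∃ o x y : Fin 8, o ≠ x ∧ o ≠ y ∧ x ≠ y ∧ pr o x = pr a b ∧ pr o y = pr c d := by
  rcases share_cases a b c d hab hcd h with ⟨rfl, k⟩ | ⟨rfl, k⟩ | ⟨rfl, k⟩ | ⟨rfl, k⟩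
  · exact ⟨a, b, d, hab, hcd, k, rfl, rfl⟩
  · exact ⟨a, b, c, hab, hcd.symm, k, rfl, pr_comm a c⟩
  · exact ⟨b, a, d, hab.symm, hcd, k, pr_comm b a, rfl⟩
  · exact ⟨b, a, c, hab.symm, hcd.symm, k, pr_comm b a, pr_comm b c⟩

theorem third : ∀ o x y e f : Fin 8, o ≠ x → o ≠ y → x ≠ y → e ≠ f →
    B (pr e f) (pr o x) = true → B (pr e f) (pr o y) = true →
    (e = o ∨ f = o ∨ pr e f = pr x y) ∧ B (pr e f) (pr x y) = false := by decide +kernel

theorem f_basis : pr 0 6 = f0 ∧ pr 1 6 = f1 ∧ pr 2 6 = f2 ∧ pr 3 6 = f3 ∧ pr 4 6 = f4 ∧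
    pr 5 6 = f5 := by decide +kernel

theorem star_B : ∀ i j : Fin 6, i ≠ j →
    B (pr (i.castSucc.castSucc) 6) (pr (j.castSucc.castSucc) 6) = true := by decide +kernel

theorem star_q : ∀ i : Fin 6, q (pr (i.castSucc.castSucc) 6) = true := by decide +kernel

theorem exists_act {σ : W → W} (ha : ∀ u v, σ (add u v) = add (σ u) (σ v))
    (hq : ∀ u, q (σ u) = q u) : ∃ π : Equiv.Perm (Fin 8), ∀ w, σ w = act π w := by
  have hB : ∀ u v, B (σ u) (σ v) = B u v := fun u v => by
    have e1 := q_add (σ u) (σ v)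
    rw [← ha, hq, hq, hq, q_add u v] at e1
    simpa using e1.symm
  let f : Fin 6 → W := fun i => pr (i.castSucc.castSucc) 6
  choose a b hab hp using fun i => nonsing_pr (σ (f i)) (by rw [hq]; exact star_q i)
  have hmeet : ∀ i j, i ≠ j → B (pr (a i) (b i)) (pr (a j) (b j)) = true := fun i j hij => by
    rw [hp, hp, hB]; exact star_B i j hij
  obtain ⟨o, x, y, hox, hoy, hxy, hx, hy⟩ := share (hab 0) (hab 1) (hmeet 0 1 (by decide))
  have hother : ∀ k : Fin 6, k ≠ 0 → k ≠ 1 → a k = o ∨ b k = o := by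
    intro k h0 h1
    have t := fun l h0 h1 => third o x y (a l) (b l) hox hoy hxy (hab l)
      (by rw [hx]; exact hmeet l 0 h0) (by rw [hy]; exact hmeet l 1 h1)
    rcases (t k h0 h1).1 with e | e | e
    · exact Or.inl e
    · exact Or.inr e
    obtain ⟨l, l0, l1, lk⟩ : ∃ l : Fin 6, l ≠ 0 ∧ l ≠ 1 ∧ l ≠ k :=
      (by decide : ∀ k : Fin 6, ∃ l : Fin 6, l ≠ 0 ∧ l ≠ 1 ∧ l ≠ k) k
    have := (t l l0 l1).2
    rw [← e, hmeet l k lk] at this
    exact Bool.noConfusion this
  have hall : ∀ k, ∃ c, c ≠ o ∧ pr c o = σ (f k) := by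
    intro k
    by_cases h0 : k = 0
    · exact ⟨x, hox.symm, by rw [h0, pr_comm, hx, hp]⟩
    by_cases h1 : k = 1
    · exact ⟨y, hoy.symm, by rw [h1, pr_comm, hy, hp]⟩
    rcases hother k h0 h1 with e | e
    · exact ⟨b k, by rw [← e]; exact (hab k).symm, by rw [← e, pr_comm, hp]⟩
    · exact ⟨a k, by rw [← e]; exact hab k, by rw [← e, hp]⟩
  choose c hco hc using hall
  have hcinj : Function.Injective c := fun i j e => by
    by_contra hij
    have h := star_B i j hij
    rw [← hB, ← hc i, ← hc j, e, B_self] at h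
    exact Bool.noConfusion h
  have hg : Function.Injective (Fin.snoc c o : Fin 7 → Fin 8) :=
    Fin.snoc_injective_iff.mpr ⟨hcinj, by rintro ⟨i, hi⟩; exact hco i hi⟩
  obtain ⟨t, ht⟩ : ∃ t, t ∉ Set.range (Fin.snoc c o : Fin 7 → Fin 8) := by
    by_contra hno
    push Not at hno
    have := Fintype.card_le_of_surjective _ fun s => hno s
    simp at this
  let g : Fin 8 → Fin 8 := Fin.snoc (Fin.snoc c o : Fin 7 → Fin 8) t
  have hgi : Function.Injective g := Fin.snoc_injective_iff.mpr ⟨hg, ht⟩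
  refine ⟨Equiv.ofBijective g (Finite.injective_iff_bijective.mp hgi), fun w => ?_⟩
  set π := Equiv.ofBijective g (Finite.injective_iff_bijective.mp hgi)
  have key : ∀ i : Fin 6, act π (f i) = σ (f i) := fun i => by
    rw [act_pr π (by revert i; decide)]
    have e1 : π i.castSucc.castSucc = c i := by
      show g _ = _
      simp only [g, Fin.snoc_castSucc]
    have e2 : π 6 = o := by
      show g (Fin.castSucc (Fin.last 6)) = _
      simp only [g, Fin.snoc_castSucc, Fin.snoc_last]
    rw [e1, e2, hc]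
  obtain ⟨b0, b1, b2, b3, b4, b5⟩ := f_basis
  rw [lin_of_additive ha w, lin_of_additive (act_add π) w, ← b0, ← b1, ← b2, ← b3, ← b4, ← b5]
  have k0 := key 0; have k1 := key 1; have k2 := key 2
  have k3 := key 3; have k4 := key 4; have k5 := key 5
  exact (congrArg (fun t => lin t _ _ _ _ _ w) k0.symm).trans <|
    (congrArg (fun t => lin _ t _ _ _ _ w) k1.symm).trans <|
    (congrArg (fun t => lin _ _ t _ _ _ w) k2.symm).trans <|
    (congrArg (fun t => lin _ _ _ t _ _ w) k3.symm).trans <|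
    (congrArg (fun t => lin _ _ _ _ t _ w) k4.symm).trans <|
    (congrArg (fun t => lin _ _ _ _ _ t w) k5.symm)

theorem iso_le_rho8 : iso w0 ≤ rho8.range := fun σ h => by
  obtain ⟨π, hπ⟩ := exists_act h.1 fun u => by simpa [qc_zero] using h.2 u
  exact ⟨π, Equiv.ext fun w => (hπ w).symm⟩

/-- Additive bijections. -/
def addPerm : Subgroup (Equiv.Perm W) where
  carrier := {σ | ∀ u v, σ (add u v) = add (σ u) (σ v)}
  one_mem' := fun _ _ => rfl
  mul_mem' := fun {σ τ} hσ hτ u v => by
    show σ (τ (add u v)) = _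
    rw [hτ, hσ]; rfl
  inv_mem' := fun {σ} hσ u v => σ.injective (by
    rw [show σ (add (σ⁻¹ u) (σ⁻¹ v)) = _ from hσ (σ⁻¹ u) (σ⁻¹ v)]; simp)

/-- Coordinates over `ZMod 2`. -/
def toV : W ≃ (Fin 6 → ZMod 2) where
  toFun w := fun i => cond (ex w i.castSucc.castSucc) 1 0
  invFun v := (decide (v 0 = 1), decide (v 1 = 1), decide (v 2 = 1), decide (v 3 = 1),
    decide (v 4 = 1), decide (v 5 = 1))
  left_inv := by decide +kernel
  right_inv := by decide +kernel

theorem toV_add : ∀ u v : W, toV (add u v) = toV u + toV v := by decide +kernel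

theorem card_addPerm : Nat.card addPerm ∣ 20158709760 := by
  let f : addPerm → Module.End (ZMod 2) (Fin 6 → ZMod 2) := fun σ =>
    AddMonoidHom.toZModLinearMap 2 (AddMonoidHom.mk'
      (fun v => toV ((σ : Equiv.Perm W) (toV.symm v))) fun a b => by
        have : toV.symm (a + b) = add (toV.symm a) (toV.symm b) := toV.injective (by simp [toV_add])
        rw [this, σ.2, toV_add])
  have hf : ∀ σ v, f σ v = toV ((σ : Equiv.Perm W) (toV.symm v)) := fun _ _ => rfl
  let φ : addPerm →* Module.End (ZMod 2) (Fin 6 → ZMod 2) :=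
    { toFun := f
      map_one' := LinearMap.ext fun v => by rw [hf]; simp
      map_mul' := fun σ τ => LinearMap.ext fun v => by
        rw [Module.End.mul_apply, hf, hf, hf]; simp }
  have hinj : Function.Injective φ.toHomUnits := fun σ τ e => Subtype.ext (Equiv.ext fun w => by
    have := congrArg (fun u : (Module.End (ZMod 2) (Fin 6 → ZMod 2))ˣ =>
      (u : Module.End (ZMod 2) (Fin 6 → ZMod 2)) (toV w)) e
    simp only [MonoidHom.coe_toHomUnits] at this
    rw [show φ σ = f σ from rfl, show φ τ = f τ from rfl, hf, hf, Equiv.symm_apply_apply] at this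
    exact toV.injective this)
  have : Fact (Nat.Prime 2) := ⟨Nat.prime_two⟩
  have h := Subgroup.card_dvd_of_injective _ hinj
  have e : Nat.card (Module.End (ZMod 2) (Fin 6 → ZMod 2))ˣ = 20158709760 := by
    rw [← Nat.card_congr (Matrix.GeneralLinearGroup.toLin :
      Matrix.GeneralLinearGroup (Fin 6) (ZMod 2) ≃* _).toEquiv]
    refine (Matrix.card_GL_field (𝔽 := ZMod 2) 6).trans ?_
    rw [ZMod.card] <;> rfl
  rwa [e] at h

end Cfsg.Agent.ConwayType
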