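import Cfsg.Agent.Lib.ConwayType.Act

/-!
# The radical of `C(z) ∩ C(y)`, and an element interchanging `z` and `y`

For `y ∈ Q` conjugate to `z` the subgroup `C_Q(y) C_{Q'}(z)`, `Q'` the conjugate of `Q` at `y`, is
`m(W) n(W) ⟨y, z⟩` with both commutator coordinates given by `B`.
-/

set_option autoImplicit false
set_option maxHeartbeats 800000
set_option synthInstance.maxSize 2048

namespace Cfsg.Agent.ConwayType

open Subgroup
open Cfsg.Agent.LargeExtraspecial (Hub)

variable {G : Type*} [Group G] {z y : G} {Q Q' : Subgroup G}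

theorem dual_vec : ∀ w A : W, B w (dual A) =
    xor (xor (xor (w.1 && A.1) (w.2.1 && A.2.1)) (xor (w.2.2.1 && A.2.2.1) (w.2.2.2.1 && A.2.2.2.1)))
      (xor (w.2.2.2.2.1 && A.2.2.2.2.1) (w.2.2.2.2.2 && A.2.2.2.2.2)) := by decide +kernel

theorem iso_zero {σ : Equiv.Perm W} {c : W} (h : σ ∈ iso c) : σ w0 = w0 := additive_zero h.1

theorem iso_B {σ : Equiv.Perm W} {c : W} (h : σ ∈ iso c) (u v : W) : B (σ u) (σ v) = B u v := by
  have e1 := qc_add c (σ u) (σ v)
  rw [← h.1, h.2, h.2, h.2, qc_add c u v] at e1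
  simpa using e1.symm

/-- `Q ∩ Q'` has trivial `W`-part. -/
theorem inter_wof [Finite G] (F : Frame z y Q) (d : Data z Q) (d' : Data y Q') (hz : z ∈ Q') {p : G}
    (hp : p ∈ Q) (hp' : p ∈ Q') : F.wof p = w0 := by
  by_contra hne
  have h := d.hub
  have hyQ := F.sing.1
  obtain ⟨-, -, hA, -⟩ := F.orders d
  let S : W → Prop := fun v => ∃ r ∈ Q, r ∈ Q' ∧ F.wof r = v
  have hall : ∀ v, S v := by
    refine irreducible (S := S) ?_ ?_ ⟨p, hp, hp', rfl⟩ hne
    · rintro a b ⟨r, h1, h2, rfl⟩ ⟨r', h1', h2', rfl⟩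
      exact ⟨r * r', mul_mem h1 h1', mul_mem h2 h2', F.wof_mul h h1 h1'⟩
    · rintro π hπ a ⟨r, h1, h2, rfl⟩
      obtain ⟨c, hc, hact⟩ := hA π hπ
      obtain ⟨hcz, hcy⟩ := mem_Dzy.mp hc
      refine ⟨_, h.normalizes c hcz r h1, d'.hub.normalizes c hcy r h2, ?_⟩
      rw [F.wof_conj d hc h1, fl_eq_false.mpr (d'.hub.central r h2), hact]
      exact (add_zero' _).2
  have hm : ∀ v, F.m v ∈ Q' := fun v => by
    obtain ⟨r, h1, h2, hr⟩ := hall v
    obtain ⟨b, e, he⟩ : ∃ b e, r = F.elem false b v e := by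
      obtain ⟨e, he⟩ := F.exists_elem d h1
      rw [fl_eq_false.mpr (d'.hub.central r h2), hr] at he
      exact ⟨_, e, he⟩
    have e' : F.m v = (pw y b)⁻¹ * r * (pw z e)⁻¹ := by rw [he, Frame.elem]; simp [mul_assoc]
    rw [e']
    exact mul_mem (mul_mem (inv_mem (pw_mem d'.hub.mem b)) h2) (inv_mem (pw_mem hz _))
  have e1' := fl_spec h (F.mem f0) (F.mem f1)
  rw [F.m_m, show B f0 f1 = true by decide, pw_true] at e1'
  rcases d'.hub.comm _ (hm f0) _ (hm f1) with e | e
  · exact h.ne_one (mul_left_cancel ((e1'.symm.trans e).trans (mul_one _).symm))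
  · exact F.sing.2.2.2 (mul_left_cancel (e1'.symm.trans e)).symm

/-- Elements of `C_{Q'}(z)` fix `W`, those with `vof = 0` lie in `⟨y, z⟩`. -/
theorem conj_sub [Finite G] (F : Frame z y Q) (d : Data z Q) (d' : Data y Q') (hz : z ∈ Q') {n : G}
    (hn : n ∈ Q') (hnz : Commute n z) : n ∈ Dzy z y ∧ (∀ w, F.actW n w = w) ∧
      (F.vof n = w0 → ∃ a b, n = pw y a * pw z b) := by
  have h := d.hub
  have hny : Commute n y := d'.hub.central n hn
  have hD : n ∈ Dzy z y := mem_Dzy.mpr ⟨hnz, hny⟩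
  have hker : ∀ w, F.actW n w = w := fun w => by
    set t := n * F.m w * n⁻¹ * (F.m w)⁻¹ with ht
    have hQ : t ∈ Q := mul_mem (h.normalizes n hnz _ (F.mem w)) (inv_mem (F.mem w))
    have hQ' : t ∈ Q' := by
      rw [show t = n * (F.m w * n⁻¹ * (F.m w)⁻¹) by rw [ht]; group]
      exact mul_mem hn (d'.hub.normalizes _ (F.comm_y w) _ (inv_mem hn))
    show F.wof (n * F.m w * n⁻¹) = w
    rw [show n * F.m w * n⁻¹ = t * F.m w by rw [ht]; group, F.wof_mul h hQ (F.mem w),
      inter_wof F d d' hz hQ hQ', F.wof_m h]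
    exact (add_zero' w).2
  refine ⟨hD, hker, fun hv => ?_⟩
  have hQ := F.mem_of_vof d hD hker hv
  obtain ⟨e, he⟩ := F.exists_elem d hQ
  rw [fl_eq_false.mpr hny, inter_wof F d d' hz hQ hn] at he
  exact ⟨fl n F.x, e, by simpa [Frame.elem, F.zero] using he⟩

/-- The radical. -/
structure Radical (F : Frame z y Q) where
  n : W → G
  zero : n w0 = 1
  mem : ∀ v, n v ∈ Dzy z y
  act : ∀ v w, F.actW (n v) w = w
  vof : ∀ v, F.vof (n v) = v
  comm : ∀ v w, n v * F.m w * (n v)⁻¹ = F.m w * pw y (B w v) * pw z (B w v)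
  sq : ∀ v, n v * n v = pw y (q v)
  add : ∀ u v, ∃ e, n u * n v = n (add u v) * pw y e
  swap : ∀ u v, n u * n v * (n u)⁻¹ = n v * pw y (B u v)
  gen : ∀ k ∈ Dzy z y, (∀ w, F.actW k w = w) → ∃ v w a b, k = F.m w * n v * pw y a * pw z b
  conj : ∀ c ∈ Dzy z y, ∀ v, ∃ a b, c * n v * c⁻¹ = n (F.actW c v) * pw y a * pw z b
  sing : ∀ v, v ≠ w0 → q v = false → IsConj z (n v)
  h : G
  h_z : h * z * h⁻¹ = y
  h_y : h * y * h⁻¹ = z
  h_m : ∀ w, ∃ v a b, h * F.m w * h⁻¹ = n v * pw y a * pw z b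
  h_n : ∀ v, ∃ w a b, h * n v * h⁻¹ = F.m w * pw y a * pw z b

theorem exists_radical [Finite G] (F : Frame z y Q) (d : Data z Q) {g : G} (hg : g * z * g⁻¹ = y) :
    Nonempty (Radical F) := by
  have h := d.hub
  obtain ⟨hyQ, hy2, hy1, hyz⟩ := F.sing
  have d' := d.conj g
  rw [hg] at d'
  set Q₁ := Q.map (MulAut.conj g).toMonoidHom
  have hz : z ∈ Q₁ := h.self_mem_conj g (hg ▸ hyQ) (hg ▸ hyz)
    (hg ▸ h.exists_noncommuting_pair (by rw [d.cardQ]; norm_num) hyQ hy2)
  obtain ⟨F'⟩ := exists_frame d' (⟨hz, h.sq, h.ne_one, fun e => hyz e.symm⟩ : Sing y Q₁ z)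
  have h' := d'.hub
  have hmin' := F'.qc_eq d'
  obtain ⟨-, -, hA, -⟩ := F.orders d
  have hzy : Commute z y := (h.central y hyQ).symm
  have hsub := fun u => conj_sub F d d' hz (F'.mem u) (F'.comm_y u)
  have hsub' := fun w => conj_sub F' d' d hyQ (F.mem w) (F.comm_y w)
  let φ : W → W := fun u => F.vof (F'.m u)
  let ψ : W → W := fun w => F'.vof (F.m w)
  have vofc : ∀ (a b : Bool) {k : G}, k ∈ Dzy z y → F.vof (k * pw y a * pw z b) = F.vof k := by
    intro a b k hk
    have hp : ∀ p ∈ Q, Commute p y → ∀ k ∈ Dzy z y, F.vof (k * p) = F.vof k := by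
      intro p hp hpy k hk
      obtain ⟨h1, h2, h3⟩ := F.of_mem_Q d hp hpy
      rw [F.vof_mul d hk h1, h3, iso_zero (F.permHom_le d ⟨⟨k, hk⟩, rfl⟩) |> fun e =>
        (show F.actW k w0 = w0 from e)]
      exact (add_zero' _).1
    have hy' : pw y a ∈ Q := pw_mem hyQ a
    have hkp : k * pw y a ∈ Dzy z y :=
      mul_mem hk (mem_Dzy.mpr ⟨h.central _ hy', (pw_commute (Commute.refl y) a).symm⟩)
    rw [hp _ (pw_mem h.mem b) (pw_commute hzy.symm b).symm _ hkp,
      hp _ hy' (pw_commute (Commute.refl y) a).symm _ hk]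
  have φadd : ∀ u v, φ (add u v) = add (φ u) (φ v) := fun u v => by
    obtain ⟨e, he⟩ := F'.m_add u v
    show F.vof (F'.m (add u v)) = add (F.vof _) (F.vof _)
    have := F.vof_mul d (hsub u).1 (hsub v).1
    rw [(hsub u).2.1, he] at this
    rw [← this]
    have e' := vofc e false (hsub (add u v)).1
    rw [pw_false, mul_one] at e'
    exact e'.symm
  have ψadd : ∀ u v, ψ (add u v) = add (ψ u) (ψ v) := fun u v => by
    obtain ⟨e, he⟩ := F.m_add u v
    show F'.vof (F.m (add u v)) = add (F'.vof _) (F'.vof _)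
    have := F'.vof_mul d' (hsub' u).1 (hsub' v).1
    rw [(hsub' u).2.1, he] at this
    rw [← this]
    obtain ⟨h1, h2, h3⟩ := F'.of_mem_Q d' (pw_mem hz e) (pw_commute (Commute.refl z) e).symm
    rw [F'.vof_mul d' (hsub' _).1 h1, h3, (hsub' _).2.1, (add_zero' _).1]
  have φ0 : ∀ u, φ u = w0 → u = w0 := fun u hu => by
    obtain ⟨a, b, e⟩ := (hsub u).2.2 hu
    have := congrArg F'.wof e
    rwa [F'.wof_m h', F'.wof_mul h' (pw_mem h'.mem a) (pw_mem hz b), F'.wof_z h', F'.wof_y h',
      add_self] at this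
  have ψ0 : ∀ w, ψ w = w0 → w = w0 := fun u hu => by
    obtain ⟨a, b, e⟩ := (hsub' u).2.2 hu
    have := congrArg F.wof e
    rwa [F.wof_m h, F.wof_mul h (pw_mem h.mem a) (pw_mem hyQ b), F.wof_z h, F.wof_y h,
      add_self] at this
  have φinj : Function.Injective φ := fun u v e => by
    have h1 : add u v = w0 := φ0 _ (by rw [φadd, e, add_self])
    have h2 := congrArg (add u) h1
    rwa [← add_assoc', add_self, (add_zero' _).2, (add_zero' _).1, eq_comm] at h2
  let P : W ≃ W := Equiv.ofBijective φ (Finite.injective_iff_bijective.mp φinj)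
  have Padd : ∀ u v, P.symm (add u v) = add (P.symm u) (P.symm v) := fun u v => φinj (by
    rw [φadd]
    show P _ = add (P _) (P _)
    simp)
  -- the commutator in both pictures
  have mn : ∀ u w, F'.m u * F.m w * (F'.m u)⁻¹ = F.m w * pw y (B w (φ u)) * pw z (B u (ψ w)) := by
    intro u w
    obtain ⟨e, he⟩ := F.conj_m_ker d (hsub u).1 (hsub u).2.1 w
    obtain ⟨e', he'⟩ := F'.conj_m_ker d' (hsub' w).1 (hsub' w).2.1 u
    have he : F'.m u * F.m w * (F'.m u)⁻¹ = F.m w * pw y (B w (φ u)) * pw z e := by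
      rw [he]
      simp only [Frame.elem, pw_false, one_mul]
      rw [(pw_commute (F.comm_y w) (B w (φ u))).eq]
    have he' : F.m w * F'.m u * (F.m w)⁻¹ = F'.m u * pw z (B u (ψ w)) * pw y e' := by
      rw [he']
      simp only [Frame.elem, pw_false, one_mul]
      rw [(pw_commute (F'.comm_y u) (B u (ψ w))).eq]
    set n := F'.m u
    set m := F.m w
    set Y := pw y (B w (φ u))
    set Y' := pw y e'
    set Z := pw z e
    set Z' := pw z (B u (ψ w))
    have hnY : Commute n Y := pw_commute (h'.central n (F'.mem u)) _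
    have hnZ : Commute n Z := pw_commute (F'.comm_y u) _
    have a1 : n * m = m * n * (Y * Z) := by
      calc n * m = n * m * n⁻¹ * n := by group
        _ = m * (Y * Z * n) := by rw [he]; group
        _ = m * (n * (Y * Z)) := by rw [((hnY.mul_right hnZ)).eq]
        _ = _ := by group
    have hmY' : Commute m Y' := pw_commute (F.comm_y w) _
    have hmZ' : Commute m Z' := pw_commute (h.central m (F.mem w)) _
    have a2 : m * n = n * m * (Z' * Y') := by
      calc m * n = m * n * m⁻¹ * m := by group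
        _ = n * (Z' * Y' * m) := by rw [he']; group
        _ = n * (m * (Z' * Y')) := by rw [(hmZ'.mul_right hmY').eq]
        _ = _ := by group
    have hcz : Commute Z' Y' := pw_commute ((pw_commute hzy.symm (B u (ψ w))).symm) _
    have a3 : pw y false * pw z false = pw y (xor e' (B w (φ u))) * pw z (xor (B u (ψ w)) e) := by
      rw [← pw_mul hy2, ← pw_mul h.sq]
      have := a1
      rw [a2, mul_assoc (n * m)] at this
      have h1 : (1 : G) = Z' * Y' * (Y * Z) := mul_left_cancel (((mul_one (n * m)).trans this))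
      have hc2 : Commute Z' (Y' * Y) := hcz.mul_right (pw_commute ((pw_commute hzy.symm (B u (ψ w))).symm) _)
      rw [pw_false, pw_false, one_mul, h1]
      calc Z' * Y' * (Y * Z) = Z' * (Y' * Y) * Z := by group
        _ = Y' * Y * Z' * Z := by rw [hc2.eq]
        _ = _ := by simp only [Y, Y', Z, Z']; group
    have e2 := (pw_yz_inj h F.sing a3).2
    have e3 : B u (ψ w) = e := by revert e2; cases B u (ψ w) <;> cases e <;> simp
    rw [he]
    simp only [Z, Z', e3]
  let T : W → W := fun u => dual (B u (ψ f0), B u (ψ f1), B u (ψ f2), B u (ψ f3), B u (ψ f4), B u (ψ f5))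
  have hT : ∀ u w, B w (T u) = B u (ψ w) := by
    intro u w
    have h1 : ∀ (a : Bool) (p : W), B u (smul a (ψ p)) = (a && B u (ψ p)) := fun a p => by
      cases a
      exacts [B_w0 u, (Bool.true_and _).symm]
    rw [lin_of_additive ψadd w]
    obtain ⟨a, b, c, e, f, g⟩ := w
    simp only [lin, B_add_right, h1]
    exact dual_vec _ _
  let R : W → W := fun v => T (P.symm v)
  have Tadd : ∀ u v, T (add u v) = add (T u) (T v) := fun u v => by
    simp only [T, B_add]
    rw [← dual_add]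
    simp only [add]
  have Radd : ∀ u v, R (add u v) = add (R u) (R v) := fun u v => by
    simp only [R, Padd, Tadd]
  have hconj : ∀ c ∈ Dzy z y, ∀ u, ∃ a b, c * F'.m u * c⁻¹ = F'.m (F'.actW c u) * pw y a * pw z b ∧
      φ (F'.actW c u) = F.actW c (φ u) := by
    intro c hc u
    obtain ⟨b, a, he⟩ := F'.conj_m d' (Dzy_symm hc) u
    have he : c * F'.m u * c⁻¹ = F'.m (F'.actW c u) * pw y a * pw z b := by
      rw [he]
      simp only [Frame.elem, pw_false, one_mul]
      rw [(pw_commute (F'.comm_y _) b).eq.symm, mul_assoc, mul_assoc,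
        (pw_commute (pw_commute hzy a).symm b).eq]
    refine ⟨a, b, he, ?_⟩
    have h1 := F.vof_mul d (mul_mem hc (hsub u).1) (inv_mem hc)
    rw [he, vofc a b (hsub _).1, F.vof_mul d hc (hsub u).1, F.actW_mul d hc (hsub u).1,
      (hsub u).2.1, add_comm' (F.vof c), add_assoc', ← F.vof_mul d hc (inv_mem hc), mul_inv_cancel,
      F.vof_one d, (add_zero' _).1] at h1
    exact h1
  have hequiv : ∀ c ∈ Dzy z y, ∀ v, P.symm (F.actW c v) = F'.actW c (P.symm v) ∧
      R (F.actW c v) = F.actW c (R v) := by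
    intro c hc v
    obtain ⟨a, b, he, hφ⟩ := hconj c hc (P.symm v)
    have hp : P.symm (F.actW c v) = F'.actW c (P.symm v) := φinj (by
      rw [hφ]; show P _ = F.actW c (P _); simp)
    refine ⟨hp, ?_⟩
    have key : ∀ w, B (F.actW c w) (R (F.actW c v)) = B w (R v) := by
      intro w
      obtain ⟨hcz, hcy⟩ := mem_Dzy.mp hc
      obtain ⟨b₁, e₁, hm⟩ := F.conj_m d hc w
      have e0 := congrArg (fun t => c * t * c⁻¹) (mn (P.symm v) w)
      set u := P.symm v
      set u' := F'.actW c u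
      set w' := F.actW c w
      have hm : c * F.m w * c⁻¹ = F.m w' * pw y b₁ * pw z e₁ := by
        rw [hm]
        simp only [Frame.elem, pw_false, one_mul]
        rw [(pw_commute (F.comm_y w') b₁).eq]
      have k1 : c * (F'.m u * F.m w * (F'.m u)⁻¹) * c⁻¹ =
          (c * F'.m u * c⁻¹) * (c * F.m w * c⁻¹) * (c * F'.m u * c⁻¹)⁻¹ := by group
      have k2 : c * (F.m w * pw y (B w (φ u)) * pw z (B u (ψ w))) * c⁻¹ =
          (c * F.m w * c⁻¹) * (c * pw y (B w (φ u)) * c⁻¹) * (c * pw z (B u (ψ w)) * c⁻¹) := by group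
      have fixe : ∀ x : G, Commute x y → Commute x z → ∀ s t, Commute x (pw y s * pw z t) :=
        fun x hx hx' s t => (pw_commute hx s).mul_right (pw_commute hx' t)
      rw [k1, k2, he, hm, conj_of_commute (pw_commute hcy _), conj_of_commute (pw_commute hcz _)] at e0
      have hn' : Commute (F'.m u') (pw y b₁ * pw z e₁) :=
        fixe _ (h'.central _ (F'.mem _)) (F'.comm_y _) _ _
      have hm' : Commute (F.m w') (pw y a * pw z b) := fixe _ (F.comm_y _) (h.central _ (F.mem _)) _ _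
      have hyz' : Commute (pw y a * pw z b) (pw y b₁ * pw z e₁) :=
        fixe _ ((pw_commute (Commute.refl y) a).symm.mul_left (pw_commute hzy.symm b).symm)
          ((pw_commute hzy a).symm.mul_left (pw_commute (Commute.refl z) b).symm) _ _
      have k3 : F'.m u' * pw y a * pw z b * (F.m w' * pw y b₁ * pw z e₁) *
          (F'.m u' * pw y a * pw z b)⁻¹ =
          F'.m u' * F.m w' * (F'.m u')⁻¹ * (pw y b₁ * pw z e₁) := by
        calc _ = F'.m u' * ((pw y a * pw z b) * (F.m w' * (pw y b₁ * pw z e₁))) *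
              (pw y a * pw z b)⁻¹ * (F'.m u')⁻¹ := by group
          _ = F'.m u' * ((F.m w' * (pw y b₁ * pw z e₁)) * (pw y a * pw z b)) *
              (pw y a * pw z b)⁻¹ * (F'.m u')⁻¹ := by rw [(hm'.symm.mul_right hyz').eq]
          _ = F'.m u' * F.m w' * ((pw y b₁ * pw z e₁) * (F'.m u')⁻¹) := by group
          _ = _ := by rw [hn'.inv_left.eq.symm]; group
      rw [k3, mn u' w'] at e0
      set A := B w' (φ u')
      set A' := B u' (ψ w')
      set C := B w (φ u)
      set C' := B u (ψ w)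
      have e3 : pw y (xor A b₁) * pw z (xor A' e₁) = pw y (xor b₁ C) * pw z (xor e₁ C') := by
        rw [← pw_mul hy2, ← pw_mul hy2, ← pw_mul h.sq, ← pw_mul h.sq]
        refine mul_left_cancel (a := F.m w') ?_
        have sw : ∀ s t, Commute (pw z s) (pw y t) := fun s t =>
          pw_commute (pw_commute hzy.symm s).symm t
        calc _ = F.m w' * pw y A * (pw y b₁ * pw z A') * pw z e₁ := by group
          _ = F.m w' * pw y A * pw z A' * (pw y b₁ * pw z e₁) := by rw [← (sw A' b₁).eq]; group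
          _ = F.m w' * pw y b₁ * (pw z e₁ * pw y C) * pw z C' := by rw [e0]; group
          _ = _ := by rw [(sw e₁ C).eq]; group
      have e4 := (pw_yz_inj h F.sing e3).2
      simp only [R, hT, hp]
      show A' = C'
      revert e4; cases A' <;> cases C' <;> cases e₁ <;> simp
    have key2 : ∀ w', B w' (R (F.actW c v)) = B w' (F.actW c (R v)) := by
      intro w'
      have hw : F.actW c (F.actW c⁻¹ w') = w' := by
        rw [← F.actW_mul d hc (inv_mem hc), mul_inv_cancel, F.actW_one d]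
      rw [← hw, key]
      exact (iso_B (F.permHom_le d ⟨⟨c, hc⟩, rfl⟩) _ _).symm
    exact B_ext _ _ (key2 _) (key2 _) (key2 _) (key2 _) (key2 _) (key2 _)
  have Rid : ∀ v, R v = v := by
    have R0 : R rN = rN := by
      rcases stab_fixed (R rN) fun i => by
        obtain ⟨c, hc, hact⟩ := hA _ (sign_stab i)
        have := (hequiv c hc rN).2
        rwa [hact, stab_fixes, hact, eq_comm] at this
        with e | e
      · exfalso
        have hz' : ∀ w, ψ w = w0 → w = w0 := ψ0
        -- `ψ` is onto, so `T` is injective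
        have ψinj : Function.Injective ψ := fun u v e' => by
          have h1 : add u v = w0 := ψ0 _ (by rw [ψadd, e', add_self])
          have h2 := congrArg (add u) h1
          rwa [← add_assoc', add_self, (add_zero' _).2, (add_zero' _).1, eq_comm] at h2
        obtain ⟨x', hx'⟩ := B_exists (P.symm rN) fun e' => (show rN ≠ w0 by decide) (by
          rw [← P.apply_symm_apply rN, e']
          show φ w0 = w0
          show F.vof (F'.m w0) = w0
          rw [F'.zero, F.vof_one d])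
        obtain ⟨w, hw⟩ := (Finite.injective_iff_bijective.mp ψinj).2 x'
        rw [← hw, B_symm, ← hT] at hx'
        simp only [R] at e
        rw [e, B_w0] at hx'
        exact Bool.false_ne_true hx'
      · exact e
    have Rpt : ∀ v, q v = true → R v = v := fun v hv => by
      obtain ⟨π, hπ, h0⟩ := even_orbit_N hv
      obtain ⟨c, hc, hact⟩ := hA π hπ
      have := (hequiv c hc rN).2
      rwa [hact, h0, R0, hact, h0] at this
    intro v
    rw [lin_of_additive Radd v, Rpt f0 (by decide), Rpt f1 (by decide), Rpt f2 (by decide),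
      Rpt f3 (by decide), Rpt f4 (by decide), Rpt f5 (by decide)]
    exact (decomp v).symm
  have hq : ∀ v, q (P.symm v) = q v := by
    have hinv : ∀ π : Equiv.Perm (Fin 8), Equiv.Perm.sign π = 1 → ∀ v,
        q (P.symm (act π v)) = q (P.symm v) := by
      intro π hπ v
      obtain ⟨c, hc, hact⟩ := hA π hπ
      rw [← hact, (hequiv c hc v).1, ← hmin', F'.actW_q d' (Dzy_symm hc), hmin']
    have hz0 : P.symm w0 = w0 := φinj (by
      show P (P.symm w0) = φ w0
      rw [P.apply_symm_apply]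
      show w0 = F.vof (F'.m w0)
      rw [F'.zero, F.vof_one d])
    set a := q (P.symm rS) with ha
    set b := q (P.symm rN) with hb
    have hr : ∀ v, q (P.symm v) = cond (decide (v = w0)) false (cond (q v) b a) := by
      intro v
      by_cases hv : v = w0
      · subst hv; rw [hz0]; rfl
      · rw [decide_eq_false hv, cond_false]
        cases hqv : q v
        · obtain ⟨π, hπ, hπv⟩ := even_orbit_S hqv hv
          rw [← hπv, hinv π hπ]; rfl
        · obtain ⟨π, hπ, hπv⟩ := even_orbit_N hqv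
          rw [← hπv, hinv π hπ]; rfl
    obtain ⟨ea, eb⟩ := invariant_form a b (by
      refine Eq.trans ?_ zeros_plus
      refine Finset.card_equiv P.symm fun u => ?_
      simp only [Finset.mem_filter, Finset.mem_univ, true_and, hr u])
    intro v
    rw [hr v, ea, eb]
    by_cases hv : v = w0
    · rw [hv]; rfl
    · rw [decide_eq_false hv]; cases q v <;> rfl
  have hB : ∀ u v, B (P.symm u) (P.symm v) = B u v := fun u v => by
    have e1 := q_add (P.symm u) (P.symm v)
    rw [← Padd, hq, hq, hq, q_add u v] at e1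
    revert e1; cases q u <;> cases q v <;> simp <;> exact fun e => e.symm
  obtain ⟨htrans, -⟩ := F'.orders d'
  obtain ⟨hh, hh_z, hh_y, hh_mem⟩ : ∃ hh, hh * z * hh⁻¹ = y ∧ hh * y * hh⁻¹ = z ∧
      ∀ p, p ∈ Q₁ ↔ hh⁻¹ * p * hh ∈ Q := by
    have e1 : Sing y Q₁ (g * y * g⁻¹) := ⟨LargeExtraspecial.mem_conj_iff.mpr (by simpa [mul_assoc] using hyQ),
      conj_sq hy2, fun e => hy1 (by simpa using e), fun e => hyz (by
        have := hg.trans e.symm
        exact (mul_left_cancel (mul_right_cancel this)).symm)⟩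
    obtain ⟨c, hcy, hc⟩ := htrans _ e1
    refine ⟨c⁻¹ * g, ?_, ?_, fun p => ?_⟩
    · rw [show c⁻¹ * g * z * (c⁻¹ * g)⁻¹ = c⁻¹ * (g * z * g⁻¹) * c⁻¹⁻¹ by group, hg,
        conj_of_commute hcy.inv_left]
    · rw [show c⁻¹ * g * y * (c⁻¹ * g)⁻¹ = c⁻¹ * (g * y * g⁻¹) * c by group, ← hc]; group
    · rw [show (c⁻¹ * g)⁻¹ * p * (c⁻¹ * g) = g⁻¹ * (c * p * c⁻¹) * g by group,
        ← LargeExtraspecial.mem_conj_iff (Q := Q)]
      refine ⟨h'.normalizes c hcy p, fun hp => ?_⟩
      simpa [mul_assoc] using h'.normalizes c⁻¹ hcy.inv_left _ hp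
  have nspec : ∀ v, F.vof (F'.m (P.symm v)) = v := fun v => P.apply_symm_apply v
  refine ⟨{ n := fun v => F'.m (P.symm v), zero := ?_, mem := fun v => (hsub _).1,
            act := fun v w => (hsub _).2.1 w, vof := nspec, comm := fun v w => ?_, sq := fun v => ?_,
            add := fun u v => ?_, swap := fun u v => ?_, gen := fun k hk hk' => ?_,
            conj := fun c hc v => ?_, sing := fun v hv hqv => ?_, h := hh, h_z := hh_z, h_y := hh_y,
            h_m := fun w => ?_, h_n := fun v => ?_ }⟩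
  · have hz0 : P.symm w0 = w0 := φinj (by
      show P (P.symm w0) = φ w0
      rw [P.apply_symm_apply]
      show w0 = F.vof (F'.m w0)
      rw [F'.zero, F.vof_one d])
    show F'.m (P.symm w0) = 1
    rw [hz0, F'.zero]
  · rw [mn, show φ (P.symm v) = v from nspec v, ← hT (P.symm v) w, show T (P.symm v) = v from Rid v]
  · rw [F'.m_sq, hmin', hq]
  · obtain ⟨e, he⟩ := F'.m_add (P.symm u) (P.symm v)
    exact ⟨e, by rw [Padd]; exact he⟩
  · rw [fl_spec h' (F'.mem _) (F'.mem _), F'.m_m, hB]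
  · obtain ⟨n₁, hn₁⟩ : ∃ n₁, n₁ = F'.m (P.symm (F.vof k)) := ⟨_, rfl⟩
    have hD := (hsub (P.symm (F.vof k))).1
    have hk1 : k * n₁⁻¹ ∈ Dzy z y := mul_mem hk (inv_mem (hn₁ ▸ hD))
    have hact1 : ∀ w, F.actW (k * n₁⁻¹) w = w := fun w => by
      rw [F.actW_mul d hk (inv_mem (hn₁ ▸ hD)), hk']
      conv_lhs => rw [← (hsub (P.symm (F.vof k))).2.1 w, ← hn₁]
      rw [← F.actW_mul d (inv_mem (hn₁ ▸ hD)) (hn₁ ▸ hD), inv_mul_cancel, F.actW_one d]
    have hv1 : F.vof (k * n₁⁻¹) = w0 := by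
      have e := F.vof_mul d hk1 (hn₁ ▸ hD)
      rw [inv_mul_cancel_right, hact1, hn₁, nspec] at e
      rw [hn₁]
      have h2 := congrArg (fun t => add t (F.vof k)) e
      rwa [add_self, add_assoc', add_self, (add_zero' _).1, eq_comm] at h2
    have hQ := F.mem_of_vof d hk1 hact1 hv1
    obtain ⟨e, he⟩ := F.exists_elem d hQ
    rw [fl_eq_false.mpr (mem_Dzy.mp hk1).2] at he
    set w := F.wof (k * n₁⁻¹)
    set b := fl (k * n₁⁻¹) F.x
    refine ⟨F.vof k, w, b, e, ?_⟩
    rw [← hn₁]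
    have hny : Commute n₁ (pw y b * pw z e) :=
      (pw_commute (mem_Dzy.mp (hn₁ ▸ hD)).2 b).mul_right (pw_commute (mem_Dzy.mp (hn₁ ▸ hD)).1 e)
    calc k = k * n₁⁻¹ * n₁ := by group
      _ = F.m w * (pw y b * pw z e) * n₁ := by
        rw [he, Frame.elem]
        simp only [pw_false, one_mul]
        rw [← (pw_commute (F.comm_y w) b).eq]
        group
      _ = F.m w * (n₁ * (pw y b * pw z e)) := by rw [hny.eq]; group
      _ = _ := by group
  · obtain ⟨a, b, he, -⟩ := hconj c hc (P.symm v)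
    exact ⟨a, b, by rw [he, (hequiv c hc v).1]⟩
  · have hu : P.symm v ≠ w0 := fun e => hv (by
      rw [← P.apply_symm_apply v, e]
      show F.vof (F'.m w0) = w0
      rw [F'.zero, F.vof_one d])
    have hne : ∀ e, F'.m (P.symm v) ≠ pw y e := fun e he => hu (by
      have := congrArg F'.wof he
      rwa [F'.wof_m h', F'.wof_z h'] at this)
    obtain ⟨c, -, hc⟩ := htrans (F'.m (P.symm v)) ⟨F'.mem _, by rw [F'.m_sq, hmin', hq, hqv]; rfl,
      hne false, hne true⟩
    exact isConj_iff.mpr ⟨c, hc⟩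
  · have hp : hh * F.m w * hh⁻¹ ∈ Q₁ := (hh_mem _).mpr (by simpa [mul_assoc] using F.mem w)
    have hpz : Commute (hh * F.m w * hh⁻¹) z := hh_y ▸ (F.comm_y w).map (MulAut.conj hh).toMonoidHom
    obtain ⟨e, he⟩ := F'.exists_elem d' hp
    rw [fl_eq_false.mpr hpz] at he
    refine ⟨φ (F'.wof (hh * F.m w * hh⁻¹)), e, fl (hh * F.m w * hh⁻¹) F'.x, ?_⟩
    refine he.trans ?_
    rw [show P.symm (φ (F'.wof _)) = _ from P.symm_apply_apply _]
    set u := F'.wof (hh * F.m w * hh⁻¹)
    set b := fl (hh * F.m w * hh⁻¹) F'.x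
    simp only [Frame.elem, pw_false, one_mul]
    have c1 : Commute (pw z b) (F'.m u * pw y e) :=
      (pw_commute (F'.comm_y u) b).symm.mul_right (pw_commute (pw_commute hzy.symm b).symm e)
    rw [mul_assoc, c1.eq]
  · obtain ⟨r, hr, hr'⟩ : ∃ r ∈ Q, hh * r * hh⁻¹ = F'.m (P.symm v) :=
      ⟨_, (hh_mem _).mp (F'.mem (P.symm v)), by group⟩
    have h2z : Commute (hh * hh) z := mul_inv_eq_iff_eq_mul.mp (by
      rw [show hh * hh * z * (hh * hh)⁻¹ = hh * (hh * z * hh⁻¹) * hh⁻¹ by group, hh_z, hh_y])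
    have hp : hh * F'.m (P.symm v) * hh⁻¹ ∈ Q := by
      rw [← hr', show hh * (hh * r * hh⁻¹) * hh⁻¹ = hh * hh * r * (hh * hh)⁻¹ by group]
      exact h.normalizes _ h2z r hr
    have hpy : Commute (hh * F'.m (P.symm v) * hh⁻¹) y :=
      hh_z ▸ (F'.comm_y (P.symm v)).map (MulAut.conj hh).toMonoidHom
    obtain ⟨e, he⟩ := F.exists_elem d hp
    rw [fl_eq_false.mpr hpy] at he
    refine ⟨F.wof (hh * F'.m (P.symm v) * hh⁻¹), fl (hh * F'.m (P.symm v) * hh⁻¹) F.x, e, ?_⟩
    refine he.trans ?_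
    simp only [Frame.elem, pw_false, one_mul]
    rw [(pw_commute (F.comm_y _) _).eq]

end Cfsg.Agent.ConwayType
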